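import Cfsg.Agent.Lib.DCE.Ly.H.QTab
import Cfsg.Agent.Lib.DCE.Ly.H.QC0
import Cfsg.Agent.Lib.DCE.Ly.H.QC1
import Cfsg.Agent.Lib.DCE.Ly.H.QP0
import Cfsg.Agent.Lib.DCE.Ly.H.QP1
import Cfsg.Agent.Lib.DCE.Ly.H.QP2
import Cfsg.Agent.Lib.DCE.Ly.H.QP3
import Cfsg.Agent.Lib.DCE.Ly.H.QP4

namespace Cfsg.Agent.Lib.DCE.Ly.H.QOk

open Cfsg.Agent.Lib.TC.Core Cfsg.Agent.Lib.TC.Enc Cfsg.Agent.Lib.TC.Pres Cfsg.Agent.Lib.TC.Perm Cfsg.Agent.Lib.TC.Main Cfsg.Agent.Lib.TC.Chain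

set_option maxRecDepth 100000

open Cfsg.Agent.Lib.DCE.Ly.H.QTab Cfsg.Agent.Lib.DCE.Ly.H.Rels

theorem allC0 : cert.chkRange 0 5000 = true := Cfsg.Agent.Lib.DCE.Ly.H.QC0.ok
theorem allF0 : cert.chkFinal 0 5000 = true := Cfsg.Agent.Lib.DCE.Ly.H.QC0.fin
theorem allC1 : cert.chkRange 0 5571 = true := Cert.chkRange_join (lo := 0) (a := 5000) (b := 571) _ allC0 Cfsg.Agent.Lib.DCE.Ly.H.QC1.ok
theorem allF1 : cert.chkFinal 0 5571 = true := Cert.chkFinal_join (lo := 0) (a := 5000) (b := 571) _ allF0 Cfsg.Agent.Lib.DCE.Ly.H.QC1.fin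

theorem h0 : cert.eLvl (cert.par (cert.find cert.MAX cert.D 0)) = cert.MAX := by decide +kernel

theorem hcount : cert.countRoots cert.N = 3906 := by
  rw [countRoots_eq_acc]
  decide +kernel

theorem hchecked : Checked cert where
  hN := by decide
  hC := allC1
  hF := allF1
  h0 := h0

theorem allP0 : pt.chkRange rels 0 900 = true := Cfsg.Agent.Lib.DCE.Ly.H.QP0.ok
theorem allP1 : pt.chkRange rels 0 1800 = true := PT.chkRange_join (lo := 0) (a := 900) (b := 900) _ allP0 Cfsg.Agent.Lib.DCE.Ly.H.QP1.ok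
theorem allP2 : pt.chkRange rels 0 2700 = true := PT.chkRange_join (lo := 0) (a := 1800) (b := 900) _ allP1 Cfsg.Agent.Lib.DCE.Ly.H.QP2.ok
theorem allP3 : pt.chkRange rels 0 3600 = true := PT.chkRange_join (lo := 0) (a := 2700) (b := 900) _ allP2 Cfsg.Agent.Lib.DCE.Ly.H.QP3.ok
theorem allP4 : pt.chkRange rels 0 3906 = true := PT.chkRange_join (lo := 0) (a := 3600) (b := 306) _ allP3 Cfsg.Agent.Lib.DCE.Ly.H.QP4.ok

theorem hgood : pt.Good rels where
  hpos := by decide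
  hinv := by decide +kernel
  hrels := by decide +kernel
  hchk := allP4

/-- The index of `⟨a, b, c⟩`. -/
theorem ok : Ok K Rel cert pt rels subs witT.get where
  hK := valid
  hCk := by decide
  hPk := by decide
  hPinv := fun _ => rfl
  hR := hR
  hrels := hrels
  hG := hgood
  hsubk := by decide +kernel
  hsub0 := by decide +kernel
  h1 := by decide +kernel
  h2 := by decide +kernel
  hC := hchecked
  hcount := hcount

/-- The first stage of the chain of subgroups. -/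
theorem stage : Lt (K.E Rel) ls ≤ Lt (K.E Rel) lsAll ∧
    Nat.card (Lt (K.E Rel) lsAll) = Nat.card (Lt (K.E Rel) ls) * (Lt (K.E Rel) ls).relIndex (Lt (K.E Rel) lsAll) ∧
    (Lt (K.E Rel) ls).relIndex (Lt (K.E Rel) lsAll) ≠ 0 ∧ (Lt (K.E Rel) ls).relIndex (Lt (K.E Rel) lsAll) ≤ 3906 :=
  stage_of_cols valid hrels lsAll ls (Cfsg.Agent.Lib.DCE.Pres.invC 5) rels subs witT.get cert 3906
    (by decide +kernel) (by decide) (by decide +kernel) (by decide +kernel) (by decide +kernel) hchecked hcount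

end Cfsg.Agent.Lib.DCE.Ly.H.QOk
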