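import Cfsg.Agent.Lib.DCE.Ly.H.Rels
import Cfsg.Agent.Lib.TC.Chain
import Cfsg.Agent.Lib.DCE.Ly.H.QCT
import Cfsg.Agent.Lib.DCE.Ly.H.QPT

namespace Cfsg.Agent.Lib.DCE.Ly.H.QTab

open Cfsg.Agent.Lib.TC.Core Cfsg.Agent.Lib.TC.Enc Cfsg.Agent.Lib.TC.Pres Cfsg.Agent.Lib.TC.Perm Cfsg.Agent.Lib.TC.Main Cfsg.Agent.Lib.TC.Chain

set_option maxRecDepth 100000

/-- The chunks. -/
noncomputable def ctree : Tr Nat := Cfsg.Agent.Lib.DCE.Ly.H.QCT.tree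

/-- The relator rotations. -/
noncomputable def rotT : Tr (List Nat) := (Tr.node (Tr.node (Tr.node (Tr.node (Tr.node (Tr.node (Tr.node (Tr.node (Tr.node (Tr.node (Tr.leaf []) (Tr.leaf [0,7,5,8,7,6,5,1,8,7,8,4,1,1,0,2,5,7])) (Tr.node (Tr.leaf [1,7,2,0,2,5,7,0,7,5,2,0,2,5,7,0,7,5,6,2,1,2,6,7]) (Tr.leaf [3,5,5,5,5,3]))) (Tr.node (Tr.node (Tr.leaf [7,5,7,0,2,5,2,0,2,5,7,0,7,7,5,0,2,5,2,0]) (Tr.leaf [1,2,5,7,0,7,5,6,2,1,4,0,0,4,5,6,6,5])) (Tr.node (Tr.leaf [1,7,7,6,0,1,7,6,5,6,2,1,2]) (Tr.leaf [])))) (Tr.node (Tr.node (Tr.node (Tr.leaf [1,5,6,0,1,5,6,0,1,5,6,0]) (Tr.leaf [6,7,1,7,0,2,1,1,4,1,7,6,9,5])) (Tr.node (Tr.leaf [6,2,1,1,2,6,6,7,1,1,7,6,0,2,5,2,0,7,5,7]) (Tr.leaf [9,4]))) (Tr.node (Tr.node (Tr.leaf [5,7,6,2,1,2,0,2,5,7,0,7,5,6,7,1,0,2,5,2,0,7])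 (Tr.leaf [6,5,1,5,9,6,7,1,0,2,5,2,0,7,0,9,5,6])) (Tr.node (Tr.leaf [6,0,7,5,1,7,6,6,2,1,2,6,2,1,1,0,2,5]) (Tr.leaf []))))) (Tr.node (Tr.node (Tr.node (Tr.node (Tr.leaf [5,6,5,6,5,6,5,6]) (Tr.leaf [6,2,4,2,9,7,6])) (Tr.node (Tr.leaf [2,0,2,5,7,0,7,5,0,2,5,1,2,6,0,7,5,1,7,6]) (Tr.leaf [2,5,2,0,7,5,7,3,2,0,2,5,7,0,7,5,3,0,2,5,2,0,7,5,7,3,5]))) (Tr.node (Tr.node (Tr.leaf [7,1,2,6,2,0,2,5,7,0,7,5,1,7,6,0,2,5,2,0,7,5]) (Tr.leaf [1,9,7,1,2,6,6,2,2,1,4])) (Tr.node (Tr.leaf [0,7,5,2,0,6,7,1,5,6,2,1,2,6,2,1,1,7,6]) (Tr.leaf [])))) (Tr.node (Tr.node (Tr.node (Tr.leaf [2,0,7,5,2,0,2,5,7,0,7,5,7,0,2,5]) (Tr.leaf [6,7,6,2,1,4,0,2,5,2,0,7,5,7,9,7,1,2])) (Tr.node (Tr.leaf [2,5,5,2,2,0,0]) (Tr.leaf []))) (Tr.node (Tr.node (Tr.leaf [0,2,5,2,0,7,5,7,0,2,5,2,0,7,5,7,1,2,6,2,1,7,6,7])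 (Tr.leaf [5,1,7,6,5,5,5,9,0,7,5,9,0,2,5,9,0,7,5,6,2,1])) (Tr.node (Tr.leaf [1,7,6,7,7,6,6,2,1,2,2,1]) (Tr.leaf [])))))) (Tr.node (Tr.node (Tr.node (Tr.node (Tr.node (Tr.leaf [1,1,1,1,1]) (Tr.leaf [6,0,1,2,3,0,2,5,2,0,7,5,6,6,9,3,2,3])) (Tr.node (Tr.leaf [6,0,2,5,1,7,6,0,7,5,0,2,5,2,0,7,5,7,1,2]) (Tr.leaf [5,5,3,0,8,5]))) (Tr.node (Tr.node (Tr.leaf [0,7,5,7,0,7,5,2,0,2,5,7,0,7,5,0,2,2,5,2]) (Tr.leaf [5,2,0,7,6,0,1,1,0,9,5,5,9,6,7,1,0,2])) (Tr.node (Tr.leaf [1,5,7,0,2,5,1,2,6,6,7,1,7,6,7,1,0,6,2]) (Tr.leaf [])))) (Tr.node (Tr.node (Tr.node (Tr.leaf [5,7,0,2,5,2,0,7,5,7,0,2,5,2,0,7,5,7,0,2,5,2,0,7,5,7,0,2,5,2,0,7,5,7,0,2,5,2,0,7]) (Tr.leaf [2,1,9,6,2,6,6,7,1,4,6])) (Tr.node (Tr.leaf [1,7,6,6,7,1,2,0,2,5,7,0,7,5,1,2,6,6,2,1]) (Tr.leaf [])))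 (Tr.node (Tr.node (Tr.leaf [2,1,0,2,5,2,0,7,5,7,6,7,1,2,0,2,5,7,0,7,5,6]) (Tr.leaf [5,4,0,2,5,4,0,0,0,1,2,6,0,6,7,1,0,2,5,4,0,7])) (Tr.node (Tr.leaf [0,2,5,1,0,7,5,6,6,7,1,7,6,7,1,1,2,6]) (Tr.leaf []))))) (Tr.node (Tr.node (Tr.node (Tr.node (Tr.leaf [6,0,0,1,5,5]) (Tr.leaf [2,6,2,1,0,4,1,2,6,9,6,6,7,5])) (Tr.node (Tr.leaf [0,2,5,6,2,1,0,7,5,6,7,1]) (Tr.leaf [8,2,0,2,5,7,0,7,0,8,2,0,2,5,7,0,7,5,8,0,2,5,2,0,7,5,7]))) (Tr.node (Tr.node (Tr.leaf [6,0,2,5,2,0,7,5,7,1,7,6,2,0,2,5,7,0,7,5,1,2]) (Tr.leaf [7,0,7,5,6,2,1,4,0,6,0,1,1,0,4,5,2,5])) (Tr.node (Tr.leaf [0,7,5,7,0,2,5,2,0,7,5,7,0,2,0,2,5,7,0,7,5,2,5,2]) (Tr.leaf [])))) (Tr.node (Tr.node (Tr.node (Tr.leaf [5,2,0,7,5,7,0,2,5,7,0,7,5,2,0,2]) (Tr.leaf [5,7,0,7,5,9,6,7,1,2,1,7,6,2,4,2,0,2]))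 (Tr.node (Tr.leaf [7,1,0,1,2,6,5,1,2,2,6,7,6]) (Tr.leaf []))) (Tr.node (Tr.node (Tr.leaf [1,2,6,7,1,7,6,2,0,2,5,7,0,7,5,2,0,2,5,7,0,7,5,2]) (Tr.leaf [7,4,0,4,0,2,0,2,5,7,0,7,5,6,7,1,7,6,5,1,1,0,8,4,1,0])) (Tr.node (Tr.leaf [2,0,7,5,7,6,2,0,2,5,7,0,7,5,1,0,2,5]) (Tr.leaf []))))))) (Tr.node (Tr.node (Tr.node (Tr.node (Tr.node (Tr.node (Tr.leaf [5,5,5,5,5,5,5,5]) (Tr.leaf [8,7,8,4,1,1,0,2,5,7,0,7,5,8,7,6,5,1])) (Tr.node (Tr.leaf [2,5,2,0,7,5,7,0,2,5,2,0,7,5,7,2,6,2,1,7,6,7,1,0]) (Tr.leaf [1,8,6,3]))) (Tr.node (Tr.node (Tr.leaf [2,5,7,0,7,7,5,0,2,5,2,0,7,5,7,0,2,5,2,0]) (Tr.leaf [0,0,4,5,6,6,5,1,2,5,7,0,7,5,6,2,1,4])) (Tr.node (Tr.leaf [1,2,6,6,7,1,7,6,7,1,0,6,2,1,5,7,0,2,5]) (Tr.leaf [])))) (Tr.node (Tr.node (Tr.node (Tr.leaf [7,7,7,7,7]) (Tr.leaf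 [6,2,6,6,7,1,4,6,2,1,9])) (Tr.node (Tr.leaf [1,1,7,6,0,2,5,2,0,7,5,7,6,2,1,1,2,6,6,7]) (Tr.leaf []))) (Tr.node (Tr.node (Tr.leaf [5,7,0,7,5,6,7,1,0,2,5,2,0,7,5,7,6,2,1,2,0,2]) (Tr.leaf [2,0,7,0,9,5,6,6,5,1,5,9,6,7,1,0,2,5])) (Tr.node (Tr.leaf [1,7,6,7,1,1,2,6,0,2,5,1,0,7,5,6,6,7]) (Tr.leaf []))))) (Tr.node (Tr.node (Tr.node (Tr.node (Tr.leaf [6,5,5,1,0,0]) (Tr.leaf [7,1,1,2,4,7,9])) (Tr.node (Tr.leaf [2,5,6,7,1,0,7,5,6,2,1,0]) (Tr.leaf [3,5,2,5,2,0,7,5,7,3,2,0,2,5,7,0,7,5,3,0,2,5,2,0,7,5,7]))) (Tr.node (Tr.node (Tr.leaf [7,0,7,5,1,7,6,0,2,5,2,0,7,5,7,1,2,6,2,0,2,5]) (Tr.leaf [1,1,7,6,2,4,6,9,6,7,7])) (Tr.node (Tr.leaf [5,2,0,7,5,7,5,2,0,2,5,7,0,7,5,2,0,2,5,7,0,7,0,2]) (Tr.leaf [])))) (Tr.node (Tr.node (Tr.node (Tr.leaf [7,0,7,5,7,0,2,5,2,0,7,5,2,0,2,5])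 (Tr.leaf [2,0,7,5,7,9,7,1,2,6,7,6,2,1,4,0,2,5])) (Tr.node (Tr.leaf [7,7,0,0,7,5,5]) (Tr.leaf []))) (Tr.node (Tr.node (Tr.leaf [2,6,2,1,7,6,7,0,2,5,2,0,7,5,7,0,2,5,2,0,7,5,7,1]) (Tr.leaf [5,6,9,3,5,6,6,0,1,2,6,2,1,0,2,5,2,0,7,5,7,5,9,5,9,2])) (Tr.node (Tr.leaf [1,2,2,1,1,7,6,7,7,6,6,2]) (Tr.leaf [])))))) (Tr.node (Tr.node (Tr.node (Tr.node (Tr.node (Tr.leaf [1,0,1,0,1,0,1,0]) (Tr.leaf [2,0,7,5,6,6,9,3,2,3,6,0,1,2,3,0,2,5])) (Tr.node (Tr.leaf [2,6,0,7,5,1,7,6,2,0,2,5,7,0,7,5,0,2,5,1]) (Tr.leaf [0,0,0,3,5,8]))) (Tr.node (Tr.node (Tr.leaf [0,2,5,7,0,7,5,0,2,2,5,2,0,7,5,7,0,7,5,2]) (Tr.leaf [1,2,6,6,2,2,1,4,1,9,7])) (Tr.node (Tr.leaf [1,2,6,2,1,1,7,6,0,7,5,2,0,6,7,1,5,6,2]) (Tr.leaf [])))) (Tr.node (Tr.node (Tr.node (Tr.leaf [7,0,7,5,2,0,2,5,7,0,7,5,2,0,2,5,7,0,7,5,2,0,2,5,7,0,7,5,2,0,2,5,7,0,7,5,2,0,2,5])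 (Tr.leaf [6,2,1,1,7,1,4,6,7,1,9])) (Tr.node (Tr.leaf [5,7,0,7,5,1,2,6,6,2,1,1,7,6,6,7,1,2,0,2]) (Tr.leaf []))) (Tr.node (Tr.node (Tr.leaf [7,1,2,0,2,5,7,0,7,5,6,2,1,0,2,5,2,0,7,5,7,6]) (Tr.leaf [5,9,0,2,5,9,0,7,5,6,2,1,5,1,7,6,5,5,5,9,0,7])) (Tr.node (Tr.leaf [1,2,2,1,2,6,6,7,7,6,7,1]) (Tr.leaf []))))) (Tr.node (Tr.node (Tr.node (Tr.node (Tr.leaf [5,1,0,6,5,1,0,6,5,1,0,6]) (Tr.leaf [6,9,6,6,7,5,2,6,2,1,0,4,1,2])) (Tr.node (Tr.leaf [5,6,7,1,0,2,5,6,2,1,0,7]) (Tr.leaf [1,6]))) (Tr.node (Tr.node (Tr.leaf [2,0,2,5,7,0,7,5,1,2,6,0,2,5,2,0,7,5,7,1,7,6]) (Tr.leaf [0,1,1,0,4,5,2,5,7,0,7,5,6,2,1,4,0,6])) (Tr.node (Tr.leaf [2,1,2,6,2,1,1,0,2,5,6,0,7,5,1,7,6,6]) (Tr.leaf [])))) (Tr.node (Tr.node (Tr.node (Tr.leaf [5,7,0,7,5,2,0,2,5,2,0,7,5,7,0,2])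 (Tr.leaf [2,1,7,6,2,4,2,0,2,5,7,0,7,5,9,6,7,1])) (Tr.node (Tr.leaf [1,7,6,5,6,2,1,2,1,7,7,6,0]) (Tr.leaf []))) (Tr.node (Tr.node (Tr.leaf [7,0,7,5,2,0,2,5,7,0,7,5,2,1,2,6,7,1,7,6,2,0,2,5]) (Tr.leaf [5,1,1,0,8,4,1,0,7,4,0,4,0,2,0,2,5,7,0,7,5,6,7,1,7,6])) (Tr.node (Tr.leaf [2,5,2,0,7,5,7,1,2,0,2,5,7,0,7,5,6,0]) (Tr.leaf [])))))))) (Tr.node (Tr.node (Tr.node (Tr.node (Tr.node (Tr.node (Tr.node (Tr.leaf [0,0,0,0,0,0,0,0]) (Tr.leaf [7,6,5,1,8,7,8,4,1,1,0,2,5,7,0,7,5,8])) (Tr.node (Tr.leaf [7,6,7,1,0,2,5,2,0,7,5,7,0,2,5,2,0,7,5,7,2,6,2,1]) (Tr.leaf [0,0,0,8,8,0]))) (Tr.node (Tr.node (Tr.leaf [2,5,2,0,2,5,7,0,7,7,5,0,2,5,2,0,7,5,7,0]) (Tr.leaf [7,5,6,2,1,4,0,0,4,5,6,6,5,1,2,5,7,0])) (Tr.node (Tr.leaf [7,0,2,5,1,2,6,6,7,1,7,6,7,1,0,6,2,1,5]) (Tr.leaf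 [])))) (Tr.node (Tr.node (Tr.node (Tr.leaf [2,2,2,2,2]) (Tr.leaf [0,2,1,1,4,1,7,6,9,5,6,7,1,7])) (Tr.node (Tr.leaf [2,6,6,7,1,1,7,6,0,2,5,2,0,7,5,7,6,2,1,1]) (Tr.leaf []))) (Tr.node (Tr.node (Tr.leaf [1,2,0,2,5,7,0,7,5,6,7,1,0,2,5,2,0,7,5,7,6,2]) (Tr.leaf [9,6,7,1,0,2,5,2,0,7,0,9,5,6,6,5,1,5])) (Tr.node (Tr.leaf [5,6,6,7,1,7,6,7,1,1,2,6,0,2,5,1,0,7]) (Tr.leaf []))))) (Tr.node (Tr.node (Tr.node (Tr.node (Tr.leaf [6,5,6,5,6,5,6,5]) (Tr.leaf [9,7,6,6,2,4,2])) (Tr.node (Tr.leaf [6,2,1,0,2,5,6,7,1,0,7,5]) (Tr.leaf [3,2,0,2,5,7,0,7,5,3,0,2,5,2,0,7,5,7,3,5,2,5,2,0,7,5,7]))) (Tr.node (Tr.node (Tr.leaf [2,0,2,5,7,0,7,5,1,7,6,0,2,5,2,0,7,5,7,1,2,6]) (Tr.leaf [9,6,7,7,1,1,7,6,2,4,6])) (Tr.node (Tr.leaf [2,0,2,5,7,0,7,5,2,0,2,5,7,0,7,0,2,5,2,0,7,5,7,5])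 (Tr.leaf [])))) (Tr.node (Tr.node (Tr.node (Tr.leaf [2,0,2,5,7,0,7,5,7,0,2,5,2,0,7,5]) (Tr.leaf [1,4,0,2,5,2,0,7,5,7,9,7,1,2,6,7,6,2])) (Tr.node (Tr.leaf [0,7,5,5,7,7,0]) (Tr.leaf []))) (Tr.node (Tr.node (Tr.leaf [7,5,7,1,2,6,2,1,7,6,7,0,2,5,2,0,7,5,7,0,2,5,2,0]) (Tr.leaf [9,5,9,2,5,6,9,3,5,6,6,0,1,2,6,2,1,0,2,5,2,0,7,5,7,5])) (Tr.node (Tr.leaf [7,6,6,2,1,2,2,1,1,7,6,7]) (Tr.leaf [])))))) (Tr.node (Tr.node (Tr.node (Tr.node (Tr.node (Tr.leaf [6,6,6,6,6]) (Tr.leaf [3,0,2,5,2,0,7,5,6,6,9,3,2,3,6,0,1,2])) (Tr.node (Tr.leaf [1,7,6,0,7,5,0,2,5,2,0,7,5,7,1,2,6,0,2,5]) (Tr.leaf [8,5,5,5,3,0]))) (Tr.node (Tr.node (Tr.leaf [0,7,5,2,0,2,5,7,0,7,5,0,2,2,5,2,0,7,5,7]) (Tr.leaf [1,1,0,9,5,5,9,6,7,1,0,2,5,2,0,7,6,0])) (Tr.node (Tr.leaf [7,1,5,6,2,1,2,6,2,1,1,7,6,0,7,5,2,0,6])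 (Tr.leaf [])))) (Tr.node (Tr.node (Tr.node (Tr.leaf [2,0,2,5,7,0,7,5,2,0,2,5,7,0,7,5,2,0,2,5,7,0,7,5,2,0,2,5,7,0,7,5,2,0,2,5,7,0,7,5]) (Tr.leaf [6,7,1,9,6,2,1,1,7,1,4])) (Tr.node (Tr.leaf [7,1,2,0,2,5,7,0,7,5,1,2,6,6,2,1,1,7,6,6]) (Tr.leaf []))) (Tr.node (Tr.node (Tr.leaf [0,7,5,7,6,7,1,2,0,2,5,7,0,7,5,6,2,1,0,2,5,2]) (Tr.leaf [5,4,0,0,0,1,2,6,0,6,7,1,0,2,5,4,0,7,5,4,0,2])) (Tr.node (Tr.leaf [7,6,7,1,1,2,2,1,2,6,6,7]) (Tr.leaf []))))) (Tr.node (Tr.node (Tr.node (Tr.node (Tr.leaf [5,1,0,6,5,1,0,6,5,1,0,6]) (Tr.leaf [0,4,1,2,6,9,6,6,7,5,2,6,2,1])) (Tr.node (Tr.leaf [2,1,0,7,5,6,7,1,0,2,5,6]) (Tr.leaf [7,0,7,0,8,2,0,2,5,7,0,7,5,8,0,2,5,2,0,7,5,7,8,2,0,2,5]))) (Tr.node (Tr.node (Tr.leaf [7,1,7,6,2,0,2,5,7,0,7,5,1,2,6,0,2,5,2,0,7,5]) (Tr.leaf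 [1,4,0,6,0,1,1,0,4,5,2,5,7,0,7,5,6,2])) (Tr.node (Tr.leaf [5,1,7,6,6,2,1,2,6,2,1,1,0,2,5,6,0,7]) (Tr.leaf [])))) (Tr.node (Tr.node (Tr.node (Tr.leaf [5,7,0,2,5,7,0,7,5,2,0,2,5,2,0,7]) (Tr.leaf [9,6,7,1,2,1,7,6,2,4,2,0,2,5,7,0,7,5])) (Tr.node (Tr.leaf [2,6,5,1,2,2,6,7,6,7,1,0,1]) (Tr.leaf []))) (Tr.node (Tr.node (Tr.leaf [1,7,6,2,0,2,5,7,0,7,5,2,0,2,5,7,0,7,5,2,1,2,6,7]) (Tr.leaf [0,2,0,2,5,7,0,7,5,6,7,1,7,6,5,1,1,0,8,4,1,0,7,4,0,4])) (Tr.node (Tr.leaf [6,2,0,2,5,7,0,7,5,1,0,2,5,2,0,7,5,7]) (Tr.leaf []))))))) (Tr.node (Tr.node (Tr.node (Tr.node (Tr.node (Tr.node (Tr.leaf [5,5,5,5,5,5,5,5]) (Tr.leaf [9,3,2,3,6,0,1,2,3,0,2,5,2,0,7,5,6,6])) (Tr.node (Tr.leaf [5,7,1,2,6,0,2,5,1,7,6,0,7,5,0,2,5,2,0,7]) (Tr.leaf [3,6,8,1]))) (Tr.node (Tr.node (Tr.leaf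 [7,7,5,0,2,5,2,0,7,5,7,0,2,5,2,0,2,5,7,0]) (Tr.leaf [5,5,9,6,7,1,0,2,5,2,0,7,6,0,1,1,0,9])) (Tr.node (Tr.leaf [1,7,6,7,1,0,6,2,1,5,7,0,2,5,1,2,6,6,7]) (Tr.leaf [])))) (Tr.node (Tr.node (Tr.node (Tr.leaf [5,2,0,7,5,7,0,2,5,2,0,7,5,7,0,2,5,2,0,7,5,7,0,2,5,2,0,7,5,7,0,2,5,2,0,7,5,7,0,2]) (Tr.leaf [7,1,4,6,2,1,9,6,2,6,6])) (Tr.node (Tr.leaf [2,6,6,2,1,1,7,6,6,7,1,2,0,2,5,7,0,7,5,1]) (Tr.leaf []))) (Tr.node (Tr.node (Tr.leaf [6,7,1,0,2,5,2,0,7,5,7,6,2,1,2,0,2,5,7,0,7,5]) (Tr.leaf [5,4,0,7,5,4,0,2,5,4,0,0,0,1,2,6,0,6,7,1,0,2])) (Tr.node (Tr.leaf [1,1,2,6,0,2,5,1,0,7,5,6,6,7,1,7,6,7]) (Tr.leaf []))))) (Tr.node (Tr.node (Tr.node (Tr.node (Tr.leaf [0,1,5,5,6,0]) (Tr.leaf [6,6,7,5,2,6,2,1,0,4,1,2,6,9])) (Tr.node (Tr.leaf [1,0,7,5,6,2,1,0,2,5,6,7])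 (Tr.leaf [5,8,0,2,5,2,0,7,5,7,8,2,0,2,5,7,0,7,0,8,2,0,2,5,7,0,7]))) (Tr.node (Tr.node (Tr.leaf [1,7,6,0,2,5,2,0,7,5,7,1,2,6,2,0,2,5,7,0,7,5]) (Tr.leaf [2,4,6,9,6,7,7,1,1,7,6])) (Tr.node (Tr.leaf [0,2,5,7,0,7,5,2,5,2,0,7,5,7,0,2,5,2,0,7,5,7,0,2]) (Tr.leaf [])))) (Tr.node (Tr.node (Tr.node (Tr.leaf [7,0,2,5,2,0,7,5,2,0,2,5,7,0,7,5]) (Tr.leaf [9,7,1,2,6,7,6,2,1,4,0,2,5,2,0,7,5,7])) (Tr.node (Tr.leaf [2,6,7,6,7,1,0,1,2,6,5,1,2]) (Tr.leaf []))) (Tr.node (Tr.node (Tr.leaf [7,6,7,0,2,5,2,0,7,5,7,0,2,5,2,0,7,5,7,1,2,6,2,1]) (Tr.leaf [8,4,1,0,7,4,0,4,0,2,0,2,5,7,0,7,5,6,7,1,7,6,5,1,1,0])) (Tr.node (Tr.leaf [0,2,5,7,0,7,5,1,0,2,5,2,0,7,5,7,6,2]) (Tr.leaf [])))))) (Tr.node (Tr.node (Tr.node (Tr.node (Tr.node (Tr.leaf [1,0,1,0,1,0,1,0]) (Tr.leaf [4,4]))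 (Tr.node (Tr.leaf [5,1,7,6,2,0,2,5,7,0,7,5,0,2,5,1,2,6,0,7]) (Tr.leaf [3,0,2,5,2,0,7,5,7,3,0,2,5,2,0,7,5,7,3,0,2,5,2,0,7,5,7,3,0,2,5,2,0,7,5,7,3,0,2,5,2,0,7,5,7]))) (Tr.node (Tr.node (Tr.leaf [0,2,5,2,0,7,5,7,1,2,6,2,0,2,5,7,0,7,5,1,7,6]) (Tr.leaf [2,2,1,4,1,9,7,1,2,6,6])) (Tr.node (Tr.leaf [1,1,7,6,0,7,5,2,0,6,7,1,5,6,2,1,2,6,2]) (Tr.leaf [])))) (Tr.node (Tr.node (Tr.node (Tr.leaf [2,0,2,5,7,0,7,5,2,0,2,5,7,0,7,5,2,0,2,5,7,0,7,5,2,0,2,5,7,0,7,5,2,0,2,5,7,0,7,5]) (Tr.leaf [7,1,4,6,7,1,9,6,2,1,1])) (Tr.node (Tr.leaf [2,2,0,0,2,5,5]) (Tr.leaf []))) (Tr.node (Tr.node (Tr.leaf [5,7,0,7,5,6,2,1,0,2,5,2,0,7,5,7,6,7,1,2,0,2]) (Tr.leaf [5,9,0,7,5,6,2,1,5,1,7,6,5,5,5,9,0,7,5,9,0,2])) (Tr.node (Tr.leaf [2,6,6,7,7,6,7,1,1,2,2,1]) (Tr.leaf []))))) (Tr.node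 (Tr.node (Tr.node (Tr.node (Tr.leaf [6,0,1,5,6,0,1,5,6,0,1,5]) (Tr.leaf [7,6,9,5,6,7,1,7,0,2,1,1,4,1])) (Tr.node (Tr.leaf [0,2,5,2,0,7,5,7,6,2,1,1,2,6,6,7,1,1,7,6]) (Tr.leaf [5,0]))) (Tr.node (Tr.node (Tr.leaf [5,1,2,6,0,2,5,2,0,7,5,7,1,7,6,2,0,2,5,7,0,7]) (Tr.leaf [4,5,2,5,7,0,7,5,6,2,1,4,0,6,0,1,1,0])) (Tr.node (Tr.leaf [1,0,2,5,6,0,7,5,1,7,6,6,2,1,2,6,2,1]) (Tr.leaf [])))) (Tr.node (Tr.node (Tr.node (Tr.leaf [5,2,0,2,5,2,0,7,5,7,0,2,5,7,0,7]) (Tr.leaf [5,6,6,5,1,2,5,7,0,7,5,6,2,1,4,0,0,4])) (Tr.node (Tr.leaf [6,2,1,2,1,7,7,6,0,1,7,6,5]) (Tr.leaf []))) (Tr.node (Tr.node (Tr.leaf [1,2,6,7,1,7,2,0,2,5,7,0,7,5,2,0,2,5,7,0,7,5,6,2]) (Tr.leaf [5,5,5,3,3,5])) (Tr.node (Tr.leaf [1,1,0,2,5,7,0,7,5,8,7,6,5,1,8,7,8,4]) (Tr.leaf []))))))))) (Tr.node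 (Tr.node (Tr.node (Tr.node (Tr.node (Tr.node (Tr.node (Tr.node (Tr.leaf [0,0,0,0,0,0,0,0]) (Tr.leaf [5,8,7,6,5,1,8,7,8,4,1,1,0,2,5,7,0,7])) (Tr.node (Tr.leaf [2,1,7,6,7,1,0,2,5,2,0,7,5,7,0,2,5,2,0,7,5,7,2,6]) (Tr.leaf [8,0,0,0,0,8]))) (Tr.node (Tr.node (Tr.leaf [7,0,2,5,2,0,2,5,7,0,7,7,5,0,2,5,2,0,7,5]) (Tr.leaf [5,7,0,7,5,6,2,1,4,0,0,4,5,6,6,5,1,2])) (Tr.node (Tr.leaf [7,6,0,1,7,6,5,6,2,1,2,1,7]) (Tr.leaf [])))) (Tr.node (Tr.node (Tr.node (Tr.leaf [2,2,2,2,2]) (Tr.leaf [1,7,0,2,1,1,4,1,7,6,9,5,6,7])) (Tr.node (Tr.leaf [1,1,2,6,6,7,1,1,7,6,0,2,5,2,0,7,5,7,6,2]) (Tr.leaf []))) (Tr.node (Tr.node (Tr.leaf [6,2,1,2,0,2,5,7,0,7,5,6,7,1,0,2,5,2,0,7,5,7]) (Tr.leaf [1,5,9,6,7,1,0,2,5,2,0,7,0,9,5,6,6,5])) (Tr.node (Tr.leaf [0,7,5,6,6,7,1,7,6,7,1,1,2,6,0,2,5,1])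 (Tr.leaf []))))) (Tr.node (Tr.node (Tr.node (Tr.node (Tr.leaf [6,5,6,5,6,5,6,5]) (Tr.leaf [4,2,9,7,6,6,2])) (Tr.node (Tr.leaf [2,5,7,0,7,5,0,2,5,1,2,6,0,7,5,1,7,6,2,0]) (Tr.leaf [5,7,3,2,0,2,5,7,0,7,5,3,0,2,5,2,0,7,5,7,3,5,2,5,2,0,7]))) (Tr.node (Tr.node (Tr.leaf [2,6,2,0,2,5,7,0,7,5,1,7,6,0,2,5,2,0,7,5,7,1]) (Tr.leaf [4,6,9,6,7,7,1,1,7,6,2])) (Tr.node (Tr.leaf [5,2,0,6,7,1,5,6,2,1,2,6,2,1,1,7,6,0,7]) (Tr.leaf [])))) (Tr.node (Tr.node (Tr.node (Tr.leaf [7,5,2,0,2,5,7,0,7,5,7,0,2,5,2,0]) (Tr.leaf [6,2,1,4,0,2,5,2,0,7,5,7,9,7,1,2,6,7])) (Tr.node (Tr.leaf [5,2,2,0,0,2,5]) (Tr.leaf []))) (Tr.node (Tr.node (Tr.leaf [5,2,0,7,5,7,0,2,5,2,0,7,5,7,1,2,6,2,1,7,6,7,0,2]) (Tr.leaf [5,6,6,0,1,2,6,2,1,0,2,5,2,0,7,5,7,5,9,5,9,2,5,6,9,3])) (Tr.node (Tr.leaf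 [6,7,7,6,6,2,1,2,2,1,1,7]) (Tr.leaf [])))))) (Tr.node (Tr.node (Tr.node (Tr.node (Tr.node (Tr.leaf [6,6,6,6,6]) (Tr.leaf [1,2,3,0,2,5,2,0,7,5,6,6,9,3,2,3,6,0])) (Tr.node (Tr.leaf [2,5,1,7,6,0,7,5,0,2,5,2,0,7,5,7,1,2,6,0]) (Tr.leaf [3,0,8,5,5,5]))) (Tr.node (Tr.node (Tr.leaf [5,7,0,7,5,2,0,2,5,7,0,7,5,0,2,2,5,2,0,7]) (Tr.leaf [7,6,0,1,1,0,9,5,5,9,6,7,1,0,2,5,2,0])) (Tr.node (Tr.leaf [0,6,7,1,5,6,2,1,2,6,2,1,1,7,6,0,7,5,2]) (Tr.leaf [])))) (Tr.node (Tr.node (Tr.node (Tr.leaf [0,2,5,2,0,7,5,7,0,2,5,2,0,7,5,7,0,2,5,2,0,7,5,7,0,2,5,2,0,7,5,7,0,2,5,2,0,7,5,7]) (Tr.leaf [9,6,2,6,6,7,1,4,6,2,1])) (Tr.node (Tr.leaf [6,6,7,1,2,0,2,5,7,0,7,5,1,2,6,6,2,1,1,7]) (Tr.leaf []))) (Tr.node (Tr.node (Tr.leaf [0,2,5,2,0,7,5,7,6,7,1,2,0,2,5,7,0,7,5,6,2,1]) (Tr.leaf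 [0,2,5,4,0,0,0,1,2,6,0,6,7,1,0,2,5,4,0,7,5,4])) (Tr.node (Tr.leaf [5,1,0,7,5,6,6,7,1,7,6,7,1,1,2,6,0,2]) (Tr.leaf []))))) (Tr.node (Tr.node (Tr.node (Tr.node (Tr.leaf [0,6,5,1,0,6,5,1,0,6,5,1]) (Tr.leaf [2,1,0,4,1,2,6,9,6,6,7,5,2,6])) (Tr.node (Tr.leaf [5,6,2,1,0,7,5,6,7,1,0,2]) (Tr.leaf [0,2,5,7,0,7,0,8,2,0,2,5,7,0,7,5,8,0,2,5,2,0,7,5,7,8,2]))) (Tr.node (Tr.node (Tr.leaf [7,5,7,1,7,6,2,0,2,5,7,0,7,5,1,2,6,0,2,5,2,0]) (Tr.leaf [7,5,6,2,1,4,0,6,0,1,1,0,4,5,2,5,7,0])) (Tr.node (Tr.leaf [0,7,5,1,7,6,6,2,1,2,6,2,1,1,0,2,5,6]) (Tr.leaf [])))) (Tr.node (Tr.node (Tr.node (Tr.leaf [0,7,5,7,0,2,5,7,0,7,5,2,0,2,5,2]) (Tr.leaf [0,7,5,9,6,7,1,2,1,7,6,2,4,2,0,2,5,7])) (Tr.node (Tr.leaf [0,1,2,6,5,1,2,2,6,7,6,7,1]) (Tr.leaf []))) (Tr.node (Tr.node (Tr.leaf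 [6,7,1,7,6,2,0,2,5,7,0,7,5,2,0,2,5,7,0,7,5,2,1,2]) (Tr.leaf [0,4,0,2,0,2,5,7,0,7,5,6,7,1,7,6,5,1,1,0,8,4,1,0,7,4])) (Tr.node (Tr.leaf [7,5,7,6,2,0,2,5,7,0,7,5,1,0,2,5,2,0]) (Tr.leaf []))))))) (Tr.node (Tr.node (Tr.node (Tr.node (Tr.node (Tr.node (Tr.leaf [5,5,5,5,5,5,5,5]) (Tr.leaf [8,4,1,1,0,2,5,7,0,7,5,8,7,6,5,1,8,7])) (Tr.node (Tr.leaf [0,7,5,7,1,2,6,0,2,5,1,7,6,0,7,5,0,2,5,2]) (Tr.leaf [6,3,1,8]))) (Tr.node (Tr.node (Tr.leaf [7,0,7,7,5,0,2,5,2,0,7,5,7,0,2,5,2,0,2,5]) (Tr.leaf [4,5,6,6,5,1,2,5,7,0,7,5,6,2,1,4,0,0])) (Tr.node (Tr.leaf [6,6,7,1,7,6,7,1,0,6,2,1,5,7,0,2,5,1,2]) (Tr.leaf [])))) (Tr.node (Tr.node (Tr.node (Tr.leaf [7,7,7,7,7]) (Tr.leaf [6,6,7,1,4,6,2,1,9,6,2])) (Tr.node (Tr.leaf [7,6,0,2,5,2,0,7,5,7,6,2,1,1,2,6,6,7,1,1]) (Tr.leaf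 []))) (Tr.node (Tr.node (Tr.leaf [0,7,5,6,7,1,0,2,5,2,0,7,5,7,6,2,1,2,0,2,5,7]) (Tr.leaf [0,9,5,6,6,5,1,5,9,6,7,1,0,2,5,2,0,7])) (Tr.node (Tr.leaf [6,7,1,1,2,6,0,2,5,1,0,7,5,6,6,7,1,7]) (Tr.leaf []))))) (Tr.node (Tr.node (Tr.node (Tr.node (Tr.leaf [5,1,0,0,6,5]) (Tr.leaf [1,2,4,7,9,7,1])) (Tr.node (Tr.leaf [6,7,1,0,7,5,6,2,1,0,2,5]) (Tr.leaf [2,0,2,5,7,0,7,5,8,0,2,5,2,0,7,5,7,8,2,0,2,5,7,0,7,0,8]))) (Tr.node (Tr.node (Tr.leaf [7,5,1,7,6,0,2,5,2,0,7,5,7,1,2,6,2,0,2,5,7,0]) (Tr.leaf [7,6,2,4,6,9,6,7,7,1,1])) (Tr.node (Tr.leaf [0,7,5,7,5,2,0,2,5,7,0,7,5,2,0,2,5,7,0,7,0,2,5,2]) (Tr.leaf [])))) (Tr.node (Tr.node (Tr.node (Tr.leaf [7,5,7,0,2,5,2,0,7,5,2,0,2,5,7,0]) (Tr.leaf [5,7,9,7,1,2,6,7,6,2,1,4,0,2,5,2,0,7])) (Tr.node (Tr.leaf [1,2,2,6,7,6,7,1,0,1,2,6,5])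 (Tr.leaf []))) (Tr.node (Tr.node (Tr.leaf [2,1,7,6,7,0,2,5,2,0,7,5,7,0,2,5,2,0,7,5,7,1,2,6]) (Tr.leaf [9,3,5,6,6,0,1,2,6,2,1,0,2,5,2,0,7,5,7,5,9,5,9,2,5,6])) (Tr.node (Tr.leaf [2,1,1,7,6,7,7,6,6,2,1,2]) (Tr.leaf [])))))) (Tr.node (Tr.node (Tr.node (Tr.node (Tr.node (Tr.leaf [1,0,1,0,1,0,1,0]) (Tr.leaf [5,6,6,9,3,2,3,6,0,1,2,3,0,2,5,2,0,7])) (Tr.node (Tr.leaf [0,7,5,1,7,6,2,0,2,5,7,0,7,5,0,2,5,1,2,6]) (Tr.leaf [0,3,5,8,0,0]))) (Tr.node (Tr.node (Tr.leaf [5,7,0,7,5,0,2,2,5,2,0,7,5,7,0,7,5,2,0,2]) (Tr.leaf [6,6,2,2,1,4,1,9,7,1,2])) (Tr.node (Tr.leaf [6,2,1,1,7,6,0,7,5,2,0,6,7,1,5,6,2,1,2]) (Tr.leaf [])))) (Tr.node (Tr.node (Tr.node (Tr.leaf [7,5,2,0,2,5,7,0,7,5,2,0,2,5,7,0,7,5,2,0,2,5,7,0,7,5,2,0,2,5,7,0,7,5,2,0,2,5,7,0]) (Tr.leaf [1,1,7,1,4,6,7,1,9,6,2]))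 (Tr.node (Tr.leaf [0,7,5,1,2,6,6,2,1,1,7,6,6,7,1,2,0,2,5,7]) (Tr.leaf []))) (Tr.node (Tr.node (Tr.leaf [2,0,2,5,7,0,7,5,6,2,1,0,2,5,2,0,7,5,7,6,7,1]) (Tr.leaf [0,2,5,9,0,7,5,6,2,1,5,1,7,6,5,5,5,9,0,7,5,9])) (Tr.node (Tr.leaf [2,1,2,6,6,7,7,6,7,1,1,2]) (Tr.leaf []))))) (Tr.node (Tr.node (Tr.node (Tr.node (Tr.leaf [1,5,6,0,1,5,6,0,1,5,6,0]) (Tr.leaf [4,1,7,6,9,5,6,7,1,7,0,2,1,1])) (Tr.node (Tr.leaf [7,1,0,2,5,6,2,1,0,7,5,6]) (Tr.leaf [3,8]))) (Tr.node (Tr.node (Tr.leaf [2,5,7,0,7,5,1,2,6,0,2,5,2,0,7,5,7,1,7,6,2,0]) (Tr.leaf [1,0,4,5,2,5,7,0,7,5,6,2,1,4,0,6,0,1])) (Tr.node (Tr.leaf [2,1,1,0,2,5,6,0,7,5,1,7,6,6,2,1,2,6]) (Tr.leaf [])))) (Tr.node (Tr.node (Tr.node (Tr.leaf [0,7,5,2,0,2,5,2,0,7,5,7,0,2,5,7]) (Tr.leaf [6,2,4,2,0,2,5,7,0,7,5,9,6,7,1,2,1,7]))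 (Tr.node (Tr.leaf [6,5,6,2,1,2,1,7,7,6,0,1,7]) (Tr.leaf []))) (Tr.node (Tr.node (Tr.leaf [6,2,1,2,6,7,1,7,2,0,2,5,7,0,7,5,2,0,2,5,7,0,7,5]) (Tr.leaf [0,8,4,1,0,7,4,0,4,0,2,0,2,5,7,0,7,5,6,7,1,7,6,5,1,1])) (Tr.node (Tr.leaf [2,0,7,5,7,1,2,0,2,5,7,0,7,5,6,0,2,5]) (Tr.leaf [])))))))) (Tr.node (Tr.node (Tr.node (Tr.node (Tr.node (Tr.node (Tr.node (Tr.leaf [0,0,0,0,0,0,0,0]) (Tr.leaf [5,1,8,7,8,4,1,1,0,2,5,7,0,7,5,8,7,6])) (Tr.node (Tr.leaf [7,1,0,2,5,2,0,7,5,7,0,2,5,2,0,7,5,7,2,6,2,1,7,6]) (Tr.leaf [0,8,8,0,0,0]))) (Tr.node (Tr.node (Tr.leaf [2,0,2,5,7,0,7,7,5,0,2,5,2,0,7,5,7,0,2,5]) (Tr.leaf [1,4,0,0,4,5,6,6,5,1,2,5,7,0,7,5,6,2])) (Tr.node (Tr.leaf [2,5,1,2,6,6,7,1,7,6,7,1,0,6,2,1,5,7,0]) (Tr.leaf [])))) (Tr.node (Tr.node (Tr.node (Tr.leaf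 [2,2,2,2,2]) (Tr.leaf [1,1,4,1,7,6,9,5,6,7,1,7,0,2])) (Tr.node (Tr.leaf [6,7,1,1,7,6,0,2,5,2,0,7,5,7,6,2,1,1,2,6]) (Tr.leaf []))) (Tr.node (Tr.node (Tr.leaf [0,2,5,7,0,7,5,6,7,1,0,2,5,2,0,7,5,7,6,2,1,2]) (Tr.leaf [7,1,0,2,5,2,0,7,0,9,5,6,6,5,1,5,9,6])) (Tr.node (Tr.leaf [6,7,1,7,6,7,1,1,2,6,0,2,5,1,0,7,5,6]) (Tr.leaf []))))) (Tr.node (Tr.node (Tr.node (Tr.node (Tr.leaf [0,0,6,5,5,1]) (Tr.leaf [7,9,7,1,1,2,4])) (Tr.node (Tr.leaf [1,0,2,5,6,7,1,0,7,5,6,2]) (Tr.leaf [5,7,0,7,5,3,0,2,5,2,0,7,5,7,3,5,2,5,2,0,7,5,7,3,2,0,2]))) (Tr.node (Tr.node (Tr.leaf [2,5,7,0,7,5,1,7,6,0,2,5,2,0,7,5,7,1,2,6,2,0]) (Tr.leaf [7,7,1,1,7,6,2,4,6,9,6])) (Tr.node (Tr.leaf [0,2,5,2,0,7,5,7,5,2,0,2,5,7,0,7,5,2,0,2,5,7,0,7]) (Tr.leaf [])))) (Tr.node (Tr.node (Tr.node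 (Tr.leaf [2,5,7,0,7,5,7,0,2,5,2,0,7,5,2,0]) (Tr.leaf [0,2,5,2,0,7,5,7,9,7,1,2,6,7,6,2,1,4])) (Tr.node (Tr.leaf [5,5,7,7,0,0,7]) (Tr.leaf []))) (Tr.node (Tr.node (Tr.leaf [7,1,2,6,2,1,7,6,7,0,2,5,2,0,7,5,7,0,2,5,2,0,7,5]) (Tr.leaf [9,2,5,6,9,3,5,6,6,0,1,2,6,2,1,0,2,5,2,0,7,5,7,5,9,5])) (Tr.node (Tr.leaf [6,2,1,2,2,1,1,7,6,7,7,6]) (Tr.leaf [])))))) (Tr.node (Tr.node (Tr.node (Tr.node (Tr.node (Tr.leaf [1,0,1,0,1,0,1,0]) (Tr.leaf [2,5,2,0,7,5,6,6,9,3,2,3,6,0,1,2,3,0])) (Tr.node (Tr.leaf [6,0,7,5,0,2,5,2,0,7,5,7,1,2,6,0,2,5,1,7]) (Tr.leaf [5,8,0,0,0,3]))) (Tr.node (Tr.node (Tr.leaf [5,2,0,2,5,7,0,7,5,0,2,2,5,2,0,7,5,7,0,7]) (Tr.leaf [0,9,5,5,9,6,7,1,0,2,5,2,0,7,6,0,1,1])) (Tr.node (Tr.leaf [5,6,2,1,2,6,2,1,1,7,6,0,7,5,2,0,6,7,1]) (Tr.leaf []))))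 (Tr.node (Tr.node (Tr.node (Tr.leaf [2,5,7,0,7,5,2,0,2,5,7,0,7,5,2,0,2,5,7,0,7,5,2,0,2,5,7,0,7,5,2,0,2,5,7,0,7,5,2,0]) (Tr.leaf [1,9,6,2,1,1,7,1,4,6,7])) (Tr.node (Tr.leaf [2,0,2,5,7,0,7,5,1,2,6,6,2,1,1,7,6,6,7,1]) (Tr.leaf []))) (Tr.node (Tr.node (Tr.leaf [7,6,7,1,2,0,2,5,7,0,7,5,6,2,1,0,2,5,2,0,7,5]) (Tr.leaf [9,0,7,5,9,0,2,5,9,0,7,5,6,2,1,5,1,7,6,5,5,5])) (Tr.node (Tr.leaf [7,1,1,2,2,1,2,6,6,7,7,6]) (Tr.leaf []))))) (Tr.node (Tr.node (Tr.node (Tr.node (Tr.leaf [0,6,5,1,0,6,5,1,0,6,5,1]) (Tr.leaf [1,2,6,9,6,6,7,5,2,6,2,1,0,4])) (Tr.node (Tr.leaf [0,7,5,6,7,1,0,2,5,6,2,1]) (Tr.leaf [0,8,2,0,2,5,7,0,7,5,8,0,2,5,2,0,7,5,7,8,2,0,2,5,7,0,7]))) (Tr.node (Tr.node (Tr.leaf [7,6,2,0,2,5,7,0,7,5,1,2,6,0,2,5,2,0,7,5,7,1]) (Tr.leaf [0,6,0,1,1,0,4,5,2,5,7,0,7,5,6,2,1,4]))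 (Tr.node (Tr.leaf [6,6,2,1,2,6,2,1,1,0,2,5,6,0,7,5,1,7]) (Tr.leaf [])))) (Tr.node (Tr.node (Tr.node (Tr.leaf [0,2,5,7,0,7,5,2,0,2,5,2,0,7,5,7]) (Tr.leaf [7,1,2,1,7,6,2,4,2,0,2,5,7,0,7,5,9,6])) (Tr.node (Tr.leaf [5,1,2,2,6,7,6,7,1,0,1,2,6]) (Tr.leaf []))) (Tr.node (Tr.node (Tr.leaf [6,2,0,2,5,7,0,7,5,2,0,2,5,7,0,7,5,2,1,2,6,7,1,7]) (Tr.leaf [7,1,7,6,5,1,1,0,8,4,1,0,7,4,0,4,0,2,0,2,5,7,0,7,5,6])) (Tr.node (Tr.leaf [2,0,2,5,7,0,7,5,6,0,2,5,2,0,7,5,7,1]) (Tr.leaf []))))))) (Tr.node (Tr.node (Tr.node (Tr.node (Tr.node (Tr.node (Tr.leaf [1,1,1,1,1]) (Tr.leaf [2,3,6,0,1,2,3,0,2,5,2,0,7,5,6,6,9,3])) (Tr.node (Tr.leaf [1,2,6,0,2,5,1,7,6,0,7,5,0,2,5,2,0,7,5,7]) (Tr.leaf [8,1,3,6]))) (Tr.node (Tr.node (Tr.leaf [5,2,0,7,5,7,0,7,5,2,0,2,5,7,0,7,5,0,2,2])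 (Tr.leaf [9,6,7,1,0,2,5,2,0,7,6,0,1,1,0,9,5,5])) (Tr.node (Tr.leaf [6,2,1,5,7,0,2,5,1,2,6,6,7,1,7,6,7,1,0]) (Tr.leaf [])))) (Tr.node (Tr.node (Tr.node (Tr.leaf [0,7,5,7,0,2,5,2,0,7,5,7,0,2,5,2,0,7,5,7,0,2,5,2,0,7,5,7,0,2,5,2,0,7,5,7,0,2,5,2]) (Tr.leaf [4,6,2,1,9,6,2,6,6,7,1])) (Tr.node (Tr.leaf [2,1,1,7,6,6,7,1,2,0,2,5,7,0,7,5,1,2,6,6]) (Tr.leaf []))) (Tr.node (Tr.node (Tr.leaf [1,0,2,5,2,0,7,5,7,6,2,1,2,0,2,5,7,0,7,5,6,7]) (Tr.leaf [0,7,5,4,0,2,5,4,0,0,0,1,2,6,0,6,7,1,0,2,5,4])) (Tr.node (Tr.leaf [2,6,0,2,5,1,0,7,5,6,6,7,1,7,6,7,1,1]) (Tr.leaf []))))) (Tr.node (Tr.node (Tr.node (Tr.node (Tr.leaf [5,5,6,0,0,1]) (Tr.leaf [7,5,2,6,2,1,0,4,1,2,6,9,6,6])) (Tr.node (Tr.leaf [7,5,6,2,1,0,2,5,6,7,1,0]) (Tr.leaf [0,2,5,2,0,7,5,7,8,2,0,2,5,7,0,7,0,8,2,0,2,5,7,0,7,5,8])))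 (Tr.node (Tr.node (Tr.leaf [6,0,2,5,2,0,7,5,7,1,2,6,2,0,2,5,7,0,7,5,1,7]) (Tr.leaf [2,5,7,0,7,5,6,2,1,4,0,6,0,1,1,0,4,5])) (Tr.node (Tr.leaf [0,7,5,2,5,2,0,7,5,7,0,2,5,2,0,7,5,7,0,2,0,2,5,7]) (Tr.leaf [])))) (Tr.node (Tr.node (Tr.node (Tr.leaf [0,2,5,2,0,7,5,7,0,2,5,7,0,7,5,2]) (Tr.leaf [2,0,2,5,7,0,7,5,9,6,7,1,2,1,7,6,2,4])) (Tr.node (Tr.leaf [7,6,7,1,0,1,2,6,5,1,2,2,6]) (Tr.leaf []))) (Tr.node (Tr.node (Tr.leaf [7,0,2,5,2,0,7,5,7,0,2,5,2,0,7,5,7,1,2,6,2,1,7,6]) (Tr.leaf [1,0,7,4,0,4,0,2,0,2,5,7,0,7,5,6,7,1,7,6,5,1,1,0,8,4])) (Tr.node (Tr.leaf [7,5,1,0,2,5,2,0,7,5,7,6,2,0,2,5,7,0]) (Tr.leaf [])))))) (Tr.node (Tr.node (Tr.node (Tr.node (Tr.node (Tr.leaf [5,6,5,6,5,6,5,6]) (Tr.leaf [7,6,6,2,4,2,9])) (Tr.node (Tr.leaf [7,6,2,0,2,5,7,0,7,5,0,2,5,1,2,6,0,7,5,1])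 (Tr.leaf [8,2,0,2,5,7,0,7,5,8,2,0,2,5,7,0,7,5,8,2,0,2,5,7,0,7,5,8,2,0,2,5,7,0,7,5,8,2,0,2,5,7,0,7,5]))) (Tr.node (Tr.node (Tr.leaf [7,5,7,1,2,6,2,0,2,5,7,0,7,5,1,7,6,0,2,5,2,0]) (Tr.leaf [1,4,1,9,7,1,2,6,6,2,2])) (Tr.node (Tr.leaf [7,6,0,7,5,2,0,6,7,1,5,6,2,1,2,6,2,1,1]) (Tr.leaf [])))) (Tr.node (Tr.node (Tr.node (Tr.leaf [2,5,2,0,7,5,2,0,2,5,7,0,7,5,7,0]) (Tr.leaf [7,1,2,6,7,6,2,1,4,0,2,5,2,0,7,5,7,9])) (Tr.node (Tr.leaf [0,0,2,5,5,2,2]) (Tr.leaf []))) (Tr.node (Tr.node (Tr.leaf [0,7,5,6,2,1,0,2,5,2,0,7,5,7,6,7,1,2,0,2,5,7]) (Tr.leaf [0,7,5,6,2,1,5,1,7,6,5,5,5,9,0,7,5,9,0,2,5,9])) (Tr.node (Tr.leaf [6,7,7,6,7,1,1,2,2,1,2,6]) (Tr.leaf []))))) (Tr.node (Tr.node (Tr.node (Tr.node (Tr.leaf [5,6,0,1,5,6,0,1,5,6,0,1]) (Tr.leaf [9,5,6,7,1,7,0,2,1,1,4,1,7,6]))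 (Tr.node (Tr.leaf [0,7,5,7,6,2,1,1,2,6,6,7,1,1,7,6,0,2,5,2]) (Tr.leaf [7,2]))) (Tr.node (Tr.node (Tr.leaf [0,7,5,7,6,2,1,2,0,2,5,7,0,7,5,6,7,1,0,2,5,2]) (Tr.leaf [5,6,6,5,1,5,9,6,7,1,0,2,5,2,0,7,0,9])) (Tr.node (Tr.leaf [2,5,6,0,7,5,1,7,6,6,2,1,2,6,2,1,1,0]) (Tr.leaf [])))) (Tr.node (Tr.node (Tr.node (Tr.leaf [2,0,7,5,7,0,2,5,2,0,2,5,7,0,7,7,5,0,2,5]) (Tr.leaf [6,5,1,2,5,7,0,7,5,6,2,1,4,0,0,4,5,6])) (Tr.node (Tr.leaf [1,2,1,7,7,6,0,1,7,6,5,6,2]) (Tr.leaf []))) (Tr.node (Tr.node (Tr.leaf [6,7,1,7,2,0,2,5,7,0,7,5,2,0,2,5,7,0,7,5,6,2,1,2]) (Tr.leaf [5,3,3,5,5,5])) (Tr.node (Tr.leaf [5,7,0,7,5,8,7,6,5,1,8,7,8,4,1,1,0,2]) (Tr.leaf [])))))))))) (Tr.node (Tr.node (Tr.node (Tr.node (Tr.node (Tr.node (Tr.node (Tr.node (Tr.node (Tr.leaf [0,0,0,0,0,0,0,0])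 (Tr.leaf [7,5,8,7,6,5,1,8,7,8,4,1,1,0,2,5,7,0])) (Tr.node (Tr.leaf [6,2,1,7,6,7,1,0,2,5,2,0,7,5,7,0,2,5,2,0,7,5,7,2]) (Tr.leaf [8,8,0,0,0,0]))) (Tr.node (Tr.node (Tr.leaf [5,7,0,2,5,2,0,2,5,7,0,7,7,5,0,2,5,2,0,7]) (Tr.leaf [2,5,7,0,7,5,6,2,1,4,0,0,4,5,6,6,5,1])) (Tr.node (Tr.leaf [7,7,6,0,1,7,6,5,6,2,1,2,1]) (Tr.leaf [])))) (Tr.node (Tr.node (Tr.node (Tr.leaf [6,0,1,5,6,0,1,5,6,0,1,5]) (Tr.leaf [7,1,7,0,2,1,1,4,1,7,6,9,5,6])) (Tr.node (Tr.leaf [2,1,1,2,6,6,7,1,1,7,6,0,2,5,2,0,7,5,7,6]) (Tr.leaf []))) (Tr.node (Tr.node (Tr.leaf [7,6,2,1,2,0,2,5,7,0,7,5,6,7,1,0,2,5,2,0,7,5]) (Tr.leaf [5,1,5,9,6,7,1,0,2,5,2,0,7,0,9,5,6,6])) (Tr.node (Tr.leaf [1,0,7,5,6,6,7,1,7,6,7,1,1,2,6,0,2,5]) (Tr.leaf []))))) (Tr.node (Tr.node (Tr.node (Tr.node (Tr.leaf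 [6,5,6,5,6,5,6,5]) (Tr.leaf [2,4,2,9,7,6,6])) (Tr.node (Tr.leaf [0,2,5,7,0,7,5,0,2,5,1,2,6,0,7,5,1,7,6,2]) (Tr.leaf [0,7,5,7,3,2,0,2,5,7,0,7,5,3,0,2,5,2,0,7,5,7,3,5,2,5,2]))) (Tr.node (Tr.node (Tr.leaf [1,2,6,2,0,2,5,7,0,7,5,1,7,6,0,2,5,2,0,7,5,7]) (Tr.leaf [9,7,1,2,6,6,2,2,1,4,1])) (Tr.node (Tr.leaf [7,5,2,0,6,7,1,5,6,2,1,2,6,2,1,1,7,6,0]) (Tr.leaf [])))) (Tr.node (Tr.node (Tr.node (Tr.leaf [0,7,5,2,0,2,5,7,0,7,5,7,0,2,5,2]) (Tr.leaf [7,6,2,1,4,0,2,5,2,0,7,5,7,9,7,1,2,6])) (Tr.node (Tr.leaf [5,5,2,2,0,0,2]) (Tr.leaf []))) (Tr.node (Tr.node (Tr.leaf [2,5,2,0,7,5,7,0,2,5,2,0,7,5,7,1,2,6,2,1,7,6,7,0]) (Tr.leaf [1,7,6,5,5,5,9,0,7,5,9,0,2,5,9,0,7,5,6,2,1,5])) (Tr.node (Tr.leaf [7,6,7,7,6,6,2,1,2,2,1,1]) (Tr.leaf [])))))) (Tr.node (Tr.node (Tr.node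 (Tr.node (Tr.node (Tr.leaf [1,1,1,1,1]) (Tr.leaf [0,1,2,3,0,2,5,2,0,7,5,6,6,9,3,2,3,6])) (Tr.node (Tr.leaf [0,2,5,1,7,6,0,7,5,0,2,5,2,0,7,5,7,1,2,6]) (Tr.leaf [5,3,0,8,5,5]))) (Tr.node (Tr.node (Tr.leaf [7,5,7,0,7,5,2,0,2,5,7,0,7,5,0,2,2,5,2,0]) (Tr.leaf [2,0,7,6,0,1,1,0,9,5,5,9,6,7,1,0,2,5])) (Tr.node (Tr.leaf [5,7,0,2,5,1,2,6,6,7,1,7,6,7,1,0,6,2,1]) (Tr.leaf [])))) (Tr.node (Tr.node (Tr.node (Tr.leaf [7,0,2,5,2,0,7,5,7,0,2,5,2,0,7,5,7,0,2,5,2,0,7,5,7,0,2,5,2,0,7,5,7,0,2,5,2,0,7,5]) (Tr.leaf [1,9,6,2,6,6,7,1,4,6,2])) (Tr.node (Tr.leaf [7,6,6,7,1,2,0,2,5,7,0,7,5,1,2,6,6,2,1,1]) (Tr.leaf []))) (Tr.node (Tr.node (Tr.leaf [1,0,2,5,2,0,7,5,7,6,7,1,2,0,2,5,7,0,7,5,6,2]) (Tr.leaf [4,0,2,5,4,0,0,0,1,2,6,0,6,7,1,0,2,5,4,0,7,5])) (Tr.node (Tr.leaf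 [2,5,1,0,7,5,6,6,7,1,7,6,7,1,1,2,6,0]) (Tr.leaf []))))) (Tr.node (Tr.node (Tr.node (Tr.node (Tr.leaf [1,0,6,5,1,0,6,5,1,0,6,5]) (Tr.leaf [6,2,1,0,4,1,2,6,9,6,6,7,5,2])) (Tr.node (Tr.leaf [2,5,6,2,1,0,7,5,6,7,1,0]) (Tr.leaf [2,0,2,5,7,0,7,0,8,2,0,2,5,7,0,7,5,8,0,2,5,2,0,7,5,7,8]))) (Tr.node (Tr.node (Tr.leaf [2,5,2,0,7,5,7,1,7,6,2,0,2,5,7,0,7,5,1,2,6,0]) (Tr.leaf [0,7,5,6,2,1,4,0,6,0,1,1,0,4,5,2,5,7])) (Tr.node (Tr.leaf [5,7,0,2,5,2,0,7,5,7,0,2,0,2,5,7,0,7,5,2,5,2,0,7]) (Tr.leaf [])))) (Tr.node (Tr.node (Tr.node (Tr.leaf [2,0,7,5,7,0,2,5,7,0,7,5,2,0,2,5]) (Tr.leaf [7,0,7,5,9,6,7,1,2,1,7,6,2,4,2,0,2,5])) (Tr.node (Tr.leaf [1,0,1,2,6,5,1,2,2,6,7,6,7]) (Tr.leaf []))) (Tr.node (Tr.node (Tr.leaf [2,6,7,1,7,6,2,0,2,5,7,0,7,5,2,0,2,5,7,0,7,5,2,1])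 (Tr.leaf [4,0,4,0,2,0,2,5,7,0,7,5,6,7,1,7,6,5,1,1,0,8,4,1,0,7])) (Tr.node (Tr.leaf [0,7,5,7,6,2,0,2,5,7,0,7,5,1,0,2,5,2]) (Tr.leaf []))))))) (Tr.node (Tr.node (Tr.node (Tr.node (Tr.node (Tr.node (Tr.leaf [5,5,5,5,5,5,5,5]) (Tr.leaf [7,8,4,1,1,0,2,5,7,0,7,5,8,7,6,5,1,8])) (Tr.node (Tr.leaf [2,0,7,5,7,1,2,6,0,2,5,1,7,6,0,7,5,0,2,5]) (Tr.leaf [8,6,3,1]))) (Tr.node (Tr.node (Tr.leaf [5,7,0,7,7,5,0,2,5,2,0,7,5,7,0,2,5,2,0,2]) (Tr.leaf [0,4,5,6,6,5,1,2,5,7,0,7,5,6,2,1,4,0])) (Tr.node (Tr.leaf [2,6,6,7,1,7,6,7,1,0,6,2,1,5,7,0,2,5,1]) (Tr.leaf [])))) (Tr.node (Tr.node (Tr.node (Tr.leaf [7,7,7,7,7]) (Tr.leaf [2,6,6,7,1,4,6,2,1,9,6])) (Tr.node (Tr.leaf [1,7,6,0,2,5,2,0,7,5,7,6,2,1,1,2,6,6,7,1]) (Tr.leaf []))) (Tr.node (Tr.node (Tr.leaf [7,0,7,5,6,7,1,0,2,5,2,0,7,5,7,6,2,1,2,0,2,5])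 (Tr.leaf [0,7,0,9,5,6,6,5,1,5,9,6,7,1,0,2,5,2])) (Tr.node (Tr.leaf [7,6,7,1,1,2,6,0,2,5,1,0,7,5,6,6,7,1]) (Tr.leaf []))))) (Tr.node (Tr.node (Tr.node (Tr.node (Tr.leaf [5,5,1,0,0,6]) (Tr.leaf [1,1,2,4,7,9,7])) (Tr.node (Tr.leaf [5,6,7,1,0,7,5,6,2,1,0,2]) (Tr.leaf [8,2,0,2,5,7,0,7,5,8,0,2,5,2,0,7,5,7,8,2,0,2,5,7,0,7,0]))) (Tr.node (Tr.node (Tr.leaf [0,7,5,1,7,6,0,2,5,2,0,7,5,7,1,2,6,2,0,2,5,7]) (Tr.leaf [1,7,6,2,4,6,9,6,7,7,1])) (Tr.node (Tr.leaf [2,0,7,5,7,5,2,0,2,5,7,0,7,5,2,0,2,5,7,0,7,0,2,5]) (Tr.leaf [])))) (Tr.node (Tr.node (Tr.node (Tr.leaf [0,7,5,7,0,2,5,2,0,7,5,2,0,2,5,7]) (Tr.leaf [7,5,7,9,7,1,2,6,7,6,2,1,4,0,2,5,2,0])) (Tr.node (Tr.leaf [7,0,0,7,5,5,7]) (Tr.leaf []))) (Tr.node (Tr.node (Tr.leaf [6,2,1,7,6,7,0,2,5,2,0,7,5,7,0,2,5,2,0,7,5,7,1,2])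 (Tr.leaf [6,9,3,5,6,6,0,1,2,6,2,1,0,2,5,2,0,7,5,7,5,9,5,9,2,5])) (Tr.node (Tr.leaf [2,2,1,1,7,6,7,7,6,6,2,1]) (Tr.leaf [])))))) (Tr.node (Tr.node (Tr.node (Tr.node (Tr.node (Tr.leaf [0,1,0,1,0,1,0,1]) (Tr.leaf [0,7,5,6,6,9,3,2,3,6,0,1,2,3,0,2,5,2])) (Tr.node (Tr.leaf [6,0,7,5,1,7,6,2,0,2,5,7,0,7,5,0,2,5,1,2]) (Tr.leaf [0,0,3,5,8,0]))) (Tr.node (Tr.node (Tr.leaf [2,5,7,0,7,5,0,2,2,5,2,0,7,5,7,0,7,5,2,0]) (Tr.leaf [2,6,6,2,2,1,4,1,9,7,1])) (Tr.node (Tr.leaf [2,6,2,1,1,7,6,0,7,5,2,0,6,7,1,5,6,2,1]) (Tr.leaf [])))) (Tr.node (Tr.node (Tr.node (Tr.leaf [0,7,5,2,0,2,5,7,0,7,5,2,0,2,5,7,0,7,5,2,0,2,5,7,0,7,5,2,0,2,5,7,0,7,5,2,0,2,5,7]) (Tr.leaf [2,1,1,7,1,4,6,7,1,9,6])) (Tr.node (Tr.leaf [7,0,7,5,1,2,6,6,2,1,1,7,6,6,7,1,2,0,2,5]) (Tr.leaf [])))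 (Tr.node (Tr.node (Tr.leaf [1,2,0,2,5,7,0,7,5,6,2,1,0,2,5,2,0,7,5,7,6,7]) (Tr.leaf [9,0,2,5,9,0,7,5,6,2,1,5,1,7,6,5,5,5,9,0,7,5])) (Tr.node (Tr.leaf [2,2,1,2,6,6,7,7,6,7,1,1]) (Tr.leaf []))))) (Tr.node (Tr.node (Tr.node (Tr.node (Tr.leaf [0,1,5,6,0,1,5,6,0,1,5,6]) (Tr.leaf [9,6,6,7,5,2,6,2,1,0,4,1,2,6])) (Tr.node (Tr.leaf [6,7,1,0,2,5,6,2,1,0,7,5]) (Tr.leaf [2,7]))) (Tr.node (Tr.node (Tr.leaf [0,2,5,7,0,7,5,1,2,6,0,2,5,2,0,7,5,7,1,7,6,2]) (Tr.leaf [1,1,0,4,5,2,5,7,0,7,5,6,2,1,4,0,6,0])) (Tr.node (Tr.leaf [2,6,2,1,1,0,2,5,6,0,7,5,1,7,6,6,2,1]) (Tr.leaf [])))) (Tr.node (Tr.node (Tr.node (Tr.leaf [7,0,7,5,2,0,2,5,2,0,7,5,7,0,2,5]) (Tr.leaf [7,6,2,4,2,0,2,5,7,0,7,5,9,6,7,1,2,1])) (Tr.node (Tr.leaf [7,6,5,6,2,1,2,1,7,7,6,0,1]) (Tr.leaf [])))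 (Tr.node (Tr.node (Tr.leaf [7,0,7,5,2,0,2,5,7,0,7,5,6,2,1,2,6,7,1,7,2,0,2,5]) (Tr.leaf [1,0,8,4,1,0,7,4,0,4,0,2,0,2,5,7,0,7,5,6,7,1,7,6,5,1])) (Tr.node (Tr.leaf [5,2,0,7,5,7,1,2,0,2,5,7,0,7,5,6,0,2]) (Tr.leaf [])))))))) (Tr.node (Tr.node (Tr.node (Tr.node (Tr.node (Tr.node (Tr.node (Tr.leaf [0,0,0,0,0,0,0,0]) (Tr.leaf [6,5,1,8,7,8,4,1,1,0,2,5,7,0,7,5,8,7])) (Tr.node (Tr.leaf [6,7,1,0,2,5,2,0,7,5,7,0,2,5,2,0,7,5,7,2,6,2,1,7]) (Tr.leaf [0,0,8,8,0,0]))) (Tr.node (Tr.node (Tr.leaf [5,2,0,2,5,7,0,7,7,5,0,2,5,2,0,7,5,7,0,2]) (Tr.leaf [5,6,2,1,4,0,0,4,5,6,6,5,1,2,5,7,0,7])) (Tr.node (Tr.leaf [0,2,5,1,2,6,6,7,1,7,6,7,1,0,6,2,1,5,7]) (Tr.leaf [])))) (Tr.node (Tr.node (Tr.node (Tr.leaf [2,2,2,2,2]) (Tr.leaf [2,1,1,4,1,7,6,9,5,6,7,1,7,0])) (Tr.node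 (Tr.leaf [6,6,7,1,1,7,6,0,2,5,2,0,7,5,7,6,2,1,1,2]) (Tr.leaf []))) (Tr.node (Tr.node (Tr.leaf [2,0,2,5,7,0,7,5,6,7,1,0,2,5,2,0,7,5,7,6,2,1]) (Tr.leaf [6,7,1,0,2,5,2,0,7,0,9,5,6,6,5,1,5,9])) (Tr.node (Tr.leaf [6,6,7,1,7,6,7,1,1,2,6,0,2,5,1,0,7,5]) (Tr.leaf []))))) (Tr.node (Tr.node (Tr.node (Tr.node (Tr.leaf [1,0,0,6,5,5]) (Tr.leaf [4,7,9,7,1,1,2])) (Tr.node (Tr.leaf [2,1,0,2,5,6,7,1,0,7,5,6]) (Tr.leaf [2,0,2,5,7,0,7,5,3,0,2,5,2,0,7,5,7,3,5,2,5,2,0,7,5,7,3]))) (Tr.node (Tr.node (Tr.leaf [0,2,5,7,0,7,5,1,7,6,0,2,5,2,0,7,5,7,1,2,6,2]) (Tr.leaf [6,7,7,1,1,7,6,2,4,6,9])) (Tr.node (Tr.leaf [7,0,2,5,2,0,7,5,7,5,2,0,2,5,7,0,7,5,2,0,2,5,7,0]) (Tr.leaf [])))) (Tr.node (Tr.node (Tr.node (Tr.leaf [0,2,5,7,0,7,5,7,0,2,5,2,0,7,5,2]) (Tr.leaf [4,0,2,5,2,0,7,5,7,9,7,1,2,6,7,6,2,1]))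 (Tr.node (Tr.leaf [7,5,5,7,7,0,0]) (Tr.leaf []))) (Tr.node (Tr.node (Tr.leaf [5,7,1,2,6,2,1,7,6,7,0,2,5,2,0,7,5,7,0,2,5,2,0,7]) (Tr.leaf [5,9,2,5,6,9,3,5,6,6,0,1,2,6,2,1,0,2,5,2,0,7,5,7,5,9])) (Tr.node (Tr.leaf [6,6,2,1,2,2,1,1,7,6,7,7]) (Tr.leaf [])))))) (Tr.node (Tr.node (Tr.node (Tr.node (Tr.node (Tr.leaf [6,6,6,6,6]) (Tr.leaf [0,2,5,2,0,7,5,6,6,9,3,2,3,6,0,1,2,3])) (Tr.node (Tr.leaf [7,6,0,7,5,0,2,5,2,0,7,5,7,1,2,6,0,2,5,1]) (Tr.leaf [3,5,8,0,0,0]))) (Tr.node (Tr.node (Tr.leaf [7,5,2,0,2,5,7,0,7,5,0,2,2,5,2,0,7,5,7,0]) (Tr.leaf [1,0,9,5,5,9,6,7,1,0,2,5,2,0,7,6,0,1])) (Tr.node (Tr.leaf [1,5,6,2,1,2,6,2,1,1,7,6,0,7,5,2,0,6,7]) (Tr.leaf [])))) (Tr.node (Tr.node (Tr.node (Tr.leaf [0,2,5,7,0,7,5,2,0,2,5,7,0,7,5,2,0,2,5,7,0,7,5,2,0,2,5,7,0,7,5,2,0,2,5,7,0,7,5,2])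 (Tr.leaf [7,1,9,6,2,1,1,7,1,4,6])) (Tr.node (Tr.leaf [1,2,0,2,5,7,0,7,5,1,2,6,6,2,1,1,7,6,6,7]) (Tr.leaf []))) (Tr.node (Tr.node (Tr.leaf [5,7,6,7,1,2,0,2,5,7,0,7,5,6,2,1,0,2,5,2,0,7]) (Tr.leaf [4,0,0,0,1,2,6,0,6,7,1,0,2,5,4,0,7,5,4,0,2,5])) (Tr.node (Tr.leaf [6,7,1,1,2,2,1,2,6,6,7,7]) (Tr.leaf []))))) (Tr.node (Tr.node (Tr.node (Tr.node (Tr.leaf [1,0,6,5,1,0,6,5,1,0,6,5]) (Tr.leaf [4,1,2,6,9,6,6,7,5,2,6,2,1,0])) (Tr.node (Tr.leaf [1,0,7,5,6,7,1,0,2,5,6,2]) (Tr.leaf [7,0,8,2,0,2,5,7,0,7,5,8,0,2,5,2,0,7,5,7,8,2,0,2,5,7,0]))) (Tr.node (Tr.node (Tr.leaf [1,7,6,2,0,2,5,7,0,7,5,1,2,6,0,2,5,2,0,7,5,7]) (Tr.leaf [4,0,6,0,1,1,0,4,5,2,5,7,0,7,5,6,2,1])) (Tr.node (Tr.leaf [7,6,6,2,1,2,6,2,1,1,0,2,5,6,0,7,5,1]) (Tr.leaf [])))) (Tr.node (Tr.node (Tr.node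 (Tr.leaf [7,0,2,5,7,0,7,5,2,0,2,5,2,0,7,5]) (Tr.leaf [6,7,1,2,1,7,6,2,4,2,0,2,5,7,0,7,5,9])) (Tr.node (Tr.leaf [6,5,1,2,2,6,7,6,7,1,0,1,2]) (Tr.leaf []))) (Tr.node (Tr.node (Tr.leaf [7,6,2,0,2,5,7,0,7,5,2,0,2,5,7,0,7,5,2,1,2,6,7,1]) (Tr.leaf [0,2,5,7,0,7,5,6,7,1,7,6,5,1,1,0,8,4,1,0,7,4,0,4,0,2])) (Tr.node (Tr.leaf [1,2,0,2,5,7,0,7,5,6,0,2,5,2,0,7,5,7]) (Tr.leaf []))))))) (Tr.node (Tr.node (Tr.node (Tr.node (Tr.node (Tr.node (Tr.leaf [5,5,5,5,5,5,5,5]) (Tr.leaf [3,2,3,6,0,1,2,3,0,2,5,2,0,7,5,6,6,9])) (Tr.node (Tr.leaf [7,1,2,6,0,2,5,1,7,6,0,7,5,0,2,5,2,0,7,5]) (Tr.leaf [6,8,1,3]))) (Tr.node (Tr.node (Tr.leaf [2,5,2,0,7,5,7,0,7,5,2,0,2,5,7,0,7,5,0,2]) (Tr.leaf [5,9,6,7,1,0,2,5,2,0,7,6,0,1,1,0,9,5])) (Tr.node (Tr.leaf [7,6,7,1,0,6,2,1,5,7,0,2,5,1,2,6,6,7,1])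 (Tr.leaf [])))) (Tr.node (Tr.node (Tr.node (Tr.leaf [2,0,7,5,7,0,2,5,2,0,7,5,7,0,2,5,2,0,7,5,7,0,2,5,2,0,7,5,7,0,2,5,2,0,7,5,7,0,2,5]) (Tr.leaf [1,4,6,2,1,9,6,2,6,6,7])) (Tr.node (Tr.leaf [6,6,2,1,1,7,6,6,7,1,2,0,2,5,7,0,7,5,1,2]) (Tr.leaf []))) (Tr.node (Tr.node (Tr.leaf [7,1,0,2,5,2,0,7,5,7,6,2,1,2,0,2,5,7,0,7,5,6]) (Tr.leaf [4,0,7,5,4,0,2,5,4,0,0,0,1,2,6,0,6,7,1,0,2,5])) (Tr.node (Tr.leaf [1,2,6,0,2,5,1,0,7,5,6,6,7,1,7,6,7,1]) (Tr.leaf []))))) (Tr.node (Tr.node (Tr.node (Tr.node (Tr.leaf [1,5,5,6,0,0]) (Tr.leaf [6,7,5,2,6,2,1,0,4,1,2,6,9,6])) (Tr.node (Tr.leaf [0,7,5,6,2,1,0,2,5,6,7,1]) (Tr.leaf [8,0,2,5,2,0,7,5,7,8,2,0,2,5,7,0,7,0,8,2,0,2,5,7,0,7,5]))) (Tr.node (Tr.node (Tr.leaf [7,6,0,2,5,2,0,7,5,7,1,2,6,2,0,2,5,7,0,7,5,1]) (Tr.leaf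 [5,2,5,7,0,7,5,6,2,1,4,0,6,0,1,1,0,4])) (Tr.node (Tr.leaf [7,0,7,5,2,5,2,0,7,5,7,0,2,5,2,0,7,5,7,0,2,0,2,5]) (Tr.leaf [])))) (Tr.node (Tr.node (Tr.node (Tr.leaf [2,0,2,5,2,0,7,5,7,0,2,5,7,0,7,5]) (Tr.leaf [4,2,0,2,5,7,0,7,5,9,6,7,1,2,1,7,6,2])) (Tr.node (Tr.leaf [6,7,6,7,1,0,1,2,6,5,1,2,2]) (Tr.leaf []))) (Tr.node (Tr.node (Tr.leaf [6,7,0,2,5,2,0,7,5,7,0,2,5,2,0,7,5,7,1,2,6,2,1,7]) (Tr.leaf [4,1,0,7,4,0,4,0,2,0,2,5,7,0,7,5,6,7,1,7,6,5,1,1,0,8])) (Tr.node (Tr.leaf [0,7,5,1,0,2,5,2,0,7,5,7,6,2,0,2,5,7]) (Tr.leaf [])))))) (Tr.node (Tr.node (Tr.node (Tr.node (Tr.node (Tr.leaf [0,1,0,1,0,1,0,1]) (Tr.leaf [9,9])) (Tr.node (Tr.leaf [1,7,6,2,0,2,5,7,0,7,5,0,2,5,1,2,6,0,7,5]) (Tr.leaf [2,0,2,5,7,0,7,5,8,2,0,2,5,7,0,7,5,8,2,0,2,5,7,0,7,5,8,2,0,2,5,7,0,7,5,8,2,0,2,5,7,0,7,5,8])))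 (Tr.node (Tr.node (Tr.leaf [2,0,7,5,7,1,2,6,2,0,2,5,7,0,7,5,1,7,6,0,2,5]) (Tr.leaf [2,1,4,1,9,7,1,2,6,6,2])) (Tr.node (Tr.leaf [1,7,6,0,7,5,2,0,6,7,1,5,6,2,1,2,6,2,1]) (Tr.leaf [])))) (Tr.node (Tr.node (Tr.node (Tr.leaf [0,2,5,2,0,7,5,2,0,2,5,7,0,7,5,7]) (Tr.leaf [1,4,6,7,1,9,6,2,1,1,7])) (Tr.node (Tr.leaf [2,0,0,2,5,5,2]) (Tr.leaf []))) (Tr.node (Tr.node (Tr.leaf [7,0,7,5,6,2,1,0,2,5,2,0,7,5,7,6,7,1,2,0,2,5]) (Tr.leaf [9,0,7,5,6,2,1,5,1,7,6,5,5,5,9,0,7,5,9,0,2,5])) (Tr.node (Tr.leaf [6,6,7,7,6,7,1,1,2,2,1,2]) (Tr.leaf []))))) (Tr.node (Tr.node (Tr.node (Tr.node (Tr.leaf [0,1,5,6,0,1,5,6,0,1,5,6]) (Tr.leaf [6,9,5,6,7,1,7,0,2,1,1,4,1,7])) (Tr.node (Tr.leaf [2,0,7,5,7,6,2,1,1,2,6,6,7,1,1,7,6,0,2,5]) (Tr.leaf [6,1]))) (Tr.node (Tr.node (Tr.leaf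 [0,2,5,2,0,7,5,7,6,2,1,2,0,2,5,7,0,7,5,6,7,1]) (Tr.leaf [9,5,6,6,5,1,5,9,6,7,1,0,2,5,2,0,7,0])) (Tr.node (Tr.leaf [0,2,5,6,0,7,5,1,7,6,6,2,1,2,6,2,1,1]) (Tr.leaf [])))) (Tr.node (Tr.node (Tr.node (Tr.leaf [5,2,0,7,5,7,0,2,5,2,0,2,5,7,0,7,7,5,0,2]) (Tr.leaf [6,6,5,1,2,5,7,0,7,5,6,2,1,4,0,0,4,5])) (Tr.node (Tr.leaf [2,1,2,1,7,7,6,0,1,7,6,5,6]) (Tr.leaf []))) (Tr.node (Tr.node (Tr.leaf [2,6,7,1,7,2,0,2,5,7,0,7,5,2,0,2,5,7,0,7,5,6,2,1]) (Tr.leaf [5,5,3,3,5,5])) (Tr.node (Tr.leaf [1,0,2,5,7,0,7,5,8,7,6,5,1,8,7,8,4,1]) (Tr.leaf []))))))))) (Tr.node (Tr.node (Tr.node (Tr.node (Tr.node (Tr.node (Tr.node (Tr.node (Tr.leaf [0,0,0,0,0,0,0,0]) (Tr.leaf [8,7,6,5,1,8,7,8,4,1,1,0,2,5,7,0,7,5])) (Tr.node (Tr.leaf [1,7,6,7,1,0,2,5,2,0,7,5,7,0,2,5,2,0,7,5,7,2,6,2])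 (Tr.leaf [0,0,0,0,8,8]))) (Tr.node (Tr.node (Tr.leaf [0,2,5,2,0,2,5,7,0,7,7,5,0,2,5,2,0,7,5,7]) (Tr.leaf [0,7,5,6,2,1,4,0,0,4,5,6,6,5,1,2,5,7])) (Tr.node (Tr.leaf [6,0,1,7,6,5,6,2,1,2,1,7,7]) (Tr.leaf [])))) (Tr.node (Tr.node (Tr.node (Tr.leaf [2,2,2,2,2]) (Tr.leaf [7,0,2,1,1,4,1,7,6,9,5,6,7,1])) (Tr.node (Tr.leaf [1,2,6,6,7,1,1,7,6,0,2,5,2,0,7,5,7,6,2,1]) (Tr.leaf []))) (Tr.node (Tr.node (Tr.leaf [2,1,2,0,2,5,7,0,7,5,6,7,1,0,2,5,2,0,7,5,7,6]) (Tr.leaf [5,9,6,7,1,0,2,5,2,0,7,0,9,5,6,6,5,1])) (Tr.node (Tr.leaf [7,5,6,6,7,1,7,6,7,1,1,2,6,0,2,5,1,0]) (Tr.leaf []))))) (Tr.node (Tr.node (Tr.node (Tr.node (Tr.leaf [5,6,5,6,5,6,5,6]) (Tr.leaf [2,9,7,6,6,2,4])) (Tr.node (Tr.leaf [5,7,0,7,5,0,2,5,1,2,6,0,7,5,1,7,6,2,0,2]) (Tr.leaf [7,3,2,0,2,5,7,0,7,5,3,0,2,5,2,0,7,5,7,3,5,2,5,2,0,7,5])))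 (Tr.node (Tr.node (Tr.leaf [6,2,0,2,5,7,0,7,5,1,7,6,0,2,5,2,0,7,5,7,1,2]) (Tr.leaf [6,9,6,7,7,1,1,7,6,2,4])) (Tr.node (Tr.leaf [2,0,6,7,1,5,6,2,1,2,6,2,1,1,7,6,0,7,5]) (Tr.leaf [])))) (Tr.node (Tr.node (Tr.node (Tr.leaf [5,2,0,2,5,7,0,7,5,7,0,2,5,2,0,7]) (Tr.leaf [2,1,4,0,2,5,2,0,7,5,7,9,7,1,2,6,7,6])) (Tr.node (Tr.leaf [0,0,7,5,5,7,7]) (Tr.leaf []))) (Tr.node (Tr.node (Tr.leaf [0,7,5,7,0,2,5,2,0,7,5,7,1,2,6,2,1,7,6,7,0,2,5,2]) (Tr.leaf [2,0,7,5,7,5,9,5,9,2,5,6,9,3,5,6,6,0,1,2,6,2,1,0,2,5])) (Tr.node (Tr.leaf [7,7,6,6,2,1,2,2,1,1,7,6]) (Tr.leaf [])))))) (Tr.node (Tr.node (Tr.node (Tr.node (Tr.node (Tr.leaf [6,6,6,6,6]) (Tr.leaf [2,3,0,2,5,2,0,7,5,6,6,9,3,2,3,6,0,1])) (Tr.node (Tr.leaf [5,1,7,6,0,7,5,0,2,5,2,0,7,5,7,1,2,6,0,2]) (Tr.leaf [0,8,5,5,5,3])))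 (Tr.node (Tr.node (Tr.leaf [7,0,7,5,2,0,2,5,7,0,7,5,0,2,2,5,2,0,7,5]) (Tr.leaf [0,1,1,0,9,5,5,9,6,7,1,0,2,5,2,0,7,6])) (Tr.node (Tr.leaf [6,7,1,5,6,2,1,2,6,2,1,1,7,6,0,7,5,2,0]) (Tr.leaf [])))) (Tr.node (Tr.node (Tr.node (Tr.leaf [7,0,2,5,2,0,7,5,7,0,2,5,2,0,7,5,7,0,2,5,2,0,7,5,7,0,2,5,2,0,7,5,7,0,2,5,2,0,7,5]) (Tr.leaf [4,6,7,1,9,6,2,1,1,7,1])) (Tr.node (Tr.leaf [6,7,1,2,0,2,5,7,0,7,5,1,2,6,6,2,1,1,7,6]) (Tr.leaf []))) (Tr.node (Tr.node (Tr.leaf [2,5,2,0,7,5,7,6,7,1,2,0,2,5,7,0,7,5,6,2,1,0]) (Tr.leaf [2,5,4,0,0,0,1,2,6,0,6,7,1,0,2,5,4,0,7,5,4,0])) (Tr.node (Tr.leaf [7,7,6,7,1,1,2,2,1,2,6,6]) (Tr.leaf []))))) (Tr.node (Tr.node (Tr.node (Tr.node (Tr.leaf [6,5,1,0,6,5,1,0,6,5,1,0]) (Tr.leaf [1,0,4,1,2,6,9,6,6,7,5,2,6,2])) (Tr.node (Tr.leaf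 [6,2,1,0,7,5,6,7,1,0,2,5]) (Tr.leaf [2,5,7,0,7,0,8,2,0,2,5,7,0,7,5,8,0,2,5,2,0,7,5,7,8,2,0]))) (Tr.node (Tr.node (Tr.leaf [5,7,1,7,6,2,0,2,5,7,0,7,5,1,2,6,0,2,5,2,0,7]) (Tr.leaf [2,1,4,0,6,0,1,1,0,4,5,2,5,7,0,7,5,6])) (Tr.node (Tr.leaf [7,5,1,7,6,6,2,1,2,6,2,1,1,0,2,5,6,0]) (Tr.leaf [])))) (Tr.node (Tr.node (Tr.node (Tr.leaf [7,5,7,0,2,5,7,0,7,5,2,0,2,5,2,0]) (Tr.leaf [5,9,6,7,1,2,1,7,6,2,4,2,0,2,5,7,0,7])) (Tr.node (Tr.leaf [1,2,6,5,1,2,2,6,7,6,7,1,0]) (Tr.leaf []))) (Tr.node (Tr.node (Tr.leaf [7,1,7,6,2,0,2,5,7,0,7,5,2,0,2,5,7,0,7,5,2,1,2,6]) (Tr.leaf [4,0,2,0,2,5,7,0,7,5,6,7,1,7,6,5,1,1,0,8,4,1,0,7,4,0])) (Tr.node (Tr.leaf [7,6,2,0,2,5,7,0,7,5,1,0,2,5,2,0,7,5]) (Tr.leaf []))))))) (Tr.node (Tr.node (Tr.node (Tr.node (Tr.node (Tr.node (Tr.leaf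 [5,5,5,5,5,5,5,5]) (Tr.leaf [4,1,1,0,2,5,7,0,7,5,8,7,6,5,1,8,7,8])) (Tr.node (Tr.leaf [7,5,7,1,2,6,0,2,5,1,7,6,0,7,5,0,2,5,2,0]) (Tr.leaf [1,3,6,8]))) (Tr.node (Tr.node (Tr.leaf [0,7,7,5,0,2,5,2,0,7,5,7,0,2,5,2,0,2,5,7]) (Tr.leaf [9,5,5,9,6,7,1,0,2,5,2,0,7,6,0,1,1,0])) (Tr.node (Tr.leaf [6,7,1,7,6,7,1,0,6,2,1,5,7,0,2,5,1,2,6]) (Tr.leaf [])))) (Tr.node (Tr.node (Tr.node (Tr.leaf [2,5,2,0,7,5,7,0,2,5,2,0,7,5,7,0,2,5,2,0,7,5,7,0,2,5,2,0,7,5,7,0,2,5,2,0,7,5,7,0]) (Tr.leaf [6,7,1,4,6,2,1,9,6,2,6])) (Tr.node (Tr.leaf [6,0,2,5,2,0,7,5,7,6,2,1,1,2,6,6,7,1,1,7]) (Tr.leaf []))) (Tr.node (Tr.node (Tr.leaf [5,6,7,1,0,2,5,2,0,7,5,7,6,2,1,2,0,2,5,7,0,7]) (Tr.leaf [0,0,0,1,2,6,0,6,7,1,0,2,5,4,0,7,5,4,0,2,5,4])) (Tr.node (Tr.leaf [7,1,1,2,6,0,2,5,1,0,7,5,6,6,7,1,7,6])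 (Tr.leaf []))))) (Tr.node (Tr.node (Tr.node (Tr.node (Tr.leaf [0,0,1,5,5,6]) (Tr.leaf [2,4,7,9,7,1,1])) (Tr.node (Tr.leaf [7,1,0,7,5,6,2,1,0,2,5,6]) (Tr.leaf [7,0,7,5,8,0,2,5,2,0,7,5,7,8,2,0,2,5,7,0,7,0,8,2,0,2,5]))) (Tr.node (Tr.node (Tr.leaf [5,1,7,6,0,2,5,2,0,7,5,7,1,2,6,2,0,2,5,7,0,7]) (Tr.leaf [6,2,4,6,9,6,7,7,1,1,7])) (Tr.node (Tr.leaf [2,0,2,5,7,0,7,5,2,5,2,0,7,5,7,0,2,5,2,0,7,5,7,0]) (Tr.leaf [])))) (Tr.node (Tr.node (Tr.node (Tr.leaf [5,7,0,2,5,2,0,7,5,2,0,2,5,7,0,7]) (Tr.leaf [7,9,7,1,2,6,7,6,2,1,4,0,2,5,2,0,7,5])) (Tr.node (Tr.leaf [2,2,6,7,6,7,1,0,1,2,6,5,1]) (Tr.leaf []))) (Tr.node (Tr.node (Tr.leaf [1,7,6,7,0,2,5,2,0,7,5,7,0,2,5,2,0,7,5,7,1,2,6,2]) (Tr.leaf [3,5,6,6,0,1,2,6,2,1,0,2,5,2,0,7,5,7,5,9,5,9,2,5,6,9])) (Tr.node (Tr.leaf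 [2,0,2,5,7,0,7,5,1,0,2,5,2,0,7,5,7,6]) (Tr.leaf [])))))) (Tr.node (Tr.node (Tr.node (Tr.node (Tr.node (Tr.leaf [0,1,0,1,0,1,0,1]) (Tr.leaf [6,9,3,2,3,6,0,1,2,3,0,2,5,2,0,7,5,6])) (Tr.node (Tr.leaf [7,5,1,7,6,2,0,2,5,7,0,7,5,0,2,5,1,2,6,0]) (Tr.leaf [2,5,2,0,7,5,7,3,0,2,5,2,0,7,5,7,3,0,2,5,2,0,7,5,7,3,0,2,5,2,0,7,5,7,3,0,2,5,2,0,7,5,7,3,0]))) (Tr.node (Tr.node (Tr.leaf [7,0,7,5,0,2,2,5,2,0,7,5,7,0,7,5,2,0,2,5]) (Tr.leaf [6,2,2,1,4,1,9,7,1,2,6])) (Tr.node (Tr.leaf [2,1,1,7,6,0,7,5,2,0,6,7,1,5,6,2,1,2,6]) (Tr.leaf [])))) (Tr.node (Tr.node (Tr.node (Tr.leaf [5,2,0,2,5,7,0,7,5,2,0,2,5,7,0,7,5,2,0,2,5,7,0,7,5,2,0,2,5,7,0,7,5,2,0,2,5,7,0,7]) (Tr.leaf [1,7,1,4,6,7,1,9,6,2,1])) (Tr.node (Tr.leaf [5,1,2,6,6,2,1,1,7,6,6,7,1,2,0,2,5,7,0,7]) (Tr.leaf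 []))) (Tr.node (Tr.node (Tr.leaf [2,5,7,0,7,5,6,2,1,0,2,5,2,0,7,5,7,6,7,1,2,0]) (Tr.leaf [2,5,9,0,7,5,6,2,1,5,1,7,6,5,5,5,9,0,7,5,9,0])) (Tr.node (Tr.leaf [1,2,6,6,7,7,6,7,1,1,2,2]) (Tr.leaf []))))) (Tr.node (Tr.node (Tr.node (Tr.node (Tr.leaf [5,6,0,1,5,6,0,1,5,6,0,1]) (Tr.leaf [1,7,6,9,5,6,7,1,7,0,2,1,1,4])) (Tr.node (Tr.leaf [1,0,2,5,6,2,1,0,7,5,6,7]) (Tr.leaf [4,9]))) (Tr.node (Tr.node (Tr.leaf [7,0,7,5,1,2,6,0,2,5,2,0,7,5,7,1,7,6,2,0,2,5]) (Tr.leaf [0,4,5,2,5,7,0,7,5,6,2,1,4,0,6,0,1,1])) (Tr.node (Tr.leaf [1,1,0,2,5,6,0,7,5,1,7,6,6,2,1,2,6,2]) (Tr.leaf [])))) (Tr.node (Tr.node (Tr.node (Tr.leaf [7,5,2,0,2,5,2,0,7,5,7,0,2,5,7,0]) (Tr.leaf [2,4,2,0,2,5,7,0,7,5,9,6,7,1,2,1,7,6])) (Tr.node (Tr.leaf [5,6,2,1,2,1,7,7,6,0,1,7,6]) (Tr.leaf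 []))) (Tr.node (Tr.node (Tr.leaf [2,1,2,6,7,1,7,2,0,2,5,7,0,7,5,2,0,2,5,7,0,7,5,6]) (Tr.leaf [5,5,5,5,3,3])) (Tr.node (Tr.leaf [7,1,2,0,2,5,7,0,7,5,6,0,2,5,2,0,7,5]) (Tr.leaf [])))))))) (Tr.node (Tr.node (Tr.node (Tr.node (Tr.node (Tr.node (Tr.node (Tr.leaf [0,0,0,0,0,0,0,0]) (Tr.leaf [1,8,7,8,4,1,1,0,2,5,7,0,7,5,8,7,6,5])) (Tr.node (Tr.leaf [1,0,2,5,2,0,7,5,7,0,2,5,2,0,7,5,7,2,6,2,1,7,6,7]) (Tr.leaf [3,1,8,6]))) (Tr.node (Tr.node (Tr.leaf [0,2,5,7,0,7,7,5,0,2,5,2,0,7,5,7,0,2,5,2]) (Tr.leaf [4,0,0,4,5,6,6,5,1,2,5,7,0,7,5,6,2,1])) (Tr.node (Tr.leaf [5,1,2,6,6,7,1,7,6,7,1,0,6,2,1,5,7,0,2]) (Tr.leaf [])))) (Tr.node (Tr.node (Tr.node (Tr.leaf [7,7,7,7,7]) (Tr.leaf [1,4,1,7,6,9,5,6,7,1,7,0,2,1])) (Tr.node (Tr.leaf [7,1,1,7,6,0,2,5,2,0,7,5,7,6,2,1,1,2,6,6])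 (Tr.leaf []))) (Tr.node (Tr.node (Tr.leaf [2,5,7,0,7,5,6,7,1,0,2,5,2,0,7,5,7,6,2,1,2,0]) (Tr.leaf [0,2,5,2,0,7,0,9,5,6,6,5,1,5,9,6,7,1])) (Tr.node (Tr.leaf [7,1,7,6,7,1,1,2,6,0,2,5,1,0,7,5,6,6]) (Tr.leaf []))))) (Tr.node (Tr.node (Tr.node (Tr.node (Tr.leaf [0,6,5,5,1,0]) (Tr.leaf [9,7,1,1,2,4,7])) (Tr.node (Tr.leaf [0,2,5,6,7,1,0,7,5,6,2,1]) (Tr.leaf [3,0,2,5,2,0,7,5,7,3,5,2,5,2,0,7,5,7,3,2,0,2,5,7,0,7,5]))) (Tr.node (Tr.node (Tr.leaf [5,7,0,7,5,1,7,6,0,2,5,2,0,7,5,7,1,2,6,2,0,2]) (Tr.leaf [7,1,1,7,6,2,4,6,9,6,7])) (Tr.node (Tr.leaf [2,5,2,0,7,5,7,5,2,0,2,5,7,0,7,5,2,0,2,5,7,0,7,0]) (Tr.leaf [])))) (Tr.node (Tr.node (Tr.node (Tr.leaf [5,7,0,7,5,7,0,2,5,2,0,7,5,2,0,2]) (Tr.leaf [2,5,2,0,7,5,7,9,7,1,2,6,7,6,2,1,4,0])) (Tr.node (Tr.leaf [5,7,7,0,0,7,5])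 (Tr.leaf []))) (Tr.node (Tr.node (Tr.leaf [1,2,6,2,1,7,6,7,0,2,5,2,0,7,5,7,0,2,5,2,0,7,5,7]) (Tr.leaf [2,5,6,9,3,5,6,6,0,1,2,6,2,1,0,2,5,2,0,7,5,7,5,9,5,9])) (Tr.node (Tr.leaf [2,1,2,2,1,1,7,6,7,7,6,6]) (Tr.leaf [])))))) (Tr.node (Tr.node (Tr.node (Tr.node (Tr.node (Tr.leaf [0,1,0,1,0,1,0,1]) (Tr.leaf [5,2,0,7,5,6,6,9,3,2,3,6,0,1,2,3,0,2])) (Tr.node (Tr.leaf [1,2,6,0,7,5,1,7,6,2,0,2,5,7,0,7,5,0,2,5]) (Tr.leaf [8,0,0,0,3,5]))) (Tr.node (Tr.node (Tr.leaf [2,0,2,5,7,0,7,5,0,2,2,5,2,0,7,5,7,0,7,5]) (Tr.leaf [7,1,2,6,6,2,2,1,4,1,9])) (Tr.node (Tr.leaf [2,1,2,6,2,1,1,7,6,0,7,5,2,0,6,7,1,5,6]) (Tr.leaf [])))) (Tr.node (Tr.node (Tr.node (Tr.leaf [5,7,0,7,5,2,0,2,5,7,0,7,5,2,0,2,5,7,0,7,5,2,0,2,5,7,0,7,5,2,0,2,5,7,0,7,5,2,0,2]) (Tr.leaf [9,6,2,1,1,7,1,4,6,7,1]))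 (Tr.node (Tr.leaf [2,5,7,0,7,5,1,2,6,6,2,1,1,7,6,6,7,1,2,0]) (Tr.leaf []))) (Tr.node (Tr.node (Tr.leaf [6,7,1,2,0,2,5,7,0,7,5,6,2,1,0,2,5,2,0,7,5,7]) (Tr.leaf [7,5,9,0,2,5,9,0,7,5,6,2,1,5,1,7,6,5,5,5,9,0])) (Tr.node (Tr.leaf [1,1,2,2,1,2,6,6,7,7,6,7]) (Tr.leaf []))))) (Tr.node (Tr.node (Tr.node (Tr.node (Tr.leaf [0,6,5,1,0,6,5,1,0,6,5,1]) (Tr.leaf [2,6,9,6,6,7,5,2,6,2,1,0,4,1])) (Tr.node (Tr.leaf [7,5,6,7,1,0,2,5,6,2,1,0]) (Tr.leaf [0,5]))) (Tr.node (Tr.node (Tr.leaf [6,2,0,2,5,7,0,7,5,1,2,6,0,2,5,2,0,7,5,7,1,7]) (Tr.leaf [6,0,1,1,0,4,5,2,5,7,0,7,5,6,2,1,4,0])) (Tr.node (Tr.leaf [6,2,1,2,6,2,1,1,0,2,5,6,0,7,5,1,7,6]) (Tr.leaf [])))) (Tr.node (Tr.node (Tr.node (Tr.leaf [2,5,7,0,7,5,2,0,2,5,2,0,7,5,7,0]) (Tr.leaf [1,2,1,7,6,2,4,2,0,2,5,7,0,7,5,9,6,7]))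 (Tr.node (Tr.leaf [0,1,7,6,5,6,2,1,2,1,7,7,6]) (Tr.leaf []))) (Tr.node (Tr.node (Tr.leaf [2,0,2,5,7,0,7,5,2,0,2,5,7,0,7,5,2,1,2,6,7,1,7,6]) (Tr.leaf [7,6,5,1,1,0,8,4,1,0,7,4,0,4,0,2,0,2,5,7,0,7,5,6,7,1])) (Tr.node (Tr.leaf [7,0,7,5,6,0,2,5,2,0,7,5,7,1,2,0,2,5]) (Tr.leaf []))))))) (Tr.node (Tr.node (Tr.node (Tr.node (Tr.node (Tr.node (Tr.leaf [1,1,1,1,1]) (Tr.leaf [3,6,0,1,2,3,0,2,5,2,0,7,5,6,6,9,3,2])) (Tr.node (Tr.leaf [2,6,0,2,5,1,7,6,0,7,5,0,2,5,2,0,7,5,7,1]) (Tr.leaf [5,5,5,3,0,8]))) (Tr.node (Tr.node (Tr.leaf [2,0,7,5,7,0,7,5,2,0,2,5,7,0,7,5,0,2,2,5]) (Tr.leaf [6,7,1,0,2,5,2,0,7,6,0,1,1,0,9,5,5,9])) (Tr.node (Tr.leaf [2,1,5,7,0,2,5,1,2,6,6,7,1,7,6,7,1,0,6]) (Tr.leaf [])))) (Tr.node (Tr.node (Tr.node (Tr.leaf [7,5,7,0,2,5,2,0,7,5,7,0,2,5,2,0,7,5,7,0,2,5,2,0,7,5,7,0,2,5,2,0,7,5,7,0,2,5,2,0])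 (Tr.leaf [6,2,1,9,6,2,6,6,7,1,4])) (Tr.node (Tr.leaf [1,1,7,6,6,7,1,2,0,2,5,7,0,7,5,1,2,6,6,2]) (Tr.leaf []))) (Tr.node (Tr.node (Tr.leaf [6,2,1,0,2,5,2,0,7,5,7,6,7,1,2,0,2,5,7,0,7,5]) (Tr.leaf [7,5,4,0,2,5,4,0,0,0,1,2,6,0,6,7,1,0,2,5,4,0])) (Tr.node (Tr.leaf [6,0,2,5,1,0,7,5,6,6,7,1,7,6,7,1,1,2]) (Tr.leaf []))))) (Tr.node (Tr.node (Tr.node (Tr.node (Tr.leaf [5,6,0,0,1,5]) (Tr.leaf [5,2,6,2,1,0,4,1,2,6,9,6,6,7])) (Tr.node (Tr.leaf [5,6,2,1,0,2,5,6,7,1,0,7]) (Tr.leaf [7,8,2,0,2,5,7,0,7,0,8,2,0,2,5,7,0,7,5,8,0,2,5,2,0,7,5]))) (Tr.node (Tr.node (Tr.leaf [2,6,0,2,5,2,0,7,5,7,1,7,6,2,0,2,5,7,0,7,5,1]) (Tr.leaf [5,7,0,7,5,6,2,1,4,0,6,0,1,1,0,4,5,2])) (Tr.node (Tr.leaf [5,2,0,7,5,7,0,2,5,2,0,7,5,7,0,2,0,2,5,7,0,7,5,2]) (Tr.leaf [])))) (Tr.node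 (Tr.node (Tr.node (Tr.leaf [2,5,2,0,7,5,7,0,2,5,7,0,7,5,2,0]) (Tr.leaf [2,5,7,0,7,5,9,6,7,1,2,1,7,6,2,4,2,0])) (Tr.node (Tr.leaf [6,7,1,0,1,2,6,5,1,2,2,6,7]) (Tr.leaf []))) (Tr.node (Tr.node (Tr.leaf [2,1,2,6,7,1,7,6,2,0,2,5,7,0,7,5,2,0,2,5,7,0,7,5]) (Tr.leaf [0,7,4,0,4,0,2,0,2,5,7,0,7,5,6,7,1,7,6,5,1,1,0,8,4,1])) (Tr.node (Tr.leaf [5,1,0,2,5,2,0,7,5,7,6,2,0,2,5,7,0,7]) (Tr.leaf [])))))) (Tr.node (Tr.node (Tr.node (Tr.node (Tr.node (Tr.leaf [6,5,6,5,6,5,6,5]) (Tr.leaf [6,6,2,4,2,9,7])) (Tr.node (Tr.leaf [6,2,0,2,5,7,0,7,5,0,2,5,1,2,6,0,7,5,1,7]) (Tr.leaf [5,2,5,2,0,7,5,7,3,2,0,2,5,7,0,7,5,3,0,2,5,2,0,7,5,7,3]))) (Tr.node (Tr.node (Tr.leaf [5,7,1,2,6,2,0,2,5,7,0,7,5,1,7,6,0,2,5,2,0,7]) (Tr.leaf [4,1,9,7,1,2,6,6,2,2,1])) (Tr.node (Tr.leaf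 [6,0,7,5,2,0,6,7,1,5,6,2,1,2,6,2,1,1,7]) (Tr.leaf [])))) (Tr.node (Tr.node (Tr.node (Tr.leaf [5,2,0,7,5,2,0,2,5,7,0,7,5,7,0,2]) (Tr.leaf [2,6,7,6,2,1,4,0,2,5,2,0,7,5,7,9,7,1])) (Tr.node (Tr.leaf [0,2,5,5,2,2,0]) (Tr.leaf []))) (Tr.node (Tr.node (Tr.leaf [5,6,2,1,0,2,5,2,0,7,5,7,6,7,1,2,0,2,5,7,0,7]) (Tr.leaf [7,5,6,2,1,5,1,7,6,5,5,5,9,0,7,5,9,0,2,5,9,0])) (Tr.node (Tr.leaf [1,1,7,6,7,7,6,6,2,1,2,2]) (Tr.leaf []))))) (Tr.node (Tr.node (Tr.node (Tr.node (Tr.leaf [0,1,5,6,0,1,5,6,0,1,5,6]) (Tr.leaf [5,6,7,1,7,0,2,1,1,4,1,7,6,9])) (Tr.node (Tr.leaf [5,7,6,2,1,1,2,6,6,7,1,1,7,6,0,2,5,2,0,7]) (Tr.leaf [8,3]))) (Tr.node (Tr.node (Tr.leaf [7,5,7,6,2,1,2,0,2,5,7,0,7,5,6,7,1,0,2,5,2,0]) (Tr.leaf [6,6,5,1,5,9,6,7,1,0,2,5,2,0,7,0,9,5])) (Tr.node (Tr.leaf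 [5,6,0,7,5,1,7,6,6,2,1,2,6,2,1,1,0,2]) (Tr.leaf [])))) (Tr.node (Tr.node (Tr.node (Tr.leaf [0,7,5,7,0,2,5,2,0,2,5,7,0,7,7,5,0,2,5,2]) (Tr.leaf [5,1,2,5,7,0,7,5,6,2,1,4,0,0,4,5,6,6])) (Tr.node (Tr.leaf [2,1,7,7,6,0,1,7,6,5,6,2,1]) (Tr.leaf []))) (Tr.node (Tr.node (Tr.leaf [7,1,7,2,0,2,5,7,0,7,5,2,0,2,5,7,0,7,5,6,2,1,2,6]) (Tr.leaf [3,3,5,5,5,5])) (Tr.node (Tr.leaf [7,0,7,5,8,7,6,5,1,8,7,8,4,1,1,0,2,5]) (Tr.leaf [])))))))))))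

/-- The witnesses of the rotations. -/
noncomputable def witT : Tr (Nat × Nat × Bool) := (Tr.node (Tr.node (Tr.node (Tr.node (Tr.node (Tr.node (Tr.node (Tr.node (Tr.node (Tr.node (Tr.leaf (0,0,false)) (Tr.leaf (23,6,false))) (Tr.node (Tr.leaf (12,22,false)) (Tr.leaf (34,5,false)))) (Tr.node (Tr.node (Tr.leaf (8,5,false)) (Tr.leaf (29,4,false))) (Tr.node (Tr.leaf (17,9,true)) (Tr.leaf (0,0,false))))) (Tr.node (Tr.node (Tr.node (Tr.leaf (4,9,true)) (Tr.leaf (26,6,true))) (Tr.node (Tr.leaf (15,8,false)) (Tr.leaf (39,9,false)))) (Tr.node (Tr.node (Tr.leaf (10,6,false)) (Tr.leaf (31,3,true))) (Tr.node (Tr.leaf (20,17,false)) (Tr.leaf (0,0,false)))))) (Tr.node (Tr.node (Tr.node (Tr.node (Tr.leaf (2,2,true)) (Tr.leaf (25,2,false))) (Tr.node (Tr.leaf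 (13,12,true)) (Tr.leaf (38,1,false)))) (Tr.node (Tr.node (Tr.leaf (9,7,false)) (Tr.leaf (30,9,false))) (Tr.node (Tr.leaf (18,15,true)) (Tr.leaf (0,0,false))))) (Tr.node (Tr.node (Tr.node (Tr.leaf (7,3,false)) (Tr.leaf (28,3,false))) (Tr.node (Tr.leaf (16,4,false)) (Tr.leaf (0,0,false)))) (Tr.node (Tr.node (Tr.leaf (11,0,false)) (Tr.leaf (32,15,true))) (Tr.node (Tr.leaf (21,1,true)) (Tr.leaf (0,0,false))))))) (Tr.node (Tr.node (Tr.node (Tr.node (Tr.node (Tr.leaf (1,3,false)) (Tr.leaf (23,4,true))) (Tr.node (Tr.leaf (13,10,false)) (Tr.leaf (36,1,false)))) (Tr.node (Tr.node (Tr.leaf (8,5,true)) (Tr.leaf (29,9,true))) (Tr.node (Tr.leaf (18,17,false)) (Tr.leaf (0,0,false))))) (Tr.node (Tr.node (Tr.node (Tr.leaf (6,6,false)) (Tr.leaf (27,8,false)))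 (Tr.node (Tr.leaf (15,6,true)) (Tr.leaf (0,0,false)))) (Tr.node (Tr.node (Tr.leaf (10,1,true)) (Tr.leaf (32,16,false))) (Tr.node (Tr.leaf (20,15,true)) (Tr.leaf (0,0,false)))))) (Tr.node (Tr.node (Tr.node (Tr.node (Tr.leaf (3,5,true)) (Tr.leaf (26,4,false))) (Tr.node (Tr.leaf (14,0,true)) (Tr.leaf (38,18,true)))) (Tr.node (Tr.node (Tr.leaf (9,2,true)) (Tr.leaf (31,3,false))) (Tr.node (Tr.leaf (19,12,true)) (Tr.leaf (0,0,false))))) (Tr.node (Tr.node (Tr.node (Tr.leaf (7,3,true)) (Tr.leaf (28,4,true))) (Tr.node (Tr.leaf (17,6,false)) (Tr.leaf (0,0,false)))) (Tr.node (Tr.node (Tr.leaf (11,1,true)) (Tr.leaf (33,4,true))) (Tr.node (Tr.leaf (22,12,false)) (Tr.leaf (0,0,false)))))))) (Tr.node (Tr.node (Tr.node (Tr.node (Tr.node (Tr.node (Tr.leaf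 (0,1,true)) (Tr.leaf (23,14,false))) (Tr.node (Tr.leaf (12,9,true)) (Tr.leaf (35,1,false)))) (Tr.node (Tr.node (Tr.leaf (8,13,false)) (Tr.leaf (29,15,false))) (Tr.node (Tr.leaf (18,4,false)) (Tr.leaf (0,0,false))))) (Tr.node (Tr.node (Tr.node (Tr.leaf (5,2,true)) (Tr.leaf (27,0,false))) (Tr.node (Tr.leaf (15,16,false)) (Tr.leaf (0,0,false)))) (Tr.node (Tr.node (Tr.leaf (10,14,false)) (Tr.leaf (31,14,true))) (Tr.node (Tr.leaf (20,7,true)) (Tr.leaf (0,0,false)))))) (Tr.node (Tr.node (Tr.node (Tr.node (Tr.leaf (3,3,false)) (Tr.leaf (25,3,true))) (Tr.node (Tr.leaf (14,4,false)) (Tr.leaf (38,26,false)))) (Tr.node (Tr.node (Tr.leaf (9,15,false)) (Tr.leaf (30,6,true))) (Tr.node (Tr.leaf (19,17,false)) (Tr.leaf (0,0,false))))) (Tr.node (Tr.node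 (Tr.node (Tr.leaf (7,11,false)) (Tr.leaf (28,12,false))) (Tr.node (Tr.leaf (16,5,true)) (Tr.leaf (0,0,false)))) (Tr.node (Tr.node (Tr.leaf (11,17,false)) (Tr.leaf (33,22,false))) (Tr.node (Tr.leaf (21,9,true)) (Tr.leaf (0,0,false))))))) (Tr.node (Tr.node (Tr.node (Tr.node (Tr.node (Tr.leaf (2,2,false)) (Tr.leaf (23,12,true))) (Tr.node (Tr.leaf (13,4,true)) (Tr.leaf (36,3,true)))) (Tr.node (Tr.node (Tr.leaf (8,13,true)) (Tr.leaf (30,1,false))) (Tr.node (Tr.leaf (18,7,true)) (Tr.leaf (0,0,false))))) (Tr.node (Tr.node (Tr.node (Tr.leaf (6,4,true)) (Tr.leaf (27,5,true))) (Tr.node (Tr.leaf (15,15,true)) (Tr.leaf (0,0,false)))) (Tr.node (Tr.node (Tr.leaf (10,12,true)) (Tr.leaf (32,3,true))) (Tr.node (Tr.leaf (21,5,false)) (Tr.leaf (0,0,false))))))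 (Tr.node (Tr.node (Tr.node (Tr.node (Tr.leaf (4,11,false)) (Tr.leaf (26,12,false))) (Tr.node (Tr.leaf (14,8,true)) (Tr.leaf (39,1,false)))) (Tr.node (Tr.node (Tr.leaf (9,14,true)) (Tr.leaf (31,13,false))) (Tr.node (Tr.leaf (20,7,false)) (Tr.leaf (0,0,false))))) (Tr.node (Tr.node (Tr.node (Tr.leaf (7,11,true)) (Tr.leaf (28,13,true))) (Tr.node (Tr.leaf (17,1,true)) (Tr.leaf (0,0,false)))) (Tr.node (Tr.node (Tr.leaf (11,12,true)) (Tr.leaf (33,22,true))) (Tr.node (Tr.leaf (22,11,true)) (Tr.leaf (0,0,false))))))))) (Tr.node (Tr.node (Tr.node (Tr.node (Tr.node (Tr.node (Tr.node (Tr.leaf (0,4,false)) (Tr.leaf (23,10,false))) (Tr.node (Tr.leaf (12,4,true)) (Tr.leaf (34,3,true)))) (Tr.node (Tr.node (Tr.leaf (8,9,false)) (Tr.leaf (29,9,false))) (Tr.node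 (Tr.leaf (18,0,false)) (Tr.leaf (0,0,false))))) (Tr.node (Tr.node (Tr.node (Tr.leaf (5,2,false)) (Tr.leaf (26,10,true))) (Tr.node (Tr.leaf (15,12,false)) (Tr.leaf (0,0,false)))) (Tr.node (Tr.node (Tr.leaf (10,10,false)) (Tr.leaf (31,7,true))) (Tr.node (Tr.leaf (20,3,true)) (Tr.leaf (0,0,false)))))) (Tr.node (Tr.node (Tr.node (Tr.node (Tr.leaf (2,7,true)) (Tr.leaf (25,6,false))) (Tr.node (Tr.leaf (14,0,false)) (Tr.leaf (38,8,false)))) (Tr.node (Tr.node (Tr.leaf (9,11,false)) (Tr.leaf (30,2,true))) (Tr.node (Tr.leaf (19,0,false)) (Tr.leaf (0,0,false))))) (Tr.node (Tr.node (Tr.node (Tr.leaf (7,7,false)) (Tr.leaf (28,7,false))) (Tr.node (Tr.leaf (16,1,true)) (Tr.leaf (0,0,false)))) (Tr.node (Tr.node (Tr.leaf (11,13,false)) (Tr.leaf (33,18,false)))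 (Tr.node (Tr.leaf (21,5,true)) (Tr.leaf (0,0,false))))))) (Tr.node (Tr.node (Tr.node (Tr.node (Tr.node (Tr.leaf (1,3,true)) (Tr.leaf (23,8,true))) (Tr.node (Tr.leaf (13,14,false)) (Tr.leaf (36,5,false)))) (Tr.node (Tr.node (Tr.leaf (8,9,true)) (Tr.leaf (29,15,true))) (Tr.node (Tr.leaf (18,2,true)) (Tr.leaf (0,0,false))))) (Tr.node (Tr.node (Tr.node (Tr.leaf (6,0,true)) (Tr.leaf (27,1,true))) (Tr.node (Tr.leaf (15,10,true)) (Tr.leaf (0,0,false)))) (Tr.node (Tr.node (Tr.leaf (10,7,true)) (Tr.leaf (32,20,false))) (Tr.node (Tr.leaf (21,1,false)) (Tr.leaf (0,0,false)))))) (Tr.node (Tr.node (Tr.node (Tr.node (Tr.leaf (4,3,false)) (Tr.leaf (26,8,false))) (Tr.node (Tr.leaf (14,4,true)) (Tr.leaf (38,23,true)))) (Tr.node (Tr.node (Tr.leaf (9,10,true))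 (Tr.leaf (31,9,false))) (Tr.node (Tr.leaf (20,2,false)) (Tr.leaf (0,0,false))))) (Tr.node (Tr.node (Tr.node (Tr.leaf (7,7,true)) (Tr.leaf (28,9,true))) (Tr.node (Tr.leaf (17,10,false)) (Tr.leaf (0,0,false)))) (Tr.node (Tr.node (Tr.leaf (11,5,true)) (Tr.leaf (33,8,true))) (Tr.node (Tr.leaf (22,17,false)) (Tr.leaf (0,0,false)))))))) (Tr.node (Tr.node (Tr.node (Tr.node (Tr.node (Tr.node (Tr.leaf (0,5,true)) (Tr.leaf (23,0,true))) (Tr.node (Tr.leaf (13,6,false)) (Tr.leaf (35,1,true)))) (Tr.node (Tr.node (Tr.leaf (8,17,false)) (Tr.leaf (29,1,true))) (Tr.node (Tr.leaf (18,9,false)) (Tr.leaf (0,0,false))))) (Tr.node (Tr.node (Tr.node (Tr.leaf (6,2,false)) (Tr.leaf (27,4,false))) (Tr.node (Tr.leaf (15,1,true)) (Tr.leaf (0,0,false)))) (Tr.node (Tr.node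 (Tr.leaf (10,19,false)) (Tr.leaf (32,12,false))) (Tr.node (Tr.leaf (20,11,true)) (Tr.leaf (0,0,false)))))) (Tr.node (Tr.node (Tr.node (Tr.node (Tr.leaf (3,1,true)) (Tr.leaf (26,0,false))) (Tr.node (Tr.leaf (14,8,false)) (Tr.leaf (38,8,true)))) (Tr.node (Tr.node (Tr.leaf (9,19,false)) (Tr.leaf (30,10,true))) (Tr.node (Tr.leaf (19,2,true)) (Tr.leaf (0,0,false))))) (Tr.node (Tr.node (Tr.node (Tr.leaf (7,15,false)) (Tr.leaf (28,17,false))) (Tr.node (Tr.leaf (17,2,false)) (Tr.leaf (0,0,false)))) (Tr.node (Tr.node (Tr.leaf (11,21,false)) (Tr.leaf (33,0,true))) (Tr.node (Tr.leaf (22,1,false)) (Tr.leaf (0,0,false))))))) (Tr.node (Tr.node (Tr.node (Tr.node (Tr.node (Tr.leaf (2,6,false)) (Tr.leaf (24,1,false))) (Tr.node (Tr.leaf (13,8,true)) (Tr.leaf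 (37,8,false)))) (Tr.node (Tr.node (Tr.leaf (9,0,false)) (Tr.leaf (30,5,false))) (Tr.node (Tr.leaf (18,11,true)) (Tr.leaf (0,0,false))))) (Tr.node (Tr.node (Tr.node (Tr.leaf (6,8,true)) (Tr.leaf (27,9,true))) (Tr.node (Tr.leaf (16,0,false)) (Tr.leaf (0,0,false)))) (Tr.node (Tr.node (Tr.leaf (10,17,true)) (Tr.leaf (32,7,true))) (Tr.node (Tr.leaf (21,9,false)) (Tr.leaf (0,0,false)))))) (Tr.node (Tr.node (Tr.node (Tr.node (Tr.leaf (4,3,true)) (Tr.leaf (26,2,true))) (Tr.node (Tr.leaf (15,0,false)) (Tr.leaf (39,5,false)))) (Tr.node (Tr.node (Tr.leaf (9,21,true)) (Tr.leaf (31,17,false))) (Tr.node (Tr.leaf (20,13,false)) (Tr.leaf (0,0,false))))) (Tr.node (Tr.node (Tr.node (Tr.leaf (7,15,true)) (Tr.leaf (29,0,false))) (Tr.node (Tr.leaf (17,5,true))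 (Tr.leaf (0,0,false)))) (Tr.node (Tr.node (Tr.leaf (12,18,false)) (Tr.leaf (34,1,false))) (Tr.node (Tr.leaf (23,0,false)) (Tr.leaf (0,0,false)))))))))) (Tr.node (Tr.node (Tr.node (Tr.node (Tr.node (Tr.node (Tr.node (Tr.node (Tr.leaf (0,2,false)) (Tr.leaf (23,8,false))) (Tr.node (Tr.leaf (12,2,true)) (Tr.leaf (34,1,true)))) (Tr.node (Tr.node (Tr.leaf (8,7,false)) (Tr.leaf (29,6,false))) (Tr.node (Tr.leaf (17,11,true)) (Tr.leaf (0,0,false))))) (Tr.node (Tr.node (Tr.node (Tr.leaf (5,0,false)) (Tr.leaf (26,8,true))) (Tr.node (Tr.leaf (15,10,false)) (Tr.leaf (0,0,false)))) (Tr.node (Tr.node (Tr.leaf (10,8,false)) (Tr.leaf (31,5,true))) (Tr.node (Tr.leaf (20,1,true)) (Tr.leaf (0,0,false)))))) (Tr.node (Tr.node (Tr.node (Tr.node (Tr.leaf (2,5,true))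 (Tr.leaf (25,4,false))) (Tr.node (Tr.leaf (13,14,true)) (Tr.leaf (38,6,false)))) (Tr.node (Tr.node (Tr.leaf (9,9,false)) (Tr.leaf (30,0,true))) (Tr.node (Tr.leaf (18,17,true)) (Tr.leaf (0,0,false))))) (Tr.node (Tr.node (Tr.node (Tr.leaf (7,5,false)) (Tr.leaf (28,5,false))) (Tr.node (Tr.leaf (16,6,false)) (Tr.leaf (0,0,false)))) (Tr.node (Tr.node (Tr.leaf (11,2,false)) (Tr.leaf (33,0,false))) (Tr.node (Tr.leaf (21,3,true)) (Tr.leaf (0,0,false))))))) (Tr.node (Tr.node (Tr.node (Tr.node (Tr.node (Tr.leaf (1,1,true)) (Tr.leaf (23,6,true))) (Tr.node (Tr.leaf (13,12,false)) (Tr.leaf (36,3,false)))) (Tr.node (Tr.node (Tr.leaf (8,7,true)) (Tr.leaf (29,12,true))) (Tr.node (Tr.leaf (18,0,true)) (Tr.leaf (0,0,false))))) (Tr.node (Tr.node (Tr.node (Tr.leaf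 (6,8,false)) (Tr.leaf (27,10,false))) (Tr.node (Tr.leaf (15,8,true)) (Tr.leaf (0,0,false)))) (Tr.node (Tr.node (Tr.leaf (10,3,true)) (Tr.leaf (32,18,false))) (Tr.node (Tr.leaf (20,17,true)) (Tr.leaf (0,0,false)))))) (Tr.node (Tr.node (Tr.node (Tr.node (Tr.leaf (4,1,false)) (Tr.leaf (26,6,false))) (Tr.node (Tr.leaf (14,2,true)) (Tr.leaf (38,20,true)))) (Tr.node (Tr.node (Tr.leaf (9,8,true)) (Tr.leaf (31,5,false))) (Tr.node (Tr.leaf (20,0,false)) (Tr.leaf (0,0,false))))) (Tr.node (Tr.node (Tr.node (Tr.leaf (7,5,true)) (Tr.leaf (28,6,true))) (Tr.node (Tr.leaf (17,8,false)) (Tr.leaf (0,0,false)))) (Tr.node (Tr.node (Tr.leaf (11,3,true)) (Tr.leaf (33,6,true))) (Tr.node (Tr.leaf (22,14,false)) (Tr.leaf (0,0,false)))))))) (Tr.node (Tr.node (Tr.node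 (Tr.node (Tr.node (Tr.node (Tr.leaf (0,3,true)) (Tr.leaf (23,16,false))) (Tr.node (Tr.leaf (13,4,false)) (Tr.leaf (35,3,false)))) (Tr.node (Tr.node (Tr.leaf (8,15,false)) (Tr.leaf (29,17,false))) (Tr.node (Tr.leaf (18,6,false)) (Tr.leaf (0,0,false))))) (Tr.node (Tr.node (Tr.node (Tr.leaf (5,4,true)) (Tr.leaf (27,2,false))) (Tr.node (Tr.leaf (15,18,false)) (Tr.leaf (0,0,false)))) (Tr.node (Tr.node (Tr.leaf (10,16,false)) (Tr.leaf (31,17,true))) (Tr.node (Tr.leaf (20,9,true)) (Tr.leaf (0,0,false)))))) (Tr.node (Tr.node (Tr.node (Tr.node (Tr.leaf (3,5,false)) (Tr.leaf (25,5,true))) (Tr.node (Tr.leaf (14,6,false)) (Tr.leaf (38,1,true)))) (Tr.node (Tr.node (Tr.leaf (9,17,false)) (Tr.leaf (30,8,true))) (Tr.node (Tr.leaf (19,19,false)) (Tr.leaf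 (0,0,false))))) (Tr.node (Tr.node (Tr.node (Tr.leaf (7,13,false)) (Tr.leaf (28,15,false))) (Tr.node (Tr.leaf (17,0,false)) (Tr.leaf (0,0,false)))) (Tr.node (Tr.node (Tr.leaf (11,19,false)) (Tr.leaf (33,24,false))) (Tr.node (Tr.leaf (21,11,true)) (Tr.leaf (0,0,false))))))) (Tr.node (Tr.node (Tr.node (Tr.node (Tr.node (Tr.leaf (2,4,false)) (Tr.leaf (23,15,true))) (Tr.node (Tr.leaf (13,6,true)) (Tr.leaf (36,5,true)))) (Tr.node (Tr.node (Tr.leaf (8,15,true)) (Tr.leaf (30,3,false))) (Tr.node (Tr.leaf (18,9,true)) (Tr.leaf (0,0,false))))) (Tr.node (Tr.node (Tr.node (Tr.leaf (6,6,true)) (Tr.leaf (27,7,true))) (Tr.node (Tr.leaf (15,17,true)) (Tr.leaf (0,0,false)))) (Tr.node (Tr.node (Tr.leaf (10,14,true)) (Tr.leaf (32,5,true))) (Tr.node (Tr.leaf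 (21,7,false)) (Tr.leaf (0,0,false)))))) (Tr.node (Tr.node (Tr.node (Tr.node (Tr.leaf (4,1,true)) (Tr.leaf (26,0,true))) (Tr.node (Tr.leaf (14,10,true)) (Tr.leaf (39,3,false)))) (Tr.node (Tr.node (Tr.leaf (9,16,true)) (Tr.leaf (31,15,false))) (Tr.node (Tr.leaf (20,11,false)) (Tr.leaf (0,0,false))))) (Tr.node (Tr.node (Tr.node (Tr.leaf (7,13,true)) (Tr.leaf (28,16,true))) (Tr.node (Tr.leaf (17,3,true)) (Tr.leaf (0,0,false)))) (Tr.node (Tr.node (Tr.leaf (12,16,false)) (Tr.leaf (33,25,true))) (Tr.node (Tr.leaf (22,13,true)) (Tr.leaf (0,0,false))))))))) (Tr.node (Tr.node (Tr.node (Tr.node (Tr.node (Tr.node (Tr.node (Tr.leaf (0,6,false)) (Tr.leaf (23,12,false))) (Tr.node (Tr.leaf (12,6,true)) (Tr.leaf (34,5,true)))) (Tr.node (Tr.node (Tr.leaf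 (8,11,false)) (Tr.leaf (29,13,false))) (Tr.node (Tr.leaf (18,2,false)) (Tr.leaf (0,0,false))))) (Tr.node (Tr.node (Tr.node (Tr.leaf (5,4,false)) (Tr.leaf (26,12,true))) (Tr.node (Tr.leaf (15,14,false)) (Tr.leaf (0,0,false)))) (Tr.node (Tr.node (Tr.leaf (10,12,false)) (Tr.leaf (31,9,true))) (Tr.node (Tr.leaf (20,5,true)) (Tr.leaf (0,0,false)))))) (Tr.node (Tr.node (Tr.node (Tr.node (Tr.leaf (3,1,false)) (Tr.leaf (25,1,true))) (Tr.node (Tr.leaf (14,2,false)) (Tr.leaf (38,12,false)))) (Tr.node (Tr.node (Tr.leaf (9,13,false)) (Tr.leaf (30,4,true))) (Tr.node (Tr.leaf (19,15,false)) (Tr.leaf (0,0,false))))) (Tr.node (Tr.node (Tr.node (Tr.leaf (7,9,false)) (Tr.leaf (28,9,false))) (Tr.node (Tr.leaf (16,3,true)) (Tr.leaf (0,0,false)))) (Tr.node (Tr.node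 (Tr.leaf (11,15,false)) (Tr.leaf (33,20,false))) (Tr.node (Tr.leaf (21,7,true)) (Tr.leaf (0,0,false))))))) (Tr.node (Tr.node (Tr.node (Tr.node (Tr.node (Tr.leaf (2,0,false)) (Tr.leaf (23,10,true))) (Tr.node (Tr.leaf (13,16,false)) (Tr.leaf (36,1,true)))) (Tr.node (Tr.node (Tr.leaf (8,11,true)) (Tr.leaf (29,17,true))) (Tr.node (Tr.leaf (18,4,true)) (Tr.leaf (0,0,false))))) (Tr.node (Tr.node (Tr.node (Tr.leaf (6,2,true)) (Tr.leaf (27,3,true))) (Tr.node (Tr.leaf (15,12,true)) (Tr.leaf (0,0,false)))) (Tr.node (Tr.node (Tr.leaf (10,10,true)) (Tr.leaf (32,0,true))) (Tr.node (Tr.leaf (21,3,false)) (Tr.leaf (0,0,false)))))) (Tr.node (Tr.node (Tr.node (Tr.node (Tr.leaf (4,5,false)) (Tr.leaf (26,10,false))) (Tr.node (Tr.leaf (14,6,true)) (Tr.leaf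 (38,26,true)))) (Tr.node (Tr.node (Tr.leaf (9,12,true)) (Tr.leaf (31,11,false))) (Tr.node (Tr.leaf (20,5,false)) (Tr.leaf (0,0,false))))) (Tr.node (Tr.node (Tr.node (Tr.leaf (7,9,true)) (Tr.leaf (28,11,true))) (Tr.node (Tr.leaf (17,12,false)) (Tr.leaf (0,0,false)))) (Tr.node (Tr.node (Tr.leaf (11,7,true)) (Tr.leaf (33,18,true))) (Tr.node (Tr.leaf (22,1,true)) (Tr.leaf (0,0,false)))))))) (Tr.node (Tr.node (Tr.node (Tr.node (Tr.node (Tr.node (Tr.leaf (1,1,false)) (Tr.leaf (23,2,true))) (Tr.node (Tr.leaf (13,8,false)) (Tr.leaf (35,3,true)))) (Tr.node (Tr.node (Tr.leaf (8,3,true)) (Tr.leaf (29,3,true))) (Tr.node (Tr.leaf (18,15,false)) (Tr.leaf (0,0,false))))) (Tr.node (Tr.node (Tr.node (Tr.leaf (6,4,false)) (Tr.leaf (27,6,false))) (Tr.node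 (Tr.leaf (15,4,true)) (Tr.leaf (0,0,false)))) (Tr.node (Tr.node (Tr.leaf (10,21,false)) (Tr.leaf (32,14,false))) (Tr.node (Tr.leaf (20,13,true)) (Tr.leaf (0,0,false)))))) (Tr.node (Tr.node (Tr.node (Tr.node (Tr.leaf (3,3,true)) (Tr.leaf (26,2,false))) (Tr.node (Tr.leaf (14,10,false)) (Tr.leaf (38,10,true)))) (Tr.node (Tr.node (Tr.leaf (9,21,false)) (Tr.leaf (31,1,false))) (Tr.node (Tr.leaf (19,6,true)) (Tr.leaf (0,0,false))))) (Tr.node (Tr.node (Tr.node (Tr.leaf (7,1,true)) (Tr.leaf (28,1,true))) (Tr.node (Tr.leaf (17,4,false)) (Tr.leaf (0,0,false)))) (Tr.node (Tr.node (Tr.leaf (11,23,false)) (Tr.leaf (33,2,true))) (Tr.node (Tr.leaf (22,6,false)) (Tr.leaf (0,0,false))))))) (Tr.node (Tr.node (Tr.node (Tr.node (Tr.node (Tr.leaf (2,0,true))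 (Tr.leaf (25,0,false))) (Tr.node (Tr.leaf (13,10,true)) (Tr.leaf (37,9,true)))) (Tr.node (Tr.node (Tr.leaf (9,5,false)) (Tr.leaf (30,7,false))) (Tr.node (Tr.leaf (18,13,true)) (Tr.leaf (0,0,false))))) (Tr.node (Tr.node (Tr.node (Tr.leaf (7,1,false)) (Tr.leaf (28,0,false))) (Tr.node (Tr.leaf (16,2,false)) (Tr.leaf (0,0,false)))) (Tr.node (Tr.node (Tr.leaf (10,19,true)) (Tr.leaf (32,9,true))) (Tr.node (Tr.leaf (21,11,false)) (Tr.leaf (0,0,false)))))) (Tr.node (Tr.node (Tr.node (Tr.node (Tr.leaf (4,6,true)) (Tr.leaf (26,4,true))) (Tr.node (Tr.leaf (15,4,false)) (Tr.leaf (39,7,false)))) (Tr.node (Tr.node (Tr.leaf (10,4,false)) (Tr.leaf (31,1,true))) (Tr.node (Tr.leaf (20,15,false)) (Tr.leaf (0,0,false))))) (Tr.node (Tr.node (Tr.node (Tr.leaf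 (8,3,false)) (Tr.leaf (29,2,false))) (Tr.node (Tr.leaf (17,7,true)) (Tr.leaf (0,0,false)))) (Tr.node (Tr.node (Tr.leaf (12,20,false)) (Tr.leaf (34,3,false))) (Tr.node (Tr.leaf (23,4,false)) (Tr.leaf (0,0,false))))))))))) (Tr.node (Tr.node (Tr.node (Tr.node (Tr.node (Tr.node (Tr.node (Tr.node (Tr.node (Tr.leaf (0,1,false)) (Tr.leaf (23,7,false))) (Tr.node (Tr.leaf (12,1,true)) (Tr.leaf (34,0,true)))) (Tr.node (Tr.node (Tr.leaf (8,6,false)) (Tr.leaf (29,5,false))) (Tr.node (Tr.leaf (17,10,true)) (Tr.leaf (0,0,false))))) (Tr.node (Tr.node (Tr.node (Tr.leaf (4,11,true)) (Tr.leaf (26,7,true))) (Tr.node (Tr.leaf (15,9,false)) (Tr.leaf (0,0,false)))) (Tr.node (Tr.node (Tr.leaf (10,7,false)) (Tr.leaf (31,4,true))) (Tr.node (Tr.leaf (20,0,true))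 (Tr.leaf (0,0,false)))))) (Tr.node (Tr.node (Tr.node (Tr.node (Tr.leaf (2,3,true)) (Tr.leaf (25,3,false))) (Tr.node (Tr.leaf (13,13,true)) (Tr.leaf (38,4,false)))) (Tr.node (Tr.node (Tr.leaf (9,8,false)) (Tr.leaf (30,10,false))) (Tr.node (Tr.leaf (18,16,true)) (Tr.leaf (0,0,false))))) (Tr.node (Tr.node (Tr.node (Tr.leaf (7,4,false)) (Tr.leaf (28,4,false))) (Tr.node (Tr.leaf (16,5,false)) (Tr.leaf (0,0,false)))) (Tr.node (Tr.node (Tr.leaf (11,1,false)) (Tr.leaf (32,16,true))) (Tr.node (Tr.leaf (21,2,true)) (Tr.leaf (0,0,false))))))) (Tr.node (Tr.node (Tr.node (Tr.node (Tr.node (Tr.leaf (1,4,false)) (Tr.leaf (23,5,true))) (Tr.node (Tr.leaf (13,11,false)) (Tr.leaf (36,2,false)))) (Tr.node (Tr.node (Tr.leaf (8,6,true)) (Tr.leaf (29,10,true)))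 (Tr.node (Tr.leaf (18,18,false)) (Tr.leaf (0,0,false))))) (Tr.node (Tr.node (Tr.node (Tr.leaf (6,7,false)) (Tr.leaf (27,9,false))) (Tr.node (Tr.leaf (15,7,true)) (Tr.leaf (0,0,false)))) (Tr.node (Tr.node (Tr.leaf (10,2,true)) (Tr.leaf (32,17,false))) (Tr.node (Tr.leaf (20,16,true)) (Tr.leaf (0,0,false)))))) (Tr.node (Tr.node (Tr.node (Tr.node (Tr.leaf (4,0,false)) (Tr.leaf (26,5,false))) (Tr.node (Tr.leaf (14,1,true)) (Tr.leaf (38,19,true)))) (Tr.node (Tr.node (Tr.leaf (9,4,true)) (Tr.leaf (31,4,false))) (Tr.node (Tr.leaf (19,14,true)) (Tr.leaf (0,0,false))))) (Tr.node (Tr.node (Tr.node (Tr.leaf (7,4,true)) (Tr.leaf (28,5,true))) (Tr.node (Tr.leaf (17,7,false)) (Tr.leaf (0,0,false)))) (Tr.node (Tr.node (Tr.leaf (11,2,true)) (Tr.leaf (33,5,true)))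 (Tr.node (Tr.leaf (22,13,false)) (Tr.leaf (0,0,false)))))))) (Tr.node (Tr.node (Tr.node (Tr.node (Tr.node (Tr.node (Tr.leaf (0,2,true)) (Tr.leaf (23,15,false))) (Tr.node (Tr.leaf (13,3,false)) (Tr.leaf (35,2,false)))) (Tr.node (Tr.node (Tr.leaf (8,14,false)) (Tr.leaf (29,16,false))) (Tr.node (Tr.leaf (18,5,false)) (Tr.leaf (0,0,false))))) (Tr.node (Tr.node (Tr.node (Tr.leaf (5,3,true)) (Tr.leaf (27,1,false))) (Tr.node (Tr.leaf (15,17,false)) (Tr.leaf (0,0,false)))) (Tr.node (Tr.node (Tr.leaf (10,15,false)) (Tr.leaf (31,15,true))) (Tr.node (Tr.leaf (20,8,true)) (Tr.leaf (0,0,false)))))) (Tr.node (Tr.node (Tr.node (Tr.node (Tr.leaf (3,4,false)) (Tr.leaf (25,4,true))) (Tr.node (Tr.leaf (14,5,false)) (Tr.leaf (38,0,true)))) (Tr.node (Tr.node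 (Tr.leaf (9,16,false)) (Tr.leaf (30,7,true))) (Tr.node (Tr.leaf (19,18,false)) (Tr.leaf (0,0,false))))) (Tr.node (Tr.node (Tr.node (Tr.leaf (7,12,false)) (Tr.leaf (28,14,false))) (Tr.node (Tr.leaf (16,6,true)) (Tr.leaf (0,0,false)))) (Tr.node (Tr.node (Tr.leaf (11,18,false)) (Tr.leaf (33,23,false))) (Tr.node (Tr.leaf (21,10,true)) (Tr.leaf (0,0,false))))))) (Tr.node (Tr.node (Tr.node (Tr.node (Tr.node (Tr.leaf (2,3,false)) (Tr.leaf (23,13,true))) (Tr.node (Tr.leaf (13,5,true)) (Tr.leaf (36,4,true)))) (Tr.node (Tr.node (Tr.leaf (8,14,true)) (Tr.leaf (30,2,false))) (Tr.node (Tr.leaf (18,8,true)) (Tr.leaf (0,0,false))))) (Tr.node (Tr.node (Tr.node (Tr.leaf (6,5,true)) (Tr.leaf (27,6,true))) (Tr.node (Tr.leaf (15,16,true)) (Tr.leaf (0,0,false))))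 (Tr.node (Tr.node (Tr.leaf (10,13,true)) (Tr.leaf (32,4,true))) (Tr.node (Tr.leaf (21,6,false)) (Tr.leaf (0,0,false)))))) (Tr.node (Tr.node (Tr.node (Tr.node (Tr.leaf (4,0,true)) (Tr.leaf (26,13,false))) (Tr.node (Tr.leaf (14,9,true)) (Tr.leaf (39,2,false)))) (Tr.node (Tr.node (Tr.leaf (9,15,true)) (Tr.leaf (31,14,false))) (Tr.node (Tr.leaf (20,9,false)) (Tr.leaf (0,0,false))))) (Tr.node (Tr.node (Tr.node (Tr.leaf (7,12,true)) (Tr.leaf (28,15,true))) (Tr.node (Tr.leaf (17,2,true)) (Tr.leaf (0,0,false)))) (Tr.node (Tr.node (Tr.leaf (12,4,false)) (Tr.leaf (33,24,true))) (Tr.node (Tr.leaf (22,12,true)) (Tr.leaf (0,0,false))))))))) (Tr.node (Tr.node (Tr.node (Tr.node (Tr.node (Tr.node (Tr.node (Tr.leaf (0,5,false)) (Tr.leaf (23,11,false))) (Tr.node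 (Tr.leaf (12,5,true)) (Tr.leaf (34,4,true)))) (Tr.node (Tr.node (Tr.leaf (8,10,false)) (Tr.leaf (29,10,false))) (Tr.node (Tr.leaf (18,1,false)) (Tr.leaf (0,0,false))))) (Tr.node (Tr.node (Tr.node (Tr.leaf (5,3,false)) (Tr.leaf (26,11,true))) (Tr.node (Tr.leaf (15,13,false)) (Tr.leaf (0,0,false)))) (Tr.node (Tr.node (Tr.leaf (10,11,false)) (Tr.leaf (31,8,true))) (Tr.node (Tr.leaf (20,4,true)) (Tr.leaf (0,0,false)))))) (Tr.node (Tr.node (Tr.node (Tr.node (Tr.leaf (3,0,false)) (Tr.leaf (25,0,true))) (Tr.node (Tr.leaf (14,1,false)) (Tr.leaf (38,9,false)))) (Tr.node (Tr.node (Tr.leaf (9,12,false)) (Tr.leaf (30,3,true))) (Tr.node (Tr.leaf (19,14,false)) (Tr.leaf (0,0,false))))) (Tr.node (Tr.node (Tr.node (Tr.leaf (7,8,false)) (Tr.leaf (28,8,false)))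 (Tr.node (Tr.leaf (16,2,true)) (Tr.leaf (0,0,false)))) (Tr.node (Tr.node (Tr.leaf (11,14,false)) (Tr.leaf (33,19,false))) (Tr.node (Tr.leaf (21,6,true)) (Tr.leaf (0,0,false))))))) (Tr.node (Tr.node (Tr.node (Tr.node (Tr.node (Tr.leaf (1,4,true)) (Tr.leaf (23,9,true))) (Tr.node (Tr.leaf (13,15,false)) (Tr.leaf (36,0,true)))) (Tr.node (Tr.node (Tr.leaf (8,10,true)) (Tr.leaf (29,16,true))) (Tr.node (Tr.leaf (18,3,true)) (Tr.leaf (0,0,false))))) (Tr.node (Tr.node (Tr.node (Tr.leaf (6,1,true)) (Tr.leaf (27,2,true))) (Tr.node (Tr.leaf (15,11,true)) (Tr.leaf (0,0,false)))) (Tr.node (Tr.node (Tr.leaf (10,9,true)) (Tr.leaf (32,21,false))) (Tr.node (Tr.leaf (21,2,false)) (Tr.leaf (0,0,false)))))) (Tr.node (Tr.node (Tr.node (Tr.node (Tr.leaf (4,4,false))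 (Tr.leaf (26,9,false))) (Tr.node (Tr.leaf (14,5,true)) (Tr.leaf (38,25,true)))) (Tr.node (Tr.node (Tr.leaf (9,11,true)) (Tr.leaf (31,10,false))) (Tr.node (Tr.leaf (20,4,false)) (Tr.leaf (0,0,false))))) (Tr.node (Tr.node (Tr.node (Tr.leaf (7,8,true)) (Tr.leaf (28,10,true))) (Tr.node (Tr.leaf (17,11,false)) (Tr.leaf (0,0,false)))) (Tr.node (Tr.node (Tr.leaf (11,6,true)) (Tr.leaf (33,10,true))) (Tr.node (Tr.leaf (22,0,true)) (Tr.leaf (0,0,false)))))))) (Tr.node (Tr.node (Tr.node (Tr.node (Tr.node (Tr.node (Tr.leaf (0,7,true)) (Tr.leaf (23,1,true))) (Tr.node (Tr.leaf (13,7,false)) (Tr.leaf (35,2,true)))) (Tr.node (Tr.node (Tr.leaf (8,2,true)) (Tr.leaf (29,2,true))) (Tr.node (Tr.leaf (18,10,false)) (Tr.leaf (0,0,false))))) (Tr.node (Tr.node (Tr.node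 (Tr.leaf (6,3,false)) (Tr.leaf (27,5,false))) (Tr.node (Tr.leaf (15,2,true)) (Tr.leaf (0,0,false)))) (Tr.node (Tr.node (Tr.leaf (10,20,false)) (Tr.leaf (32,13,false))) (Tr.node (Tr.leaf (20,12,true)) (Tr.leaf (0,0,false)))))) (Tr.node (Tr.node (Tr.node (Tr.node (Tr.leaf (3,2,true)) (Tr.leaf (26,1,false))) (Tr.node (Tr.leaf (14,9,false)) (Tr.leaf (38,9,true)))) (Tr.node (Tr.node (Tr.leaf (9,20,false)) (Tr.leaf (31,0,false))) (Tr.node (Tr.leaf (19,5,true)) (Tr.leaf (0,0,false))))) (Tr.node (Tr.node (Tr.node (Tr.leaf (7,0,true)) (Tr.leaf (28,0,true))) (Tr.node (Tr.leaf (17,3,false)) (Tr.leaf (0,0,false)))) (Tr.node (Tr.node (Tr.leaf (11,22,false)) (Tr.leaf (33,1,true))) (Tr.node (Tr.leaf (22,5,false)) (Tr.leaf (0,0,false))))))) (Tr.node (Tr.node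 (Tr.node (Tr.node (Tr.node (Tr.leaf (2,7,false)) (Tr.leaf (24,1,true))) (Tr.node (Tr.leaf (13,9,true)) (Tr.leaf (37,1,true)))) (Tr.node (Tr.node (Tr.leaf (9,3,false)) (Tr.leaf (30,6,false))) (Tr.node (Tr.leaf (18,12,true)) (Tr.leaf (0,0,false))))) (Tr.node (Tr.node (Tr.node (Tr.leaf (7,0,false)) (Tr.leaf (27,10,true))) (Tr.node (Tr.leaf (16,1,false)) (Tr.leaf (0,0,false)))) (Tr.node (Tr.node (Tr.leaf (10,18,true)) (Tr.leaf (32,8,true))) (Tr.node (Tr.leaf (21,10,false)) (Tr.leaf (0,0,false)))))) (Tr.node (Tr.node (Tr.node (Tr.node (Tr.leaf (4,4,true)) (Tr.leaf (26,3,true))) (Tr.node (Tr.leaf (15,3,false)) (Tr.leaf (39,6,false)))) (Tr.node (Tr.node (Tr.leaf (10,0,false)) (Tr.leaf (31,0,true))) (Tr.node (Tr.leaf (20,14,false)) (Tr.leaf (0,0,false)))))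 (Tr.node (Tr.node (Tr.node (Tr.leaf (8,2,false)) (Tr.leaf (29,1,false))) (Tr.node (Tr.leaf (17,6,true)) (Tr.leaf (0,0,false)))) (Tr.node (Tr.node (Tr.leaf (12,19,false)) (Tr.leaf (34,2,false))) (Tr.node (Tr.leaf (23,1,false)) (Tr.leaf (0,0,false)))))))))) (Tr.node (Tr.node (Tr.node (Tr.node (Tr.node (Tr.node (Tr.node (Tr.node (Tr.leaf (0,3,false)) (Tr.leaf (23,9,false))) (Tr.node (Tr.leaf (12,3,true)) (Tr.leaf (34,2,true)))) (Tr.node (Tr.node (Tr.leaf (8,8,false)) (Tr.leaf (29,8,false))) (Tr.node (Tr.leaf (17,12,true)) (Tr.leaf (0,0,false))))) (Tr.node (Tr.node (Tr.node (Tr.leaf (5,1,false)) (Tr.leaf (26,9,true))) (Tr.node (Tr.leaf (15,11,false)) (Tr.leaf (0,0,false)))) (Tr.node (Tr.node (Tr.leaf (10,9,false)) (Tr.leaf (31,6,true))) (Tr.node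 (Tr.leaf (20,2,true)) (Tr.leaf (0,0,false)))))) (Tr.node (Tr.node (Tr.node (Tr.node (Tr.leaf (2,6,true)) (Tr.leaf (25,5,false))) (Tr.node (Tr.leaf (13,15,true)) (Tr.leaf (38,7,false)))) (Tr.node (Tr.node (Tr.leaf (9,10,false)) (Tr.leaf (30,1,true))) (Tr.node (Tr.leaf (18,18,true)) (Tr.leaf (0,0,false))))) (Tr.node (Tr.node (Tr.node (Tr.leaf (7,6,false)) (Tr.leaf (28,6,false))) (Tr.node (Tr.leaf (16,0,true)) (Tr.leaf (0,0,false)))) (Tr.node (Tr.node (Tr.leaf (11,4,false)) (Tr.leaf (33,12,false))) (Tr.node (Tr.leaf (21,4,true)) (Tr.leaf (0,0,false))))))) (Tr.node (Tr.node (Tr.node (Tr.node (Tr.node (Tr.leaf (1,2,true)) (Tr.leaf (23,7,true))) (Tr.node (Tr.leaf (13,13,false)) (Tr.leaf (36,4,false)))) (Tr.node (Tr.node (Tr.leaf (8,8,true)) (Tr.leaf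 (29,14,true))) (Tr.node (Tr.leaf (18,1,true)) (Tr.leaf (0,0,false))))) (Tr.node (Tr.node (Tr.node (Tr.leaf (6,39,false)) (Tr.leaf (27,0,true))) (Tr.node (Tr.leaf (15,9,true)) (Tr.leaf (0,0,false)))) (Tr.node (Tr.node (Tr.leaf (10,4,true)) (Tr.leaf (32,19,false))) (Tr.node (Tr.leaf (21,0,false)) (Tr.leaf (0,0,false)))))) (Tr.node (Tr.node (Tr.node (Tr.node (Tr.leaf (4,2,false)) (Tr.leaf (26,7,false))) (Tr.node (Tr.leaf (14,3,true)) (Tr.leaf (38,21,true)))) (Tr.node (Tr.node (Tr.leaf (9,9,true)) (Tr.leaf (31,8,false))) (Tr.node (Tr.leaf (20,1,false)) (Tr.leaf (0,0,false))))) (Tr.node (Tr.node (Tr.node (Tr.leaf (7,6,true)) (Tr.leaf (28,8,true))) (Tr.node (Tr.leaf (17,9,false)) (Tr.leaf (0,0,false)))) (Tr.node (Tr.node (Tr.leaf (11,4,true))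 (Tr.leaf (33,7,true))) (Tr.node (Tr.leaf (22,16,false)) (Tr.leaf (0,0,false)))))))) (Tr.node (Tr.node (Tr.node (Tr.node (Tr.node (Tr.node (Tr.leaf (0,4,true)) (Tr.leaf (23,17,false))) (Tr.node (Tr.leaf (13,5,false)) (Tr.leaf (35,0,true)))) (Tr.node (Tr.node (Tr.leaf (8,16,false)) (Tr.leaf (29,0,true))) (Tr.node (Tr.leaf (18,7,false)) (Tr.leaf (0,0,false))))) (Tr.node (Tr.node (Tr.node (Tr.leaf (6,1,false)) (Tr.leaf (27,3,false))) (Tr.node (Tr.leaf (15,19,false)) (Tr.leaf (0,0,false)))) (Tr.node (Tr.node (Tr.leaf (10,18,false)) (Tr.leaf (32,0,false))) (Tr.node (Tr.leaf (20,10,true)) (Tr.leaf (0,0,false)))))) (Tr.node (Tr.node (Tr.node (Tr.node (Tr.leaf (3,0,true)) (Tr.leaf (25,6,true))) (Tr.node (Tr.leaf (14,7,false)) (Tr.leaf (38,5,true))))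 (Tr.node (Tr.node (Tr.leaf (9,18,false)) (Tr.leaf (30,9,true))) (Tr.node (Tr.leaf (19,1,true)) (Tr.leaf (0,0,false))))) (Tr.node (Tr.node (Tr.node (Tr.leaf (7,14,false)) (Tr.leaf (28,16,false))) (Tr.node (Tr.leaf (17,1,false)) (Tr.leaf (0,0,false)))) (Tr.node (Tr.node (Tr.leaf (11,20,false)) (Tr.leaf (33,25,false))) (Tr.node (Tr.leaf (22,0,false)) (Tr.leaf (0,0,false))))))) (Tr.node (Tr.node (Tr.node (Tr.node (Tr.node (Tr.leaf (2,5,false)) (Tr.leaf (23,17,true))) (Tr.node (Tr.leaf (13,7,true)) (Tr.leaf (37,1,false)))) (Tr.node (Tr.node (Tr.leaf (8,16,true)) (Tr.leaf (30,4,false))) (Tr.node (Tr.leaf (18,10,true)) (Tr.leaf (0,0,false))))) (Tr.node (Tr.node (Tr.node (Tr.leaf (6,7,true)) (Tr.leaf (27,8,true))) (Tr.node (Tr.leaf (15,19,true))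 (Tr.leaf (0,0,false)))) (Tr.node (Tr.node (Tr.leaf (10,16,true)) (Tr.leaf (32,6,true))) (Tr.node (Tr.leaf (21,8,false)) (Tr.leaf (0,0,false)))))) (Tr.node (Tr.node (Tr.node (Tr.node (Tr.leaf (4,2,true)) (Tr.leaf (26,1,true))) (Tr.node (Tr.leaf (14,11,true)) (Tr.leaf (39,4,false)))) (Tr.node (Tr.node (Tr.leaf (9,18,true)) (Tr.leaf (31,16,false))) (Tr.node (Tr.leaf (20,12,false)) (Tr.leaf (0,0,false))))) (Tr.node (Tr.node (Tr.node (Tr.leaf (7,14,true)) (Tr.leaf (28,17,true))) (Tr.node (Tr.leaf (17,4,true)) (Tr.leaf (0,0,false)))) (Tr.node (Tr.node (Tr.leaf (12,17,false)) (Tr.leaf (34,0,false))) (Tr.node (Tr.leaf (22,17,true)) (Tr.leaf (0,0,false))))))))) (Tr.node (Tr.node (Tr.node (Tr.node (Tr.node (Tr.node (Tr.node (Tr.leaf (0,7,false)) (Tr.leaf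 (23,13,false))) (Tr.node (Tr.leaf (12,7,true)) (Tr.leaf (35,0,false)))) (Tr.node (Tr.node (Tr.leaf (8,12,false)) (Tr.leaf (29,14,false))) (Tr.node (Tr.leaf (18,3,false)) (Tr.leaf (0,0,false))))) (Tr.node (Tr.node (Tr.node (Tr.leaf (5,1,true)) (Tr.leaf (26,13,true))) (Tr.node (Tr.leaf (15,15,false)) (Tr.leaf (0,0,false)))) (Tr.node (Tr.node (Tr.leaf (10,13,false)) (Tr.leaf (31,11,true))) (Tr.node (Tr.leaf (20,6,true)) (Tr.leaf (0,0,false)))))) (Tr.node (Tr.node (Tr.node (Tr.node (Tr.leaf (3,2,false)) (Tr.leaf (25,2,true))) (Tr.node (Tr.leaf (14,3,false)) (Tr.leaf (38,17,false)))) (Tr.node (Tr.node (Tr.leaf (9,14,false)) (Tr.leaf (30,5,true))) (Tr.node (Tr.leaf (19,16,false)) (Tr.leaf (0,0,false))))) (Tr.node (Tr.node (Tr.node (Tr.leaf (7,10,false))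 (Tr.leaf (28,10,false))) (Tr.node (Tr.leaf (16,4,true)) (Tr.leaf (0,0,false)))) (Tr.node (Tr.node (Tr.leaf (11,16,false)) (Tr.leaf (33,21,false))) (Tr.node (Tr.leaf (21,8,true)) (Tr.leaf (0,0,false))))))) (Tr.node (Tr.node (Tr.node (Tr.node (Tr.node (Tr.leaf (2,1,false)) (Tr.leaf (23,11,true))) (Tr.node (Tr.leaf (13,3,true)) (Tr.leaf (36,2,true)))) (Tr.node (Tr.node (Tr.leaf (8,12,true)) (Tr.leaf (30,0,false))) (Tr.node (Tr.leaf (18,6,true)) (Tr.leaf (0,0,false))))) (Tr.node (Tr.node (Tr.node (Tr.leaf (6,3,true)) (Tr.leaf (27,4,true))) (Tr.node (Tr.leaf (15,14,true)) (Tr.leaf (0,0,false)))) (Tr.node (Tr.node (Tr.leaf (10,11,true)) (Tr.leaf (32,2,true))) (Tr.node (Tr.leaf (21,4,false)) (Tr.leaf (0,0,false)))))) (Tr.node (Tr.node (Tr.node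 (Tr.node (Tr.leaf (4,9,false)) (Tr.leaf (26,11,false))) (Tr.node (Tr.leaf (14,7,true)) (Tr.leaf (39,0,false)))) (Tr.node (Tr.node (Tr.leaf (9,13,true)) (Tr.leaf (31,12,false))) (Tr.node (Tr.leaf (20,6,false)) (Tr.leaf (0,0,false))))) (Tr.node (Tr.node (Tr.node (Tr.leaf (7,10,true)) (Tr.leaf (28,12,true))) (Tr.node (Tr.leaf (17,0,true)) (Tr.leaf (0,0,false)))) (Tr.node (Tr.node (Tr.leaf (11,8,true)) (Tr.leaf (33,20,true))) (Tr.node (Tr.leaf (22,5,true)) (Tr.leaf (0,0,false)))))))) (Tr.node (Tr.node (Tr.node (Tr.node (Tr.node (Tr.node (Tr.leaf (1,2,false)) (Tr.leaf (23,3,true))) (Tr.node (Tr.leaf (13,9,false)) (Tr.leaf (36,0,false)))) (Tr.node (Tr.node (Tr.leaf (8,4,true)) (Tr.leaf (29,4,true))) (Tr.node (Tr.leaf (18,16,false)) (Tr.leaf (0,0,false)))))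 (Tr.node (Tr.node (Tr.node (Tr.leaf (6,5,false)) (Tr.leaf (27,7,false))) (Tr.node (Tr.leaf (15,5,true)) (Tr.leaf (0,0,false)))) (Tr.node (Tr.node (Tr.leaf (10,0,true)) (Tr.leaf (32,15,false))) (Tr.node (Tr.leaf (20,14,true)) (Tr.leaf (0,0,false)))))) (Tr.node (Tr.node (Tr.node (Tr.node (Tr.leaf (3,4,true)) (Tr.leaf (26,3,false))) (Tr.node (Tr.leaf (14,11,false)) (Tr.leaf (38,17,true)))) (Tr.node (Tr.node (Tr.leaf (9,1,true)) (Tr.leaf (31,2,false))) (Tr.node (Tr.leaf (19,10,true)) (Tr.leaf (0,0,false))))) (Tr.node (Tr.node (Tr.node (Tr.leaf (7,2,true)) (Tr.leaf (28,3,true))) (Tr.node (Tr.leaf (17,5,false)) (Tr.leaf (0,0,false)))) (Tr.node (Tr.node (Tr.leaf (11,0,true)) (Tr.leaf (33,3,true))) (Tr.node (Tr.leaf (22,7,false)) (Tr.leaf (0,0,false)))))))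 (Tr.node (Tr.node (Tr.node (Tr.node (Tr.node (Tr.leaf (2,1,true)) (Tr.leaf (25,1,false))) (Tr.node (Tr.leaf (13,11,true)) (Tr.leaf (38,0,false)))) (Tr.node (Tr.node (Tr.leaf (9,6,false)) (Tr.leaf (30,8,false))) (Tr.node (Tr.leaf (18,14,true)) (Tr.leaf (0,0,false))))) (Tr.node (Tr.node (Tr.node (Tr.leaf (7,2,false)) (Tr.leaf (28,2,false))) (Tr.node (Tr.leaf (16,3,false)) (Tr.leaf (0,0,false)))) (Tr.node (Tr.node (Tr.leaf (10,21,true)) (Tr.leaf (32,10,true))) (Tr.node (Tr.leaf (21,0,true)) (Tr.leaf (0,0,false)))))) (Tr.node (Tr.node (Tr.node (Tr.node (Tr.leaf (4,8,true)) (Tr.leaf (26,5,true))) (Tr.node (Tr.leaf (15,6,false)) (Tr.leaf (39,8,false)))) (Tr.node (Tr.node (Tr.leaf (10,5,false)) (Tr.leaf (31,2,true))) (Tr.node (Tr.leaf (20,16,false))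 (Tr.leaf (0,0,false))))) (Tr.node (Tr.node (Tr.node (Tr.leaf (8,4,false)) (Tr.leaf (29,3,false))) (Tr.node (Tr.leaf (17,8,true)) (Tr.leaf (0,0,false)))) (Tr.node (Tr.node (Tr.leaf (12,21,false)) (Tr.leaf (34,4,false))) (Tr.node (Tr.leaf (23,5,false)) (Tr.leaf (0,0,false))))))))))))

/-- The subgroup rotations. -/
noncomputable def srotT : Tr (List Nat × Nat × List Nat) := (Tr.node (Tr.node (Tr.leaf ([],0,[])) (Tr.leaf ([],2,[]))) (Tr.node (Tr.leaf ([],1,[])) (Tr.leaf ([],0,[]))))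

/-- The certificate. -/
noncomputable def cert : Cert :=
  mkCert 10 5571 44277 4 833 836 4 15 496 42 420 479 4398046511103 576460752303423487 16 13 65535 8191 29 26 15 ctree.get rotT.get srotT.get

/-- The table on the cosets of `⟨a, b, c⟩`. -/
noncomputable def pt : PT :=
  mkPT 3906 10 6 63 12 12 4095 Cfsg.Agent.Lib.DCE.Ly.H.QPT.tree.get (Cfsg.Agent.Lib.DCE.Pres.invC 5)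

/-- The words of the subgroup. -/
def subs : List (List Nat) := [[0],[1],[2],[5],[6],[7]]

/-- The letters of the subgroup. -/
def ls : List Nat := [0,1,2,5,6,7]

/-- All the letters. -/
def lsAll : List Nat := [0,1,2,3,4,5,6,7,8,9]

end Cfsg.Agent.Lib.DCE.Ly.H.QTab
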