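import Cfsg.Agent.Lib.DCE.Pres

namespace Cfsg.Agent.Lib.DCE.Ly.H.Rels

open Cfsg.Agent.Lib.TC.Core Cfsg.Agent.Lib.TC.Pres Cfsg.Agent.Lib.DCE

set_option maxRecDepth 100000

/-- The relators `1`-`44` of the Lyons group, words in `a, b, c, d, e` (the columns `0, …, 4`) and their inverses. -/
def rels : List (List Nat) :=
  [[0,0,0,0,0,0,0,0],
   [1,1,1,1,1],
   [1,0,1,0,1,0,1,0],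
   [1,0,0,6,5,5],
   [1,0,6,5,1,0,6,5,1,0,6,5],
   [2,2,2,2,2],
   [0,2,5,2,0,7,5,7,0,2,5,2,0,7,5,7,0,2,5,2,0,7,5,7,0,2,5,2,0,7,5,7,0,2,5,2,0,7,5,7],
   [0,2,5,2,0,7,5,2,0,2,5,7,0,7,5,7],
   [0,2,5,2,0,7,5,7,0,2,5,2,0,2,5,7,0,7,7,5],
   [0,2,5,2,0,7,5,7,1,2,6,2,0,2,5,7,0,7,5,1,7,6],
   [0,2,5,2,0,7,5,7,6,2,1,2,0,2,5,7,0,7,5,6,7,1],
   [0,2,5,2,0,7,5,7,0,2,5,2,0,7,5,7,1,2,6,2,1,7,6,7],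
   [2,0,2,5,7,0,7,5,2,0,2,5,7,0,7,5,6,2,1,2,6,7,1,7],
   [0,2,5,2,0,7,5,7,1,2,6,0,2,5,1,7,6,0,7,5],
   [6,2,1,0,2,5,6,7,1,0,7,5],
   [0,2,5,2,0,7,5,7,6,2,1,1,2,6,6,7,1,1,7,6],
   [2,2,0,0,2,5,5],
   [1,2,2,6,7,6,7,1,0,1,2,6,5],
   [7,0,2,5,1,2,6,6,7,1,7,6,7,1,0,6,2,1,5],
   [2,0,2,5,7,0,7,5,2,0,2,5,7,0,7,0,2,5,2,0,7,5,7,5],
   [0,7,5,1,7,6,6,2,1,2,6,2,1,1,0,2,5,6],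
   [7,7,6,7,1,1,2,2,1,2,6,6],
   [2,0,2,5,7,0,7,5,1,0,2,5,2,0,7,5,7,6],
   [1,1,0,2,5,7,0,7,5,8,7,6,5,1,8,7,8,4],
   [4,4],
   [7,6,6,2,4,2,9],
   [6,6,7,5,2,6,2,1,0,4,1,2,6,9],
   [6,2,6,6,7,1,4,6,2,1,9],
   [7,1,2,6,7,6,2,1,4,0,2,5,2,0,7,5,7,9],
   [5,6,6,5,1,2,5,7,0,7,5,6,2,1,4,0,0,4],
   [7,1,2,6,6,2,2,1,4,1,9],
   [5,2,5,7,0,7,5,6,2,1,4,0,6,0,1,1,0,4],
   [0,0,0,1,2,6,0,6,7,1,0,2,5,4,0,7,5,4,0,2,5,4],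
   [5,6,6,0,1,2,6,2,1,0,2,5,2,0,7,5,7,5,9,5,9,2,5,6,9,3],
   [5,5,5,5,3,3],
   [3,1,8,6],
   [5,5,5,3,0,8],
   [0,2,5,2,0,7,5,7,3,0,2,5,2,0,7,5,7,3,0,2,5,2,0,7,5,7,3,0,2,5,2,0,7,5,7,3,0,2,5,2,0,7,5,7,3],
   [5,2,5,2,0,7,5,7,3,2,0,2,5,7,0,7,5,3,0,2,5,2,0,7,5,7,3]]

/-- The columns. -/
abbrev K := Pres.K 5

/-- The relators of the presented group. -/
abbrev Rel := Pres.R 5 rels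

theorem hk : ∀ l ∈ rels, ∀ z ∈ l, z < 2 * 5 := by decide +kernel

theorem valid : K.Valid (R := Rel) := Pres.valid 5 rels

theorem hR : ∀ r ∈ Rel, ∃ L, r = FreeGroup.mk L ∧ ∃ j, rotN (K.word L) j ∈ rels := Pres.hR 5 rels hk

theorem hrels : ∀ l ∈ rels, ∃ L, FreeGroup.mk L ∈ Rel ∧ l = K.word L := Pres.hrels 5 rels hk

end Cfsg.Agent.Lib.DCE.Ly.H.Rels
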