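import Cfsg.Agent.Lib.DCE.Ly.H.Rels
import Cfsg.Agent.Lib.TC.Chain
import Cfsg.Agent.Lib.DCE.Ly.H.S1CT

namespace Cfsg.Agent.Lib.DCE.Ly.H.S1Tab

open Cfsg.Agent.Lib.TC.Core Cfsg.Agent.Lib.TC.Enc Cfsg.Agent.Lib.TC.Pres Cfsg.Agent.Lib.TC.Perm Cfsg.Agent.Lib.TC.Main Cfsg.Agent.Lib.TC.Chain

set_option maxRecDepth 100000

/-- The chunks. -/
noncomputable def ctree : Tr Nat := Cfsg.Agent.Lib.DCE.Ly.H.S1CT.tree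

/-- The relator rotations. -/
noncomputable def rotT : Tr (List Nat) := (Tr.node (Tr.node (Tr.node (Tr.node (Tr.node (Tr.node (Tr.node (Tr.node (Tr.node (Tr.node (Tr.leaf []) (Tr.leaf [2,4,0,2,3,1,0,5,3,4,4,5,1,5,4,5,1,1])) (Tr.node (Tr.leaf [4,5,0,2,3,2,0,5,3,5,0,2,3,2,0,5,3,5,1,2,4,2,1,5]) (Tr.leaf []))) (Tr.node (Tr.node (Tr.leaf [5,0,2,3,5,0,5,3,2,0,2,3,2,0,5,3]) (Tr.leaf [])) (Tr.node (Tr.leaf [0,0,5,3,3,5,5]) (Tr.leaf [])))) (Tr.node (Tr.node (Tr.node (Tr.leaf [4,3,1,0,4,3,1,0,4,3,1,0]) (Tr.leaf [])) (Tr.node (Tr.leaf [2,3,4,5,1,0,5,3,4,2,1,0]) (Tr.leaf []))) (Tr.node (Tr.node (Tr.leaf [2,0,5,3,5,1,5,4,2,0,2,3,5,0,5,3,1,2,4,0,2,3]) (Tr.leaf [])) (Tr.node (Tr.leaf [1,5,4,0,5,3,2,0,4,5,1,3,4,2,1,2,4,2,1]) (Tr.leaf []))))) (Tr.node (Tr.node (Tr.node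 (Tr.node (Tr.leaf [1,0,1,0,1,0,1,0]) (Tr.leaf [0,5,3,1,0,2,3,2,0,5,3,5,4,2,0,2,3,5])) (Tr.node (Tr.leaf [0,5,3,5,2,4,2,1,5,4,5,1,0,2,3,2,0,5,3,5,0,2,3,2]) (Tr.leaf []))) (Tr.node (Tr.node (Tr.leaf [3,2,0,2,3,5,0,5,3,0,2,2,3,2,0,5,3,5,0,5]) (Tr.leaf [])) (Tr.node (Tr.leaf [4,0,1,5,4,3,4,2,1,2,1,5,5]) (Tr.leaf [])))) (Tr.node (Tr.node (Tr.node (Tr.leaf [0,2,3,5,0,5,3,2,0,2,3,5,0,5,3,2,0,2,3,5,0,5,3,2,0,2,3,5,0,5,3,2,0,2,3,5,0,5,3,2]) (Tr.leaf [])) (Tr.node (Tr.leaf [2,4,4,5,1,1,5,4,0,2,3,2,0,5,3,5,4,2,1,1]) (Tr.leaf []))) (Tr.node (Tr.node (Tr.leaf [4,5,1,0,2,3,2,0,5,3,5,4,2,1,2,0,2,3,5,0,5,3]) (Tr.leaf [])) (Tr.node (Tr.leaf [3,5,0,2,0,2,3,5,0,5,3,2,3,2,0,5,3,5,0,2,3,2,0,5]) (Tr.leaf [])))))) (Tr.node (Tr.node (Tr.node (Tr.node (Tr.node (Tr.leaf [1,1,1,1,1])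 (Tr.leaf [4,5,5,4,5,1,1,2,2,1,2,4])) (Tr.node (Tr.leaf [3,4,2,1,2,4,5,1,5,2,0,2,3,5,0,5,3,2,0,2,3,5,0,5]) (Tr.leaf []))) (Tr.node (Tr.node (Tr.leaf [3,2,0,2,3,5,0,5,5,3,0,2,3,2,0,5,3,5,0,2]) (Tr.leaf [])) (Tr.node (Tr.leaf [1,2,4,3,1,2,2,4,5,4,5,1,0]) (Tr.leaf [])))) (Tr.node (Tr.node (Tr.node (Tr.leaf [2,2,2,2,2]) (Tr.leaf [])) (Tr.node (Tr.leaf [3,4,5,1,0,2,3,4,2,1,0,5]) (Tr.leaf []))) (Tr.node (Tr.node (Tr.leaf [2,3,2,0,5,3,5,4,2,1,2,0,2,3,5,0,5,3,4,5,1,0]) (Tr.leaf [])) (Tr.node (Tr.leaf [3,5,3,2,0,2,3,5,0,5,3,2,0,2,3,5,0,5,0,2,3,2,0,5]) (Tr.leaf []))))) (Tr.node (Tr.node (Tr.node (Tr.node (Tr.leaf [0,0,1,3,3,4]) (Tr.leaf [5,0,5,3,4,0,2,3,2,0,5,3,5,1,2,0,2,3])) (Tr.node (Tr.leaf [1,2,4,0,5,3,1,5,4,2,0,2,3,5,0,5,3,0,2,3]) (Tr.leaf []))) (Tr.node (Tr.node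 (Tr.leaf [4,2,0,2,3,5,0,5,3,1,5,4,0,2,3,2,0,5,3,5,1,2]) (Tr.leaf [])) (Tr.node (Tr.leaf [4,2,1,3,5,0,2,3,1,2,4,4,5,1,5,4,5,1,0]) (Tr.leaf [])))) (Tr.node (Tr.node (Tr.node (Tr.leaf [0,2,3,5,0,5,3,5,0,2,3,2,0,5,3,2]) (Tr.leaf [])) (Tr.node (Tr.leaf [4,4,5,1,2,0,2,3,5,0,5,3,1,2,4,4,2,1,1,5]) (Tr.leaf []))) (Tr.node (Tr.node (Tr.leaf [5,0,5,3,4,2,1,0,2,3,2,0,5,3,5,4,5,1,2,0,2,3]) (Tr.leaf [])) (Tr.node (Tr.leaf [2,3,4,0,5,3,1,5,4,4,2,1,2,4,2,1,1,0]) (Tr.leaf []))))))) (Tr.node (Tr.node (Tr.node (Tr.node (Tr.node (Tr.node (Tr.leaf [3,3,3,3,3,3,3,3]) (Tr.leaf [5,1,1,2,2,1,2,4,4,5,5,4])) (Tr.node (Tr.leaf [5,4,2,0,2,3,5,0,5,3,2,0,2,3,5,0,5,3,2,1,2,4,5,1]) (Tr.leaf []))) (Tr.node (Tr.node (Tr.leaf [3,2,0,5,3,5,0,2,3,2,0,2,3,5,0,5,5,3,0,2]) (Tr.leaf [])) (Tr.node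 (Tr.leaf [2,2,4,5,4,5,1,0,1,2,4,3,1]) (Tr.leaf [])))) (Tr.node (Tr.node (Tr.node (Tr.leaf [0,1,3,4,0,1,3,4,0,1,3,4]) (Tr.leaf [])) (Tr.node (Tr.leaf [0,2,3,4,2,1,0,5,3,4,5,1]) (Tr.leaf []))) (Tr.node (Tr.node (Tr.leaf [2,0,2,3,5,0,5,3,1,2,4,0,2,3,2,0,5,3,5,1,5,4]) (Tr.leaf [])) (Tr.node (Tr.leaf [2,3,5,0,5,3,2,0,2,3,5,0,5,0,2,3,2,0,5,3,5,3,2,0]) (Tr.leaf []))))) (Tr.node (Tr.node (Tr.node (Tr.node (Tr.leaf [3,4,3,4,3,4,3,4]) (Tr.leaf [3,5,4,2,0,2,3,5,0,5,3,1,0,2,3,2,0,5])) (Tr.node (Tr.leaf [4,0,2,3,1,5,4,0,5,3,0,2,3,2,0,5,3,5,1,2]) (Tr.leaf []))) (Tr.node (Tr.node (Tr.leaf [2,3,2,0,5,3,5,1,2,4,2,0,2,3,5,0,5,3,1,5,4,0]) (Tr.leaf [])) (Tr.node (Tr.leaf [4,5,1,5,4,5,1,0,4,2,1,3,5,0,2,3,1,2,4]) (Tr.leaf [])))) (Tr.node (Tr.node (Tr.node (Tr.leaf [0,2,3,2,0,5,3,2,0,2,3,5,0,5,3,5])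 (Tr.leaf [])) (Tr.node (Tr.leaf [1,2,4,4,2,1,1,5,4,4,5,1,2,0,2,3,5,0,5,3]) (Tr.leaf []))) (Tr.node (Tr.node (Tr.leaf [3,5,4,5,1,2,0,2,3,5,0,5,3,4,2,1,0,2,3,2,0,5]) (Tr.leaf [])) (Tr.node (Tr.leaf [2,1,2,4,2,1,1,0,2,3,4,0,5,3,1,5,4,4]) (Tr.leaf [])))))) (Tr.node (Tr.node (Tr.node (Tr.node (Tr.node (Tr.leaf [4,4,4,4,4]) (Tr.leaf [4,2,1,2,2,1,1,5,4,5,5,4])) (Tr.node (Tr.leaf [4,2,1,5,4,5,1,0,2,3,2,0,5,3,5,0,2,3,2,0,5,3,5,2]) (Tr.leaf []))) (Tr.node (Tr.node (Tr.leaf [3,2,0,5,3,5,0,5,3,2,0,2,3,5,0,5,3,0,2,2]) (Tr.leaf [])) (Tr.node (Tr.leaf [3,4,2,1,2,1,5,5,4,0,1,5,4]) (Tr.leaf [])))) (Tr.node (Tr.node (Tr.node (Tr.leaf [2,0,5,3,5,0,2,3,2,0,5,3,5,0,2,3,2,0,5,3,5,0,2,3,2,0,5,3,5,0,2,3,2,0,5,3,5,0,2,3]) (Tr.leaf [])) (Tr.node (Tr.leaf [0,5,3,5,4,2,1,1,2,4,4,5,1,1,5,4,0,2,3,2])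 (Tr.leaf []))) (Tr.node (Tr.node (Tr.leaf [1,2,0,2,3,5,0,5,3,4,5,1,0,2,3,2,0,5,3,5,4,2]) (Tr.leaf [])) (Tr.node (Tr.leaf [0,5,3,2,3,2,0,5,3,5,0,2,3,2,0,5,3,5,0,2,0,2,3,5]) (Tr.leaf []))))) (Tr.node (Tr.node (Tr.node (Tr.node (Tr.leaf [4,3,1,0,4,3,1,0,4,3,1,0]) (Tr.leaf [3,5,1,2,0,2,3,5,0,5,3,4,0,2,3,2,0,5])) (Tr.node (Tr.leaf [4,2,0,2,3,5,0,5,3,0,2,3,1,2,4,0,5,3,1,5]) (Tr.leaf []))) (Tr.node (Tr.node (Tr.leaf [5,4,0,2,3,2,0,5,3,5,1,2,4,2,0,2,3,5,0,5,3,1]) (Tr.leaf [])) (Tr.node (Tr.leaf [3,4,2,1,2,4,2,1,1,5,4,0,5,3,2,0,4,5,1]) (Tr.leaf [])))) (Tr.node (Tr.node (Tr.node (Tr.leaf [2,0,2,3,2,0,5,3,5,0,2,3,5,0,5,3]) (Tr.leaf [])) (Tr.node (Tr.leaf [3,1,2,4,4,2,1,1,5,4,4,5,1,2,0,2,3,5,0,5]) (Tr.leaf []))) (Tr.node (Tr.node (Tr.leaf [2,3,2,0,5,3,5,1,2,4,2,1,5,4,5,0,2,3,2,0,5,3,5,0])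 (Tr.leaf [])) (Tr.node (Tr.leaf [4,5,1,5,4,5,1,1,2,4,0,2,3,1,0,5,3,4]) (Tr.leaf [])))))))) (Tr.node (Tr.node (Tr.node (Tr.node (Tr.node (Tr.node (Tr.node (Tr.leaf [0,0,0,0,0,0,0,0]) (Tr.leaf [3,1,0,5,3,4,4,5,1,5,4,5,1,1,2,4,0,2])) (Tr.node (Tr.leaf [2,4,5,1,5,4,2,0,2,3,5,0,5,3,2,0,2,3,5,0,5,3,2,1]) (Tr.leaf []))) (Tr.node (Tr.node (Tr.leaf [5,0,5,3,2,0,2,3,2,0,5,3,5,0,2,3]) (Tr.leaf [])) (Tr.node (Tr.leaf [3,5,5,0,0,5,3]) (Tr.leaf [])))) (Tr.node (Tr.node (Tr.node (Tr.leaf [4,0,1,3,4,0,1,3,4,0,1,3]) (Tr.leaf [])) (Tr.node (Tr.leaf [1,0,5,3,4,2,1,0,2,3,4,5]) (Tr.leaf []))) (Tr.node (Tr.node (Tr.leaf [5,1,5,4,2,0,2,3,5,0,5,3,1,2,4,0,2,3,2,0,5,3]) (Tr.leaf [])) (Tr.node (Tr.leaf [5,3,2,0,4,5,1,3,4,2,1,2,4,2,1,1,5,4,0]) (Tr.leaf []))))) (Tr.node (Tr.node (Tr.node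 (Tr.node (Tr.leaf [3,4,3,4,3,4,3,4]) (Tr.leaf [2,3,2,0,5,3,5,4,2,0,2,3,5,0,5,3,1,0])) (Tr.node (Tr.leaf [3,5,1,2,4,0,2,3,1,5,4,0,5,3,0,2,3,2,0,5]) (Tr.leaf []))) (Tr.node (Tr.node (Tr.leaf [3,5,0,5,3,0,2,2,3,2,0,5,3,5,0,5,3,2,0,2]) (Tr.leaf [])) (Tr.node (Tr.leaf [3,1,2,4,4,5,1,5,4,5,1,0,4,2,1,3,5,0,2]) (Tr.leaf [])))) (Tr.node (Tr.node (Tr.node (Tr.leaf [0,5,3,2,0,2,3,5,0,5,3,2,0,2,3,5,0,5,3,2,0,2,3,5,0,5,3,2,0,2,3,5,0,5,3,2,0,2,3,5]) (Tr.leaf [])) (Tr.node (Tr.leaf [1,1,5,4,0,2,3,2,0,5,3,5,4,2,1,1,2,4,4,5]) (Tr.leaf []))) (Tr.node (Tr.node (Tr.leaf [1,0,2,3,2,0,5,3,5,4,5,1,2,0,2,3,5,0,5,3,4,2]) (Tr.leaf [])) (Tr.node (Tr.leaf [1,5,4,4,2,1,2,4,2,1,1,0,2,3,4,0,5,3]) (Tr.leaf [])))))) (Tr.node (Tr.node (Tr.node (Tr.node (Tr.node (Tr.leaf [1,1,1,1,1]) (Tr.leaf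 [4,5,5,4,4,2,1,2,2,1,1,5])) (Tr.node (Tr.leaf [2,4,5,1,5,2,0,2,3,5,0,5,3,2,0,2,3,5,0,5,3,4,2,1]) (Tr.leaf []))) (Tr.node (Tr.node (Tr.leaf [3,5,0,5,5,3,0,2,3,2,0,5,3,5,0,2,3,2,0,2]) (Tr.leaf [])) (Tr.node (Tr.leaf [0,1,5,4,3,4,2,1,2,1,5,5,4]) (Tr.leaf [])))) (Tr.node (Tr.node (Tr.node (Tr.leaf [5,5,5,5,5]) (Tr.leaf [])) (Tr.node (Tr.leaf [0,2,3,2,0,5,3,5,4,2,1,1,2,4,4,5,1,1,5,4]) (Tr.leaf []))) (Tr.node (Tr.node (Tr.leaf [3,5,4,2,1,2,0,2,3,5,0,5,3,4,5,1,0,2,3,2,0,5]) (Tr.leaf [])) (Tr.node (Tr.leaf [2,0,2,3,5,0,5,3,2,3,2,0,5,3,5,0,2,3,2,0,5,3,5,0]) (Tr.leaf []))))) (Tr.node (Tr.node (Tr.node (Tr.node (Tr.leaf [3,4,0,0,1,3]) (Tr.leaf [0,2,3,2,0,5,3,5,1,2,0,2,3,5,0,5,3,4])) (Tr.node (Tr.leaf [5,3,1,5,4,2,0,2,3,5,0,5,3,0,2,3,1,2,4,0]) (Tr.leaf []))) (Tr.node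 (Tr.node (Tr.leaf [3,5,0,5,3,1,5,4,0,2,3,2,0,5,3,5,1,2,4,2,0,2]) (Tr.leaf [])) (Tr.node (Tr.leaf [0,4,5,1,3,4,2,1,2,4,2,1,1,5,4,0,5,3,2]) (Tr.leaf [])))) (Tr.node (Tr.node (Tr.node (Tr.leaf [0,5,3,5,0,2,3,2,0,5,3,2,0,2,3,5]) (Tr.leaf [])) (Tr.node (Tr.leaf [2,0,2,3,5,0,5,3,1,2,4,4,2,1,1,5,4,4,5,1]) (Tr.leaf []))) (Tr.node (Tr.node (Tr.leaf [2,3,2,0,5,3,5,0,2,3,2,0,5,3,5,1,2,4,2,1,5,4,5,0]) (Tr.leaf [])) (Tr.node (Tr.leaf [0,5,3,4,4,5,1,5,4,5,1,1,2,4,0,2,3,1]) (Tr.leaf []))))))) (Tr.node (Tr.node (Tr.node (Tr.node (Tr.node (Tr.node (Tr.leaf [3,3,3,3,3,3,3,3]) (Tr.leaf [2,1,2,4,4,5,5,4,5,1,1,2])) (Tr.node (Tr.leaf [0,2,3,5,0,5,3,2,0,2,3,5,0,5,3,4,2,1,2,4,5,1,5,2]) (Tr.leaf []))) (Tr.node (Tr.node (Tr.leaf [3,5,0,2,3,2,0,2,3,5,0,5,5,3,0,2,3,2,0,5]) (Tr.leaf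 [])) (Tr.node (Tr.leaf [4,5,1,0,1,2,4,3,1,2,2,4,5]) (Tr.leaf [])))) (Tr.node (Tr.node (Tr.node (Tr.leaf [2,2,2,2,2]) (Tr.leaf [])) (Tr.node (Tr.leaf [2,1,0,5,3,4,5,1,0,2,3,4]) (Tr.leaf []))) (Tr.node (Tr.node (Tr.leaf [5,0,5,3,1,2,4,0,2,3,2,0,5,3,5,1,5,4,2,0,2,3]) (Tr.leaf [])) (Tr.node (Tr.leaf [3,2,0,5,3,5,3,2,0,2,3,5,0,5,3,2,0,2,3,5,0,5,0,2]) (Tr.leaf []))))) (Tr.node (Tr.node (Tr.node (Tr.node (Tr.leaf [0,4,3,3,1,0]) (Tr.leaf [2,0,2,3,5,0,5,3,4,0,2,3,2,0,5,3,5,1])) (Tr.node (Tr.leaf [1,5,4,0,5,3,0,2,3,2,0,5,3,5,1,2,4,0,2,3]) (Tr.leaf []))) (Tr.node (Tr.node (Tr.leaf [3,5,1,2,4,2,0,2,3,5,0,5,3,1,5,4,0,2,3,2,0,5]) (Tr.leaf [])) (Tr.node (Tr.leaf [4,5,1,0,4,2,1,3,5,0,2,3,1,2,4,4,5,1,5]) (Tr.leaf [])))) (Tr.node (Tr.node (Tr.node (Tr.leaf [0,5,3,2,0,2,3,5,0,5,3,5,0,2,3,2])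 (Tr.leaf [])) (Tr.node (Tr.leaf [2,1,1,5,4,4,5,1,2,0,2,3,5,0,5,3,1,2,4,4]) (Tr.leaf []))) (Tr.node (Tr.node (Tr.leaf [1,2,0,2,3,5,0,5,3,4,2,1,0,2,3,2,0,5,3,5,4,5]) (Tr.leaf [])) (Tr.node (Tr.leaf [2,1,1,0,2,3,4,0,5,3,1,5,4,4,2,1,2,4]) (Tr.leaf [])))))) (Tr.node (Tr.node (Tr.node (Tr.node (Tr.node (Tr.leaf [1,0,1,0,1,0,1,0]) (Tr.leaf [2,1,1,5,4,5,5,4,4,2,1,2])) (Tr.node (Tr.leaf [5,1,0,2,3,2,0,5,3,5,0,2,3,2,0,5,3,5,2,4,2,1,5,4]) (Tr.leaf []))) (Tr.node (Tr.node (Tr.leaf [3,5,0,5,3,2,0,2,3,5,0,5,3,0,2,2,3,2,0,5]) (Tr.leaf [])) (Tr.node (Tr.leaf [2,1,5,5,4,0,1,5,4,3,4,2,1]) (Tr.leaf [])))) (Tr.node (Tr.node (Tr.node (Tr.leaf [5,0,2,3,2,0,5,3,5,0,2,3,2,0,5,3,5,0,2,3,2,0,5,3,5,0,2,3,2,0,5,3,5,0,2,3,2,0,5,3]) (Tr.leaf [])) (Tr.node (Tr.leaf [4,2,1,1,2,4,4,5,1,1,5,4,0,2,3,2,0,5,3,5])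 (Tr.leaf []))) (Tr.node (Tr.node (Tr.leaf [3,5,0,5,3,4,5,1,0,2,3,2,0,5,3,5,4,2,1,2,0,2]) (Tr.leaf [])) (Tr.node (Tr.leaf [2,0,5,3,5,0,2,3,2,0,5,3,5,0,2,0,2,3,5,0,5,3,2,3]) (Tr.leaf []))))) (Tr.node (Tr.node (Tr.node (Tr.node (Tr.leaf [4,3,1,0,4,3,1,0,4,3,1,0]) (Tr.leaf [3,0])) (Tr.node (Tr.leaf [4,2,1,0,2,3,4,5,1,0,5,3]) (Tr.leaf []))) (Tr.node (Tr.node (Tr.leaf [4,0,2,3,2,0,5,3,5,1,5,4,2,0,2,3,5,0,5,3,1,2]) (Tr.leaf [])) (Tr.node (Tr.leaf [2,4,2,1,1,5,4,0,5,3,2,0,4,5,1,3,4,2,1]) (Tr.leaf [])))) (Tr.node (Tr.node (Tr.node (Tr.leaf [2,0,5,3,5,0,2,3,5,0,5,3,2,0,2,3]) (Tr.leaf [])) (Tr.node (Tr.leaf [0,2,3,3,2,2,0]) (Tr.leaf []))) (Tr.node (Tr.node (Tr.leaf [4,2,1,5,4,5,0,2,3,2,0,5,3,5,0,2,3,2,0,5,3,5,1,2]) (Tr.leaf [])) (Tr.node (Tr.leaf [4,5,1,1,2,4,0,2,3,1,0,5,3,4,4,5,1,5])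 (Tr.leaf []))))))))) (Tr.node (Tr.node (Tr.node (Tr.node (Tr.node (Tr.node (Tr.node (Tr.node (Tr.leaf [0,0,0,0,0,0,0,0]) (Tr.leaf [0,2,3,1,0,5,3,4,4,5,1,5,4,5,1,1,2,4])) (Tr.node (Tr.leaf [2,1,2,4,5,1,5,4,2,0,2,3,5,0,5,3,2,0,2,3,5,0,5,3]) (Tr.leaf []))) (Tr.node (Tr.node (Tr.leaf [2,3,5,0,5,3,2,0,2,3,2,0,5,3,5,0]) (Tr.leaf [])) (Tr.node (Tr.leaf [5,3,3,5,5,0,0]) (Tr.leaf [])))) (Tr.node (Tr.node (Tr.node (Tr.leaf [1,3,4,0,1,3,4,0,1,3,4,0]) (Tr.leaf [])) (Tr.node (Tr.leaf [4,5,1,0,5,3,4,2,1,0,2,3]) (Tr.leaf []))) (Tr.node (Tr.node (Tr.leaf [5,3,5,1,5,4,2,0,2,3,5,0,5,3,1,2,4,0,2,3,2,0]) (Tr.leaf [])) (Tr.node (Tr.leaf [4,0,5,3,2,0,4,5,1,3,4,2,1,2,4,2,1,1,5]) (Tr.leaf []))))) (Tr.node (Tr.node (Tr.node (Tr.node (Tr.leaf [3,4,3,4,3,4,3,4]) (Tr.leaf [1,0,2,3,2,0,5,3,5,4,2,0,2,3,5,0,5,3]))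 (Tr.node (Tr.leaf [0,5,3,5,1,2,4,0,2,3,1,5,4,0,5,3,0,2,3,2]) (Tr.leaf []))) (Tr.node (Tr.node (Tr.leaf [0,2,3,5,0,5,3,0,2,2,3,2,0,5,3,5,0,5,3,2]) (Tr.leaf [])) (Tr.node (Tr.leaf [0,2,3,1,2,4,4,5,1,5,4,5,1,0,4,2,1,3,5]) (Tr.leaf [])))) (Tr.node (Tr.node (Tr.node (Tr.leaf [3,5,0,5,3,2,0,2,3,5,0,5,3,2,0,2,3,5,0,5,3,2,0,2,3,5,0,5,3,2,0,2,3,5,0,5,3,2,0,2]) (Tr.leaf [])) (Tr.node (Tr.leaf [4,5,1,1,5,4,0,2,3,2,0,5,3,5,4,2,1,1,2,4]) (Tr.leaf []))) (Tr.node (Tr.node (Tr.leaf [1,0,2,3,2,0,5,3,5,4,2,1,2,0,2,3,5,0,5,3,4,5]) (Tr.leaf [])) (Tr.node (Tr.leaf [5,3,1,5,4,4,2,1,2,4,2,1,1,0,2,3,4,0]) (Tr.leaf [])))))) (Tr.node (Tr.node (Tr.node (Tr.node (Tr.node (Tr.leaf [1,1,1,1,1]) (Tr.leaf [1,5,4,5,5,4,4,2,1,2,2,1])) (Tr.node (Tr.leaf [2,1,2,4,5,1,5,2,0,2,3,5,0,5,3,2,0,2,3,5,0,5,3,4])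 (Tr.leaf []))) (Tr.node (Tr.node (Tr.leaf [0,2,3,5,0,5,5,3,0,2,3,2,0,5,3,5,0,2,3,2]) (Tr.leaf [])) (Tr.node (Tr.leaf [4,3,1,2,2,4,5,4,5,1,0,1,2]) (Tr.leaf [])))) (Tr.node (Tr.node (Tr.node (Tr.leaf [5,5,5,5,5]) (Tr.leaf [])) (Tr.node (Tr.leaf [5,1,0,2,3,4,2,1,0,5,3,4]) (Tr.leaf []))) (Tr.node (Tr.node (Tr.leaf [0,5,3,5,4,2,1,2,0,2,3,5,0,5,3,4,5,1,0,2,3,2]) (Tr.leaf [])) (Tr.node (Tr.leaf [3,2,0,2,3,5,0,5,3,2,0,2,3,5,0,5,0,2,3,2,0,5,3,5]) (Tr.leaf []))))) (Tr.node (Tr.node (Tr.node (Tr.node (Tr.leaf [1,3,3,4,0,0]) (Tr.leaf [5,3,4,0,2,3,2,0,5,3,5,1,2,0,2,3,5,0])) (Tr.node (Tr.leaf [4,0,5,3,1,5,4,2,0,2,3,5,0,5,3,0,2,3,1,2]) (Tr.leaf []))) (Tr.node (Tr.node (Tr.leaf [0,2,3,5,0,5,3,1,5,4,0,2,3,2,0,5,3,5,1,2,4,2]) (Tr.leaf [])) (Tr.node (Tr.leaf [1,3,5,0,2,3,1,2,4,4,5,1,5,4,5,1,0,4,2])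 (Tr.leaf [])))) (Tr.node (Tr.node (Tr.node (Tr.leaf [3,5,0,5,3,5,0,2,3,2,0,5,3,2,0,2]) (Tr.leaf [])) (Tr.node (Tr.leaf [5,1,2,0,2,3,5,0,5,3,1,2,4,4,2,1,1,5,4,4]) (Tr.leaf []))) (Tr.node (Tr.node (Tr.leaf [5,3,4,2,1,0,2,3,2,0,5,3,5,4,5,1,2,0,2,3,5,0]) (Tr.leaf [])) (Tr.node (Tr.leaf [4,0,5,3,1,5,4,4,2,1,2,4,2,1,1,0,2,3]) (Tr.leaf []))))))) (Tr.node (Tr.node (Tr.node (Tr.node (Tr.node (Tr.node (Tr.leaf [3,3,3,3,3,3,3,3]) (Tr.leaf [1,2,2,1,2,4,4,5,5,4,5,1])) (Tr.node (Tr.leaf [2,0,2,3,5,0,5,3,2,0,2,3,5,0,5,3,2,1,2,4,5,1,5,4]) (Tr.leaf []))) (Tr.node (Tr.node (Tr.leaf [0,5,3,5,0,2,3,2,0,2,3,5,0,5,5,3,0,2,3,2]) (Tr.leaf [])) (Tr.node (Tr.leaf [4,5,4,5,1,0,1,2,4,3,1,2,2]) (Tr.leaf [])))) (Tr.node (Tr.node (Tr.node (Tr.leaf [3,4,0,1,3,4,0,1,3,4,0,1]) (Tr.leaf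 [])) (Tr.node (Tr.leaf [3,4,2,1,0,5,3,4,5,1,0,2]) (Tr.leaf []))) (Tr.node (Tr.node (Tr.leaf [2,3,5,0,5,3,1,2,4,0,2,3,2,0,5,3,5,1,5,4,2,0]) (Tr.leaf [])) (Tr.node (Tr.leaf [5,0,5,0,2,3,2,0,5,3,5,3,2,0,2,3,5,0,5,3,2,0,2,3]) (Tr.leaf []))))) (Tr.node (Tr.node (Tr.node (Tr.node (Tr.leaf [1,0,0,4,3,3]) (Tr.leaf [4,2,0,2,3,5,0,5,3,1,0,2,3,2,0,5,3,5])) (Tr.node (Tr.leaf [2,3,1,5,4,0,5,3,0,2,3,2,0,5,3,5,1,2,4,0]) (Tr.leaf []))) (Tr.node (Tr.node (Tr.leaf [2,0,5,3,5,1,2,4,2,0,2,3,5,0,5,3,1,5,4,0,2,3]) (Tr.leaf [])) (Tr.node (Tr.leaf [1,5,4,5,1,0,4,2,1,3,5,0,2,3,1,2,4,4,5]) (Tr.leaf [])))) (Tr.node (Tr.node (Tr.node (Tr.leaf [3,2,0,5,3,2,0,2,3,5,0,5,3,5,0,2]) (Tr.leaf [])) (Tr.node (Tr.leaf [4,4,2,1,1,5,4,4,5,1,2,0,2,3,5,0,5,3,1,2]) (Tr.leaf []))) (Tr.node (Tr.node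 (Tr.leaf [4,5,1,2,0,2,3,5,0,5,3,4,2,1,0,2,3,2,0,5,3,5]) (Tr.leaf [])) (Tr.node (Tr.leaf [2,4,2,1,1,0,2,3,4,0,5,3,1,5,4,4,2,1]) (Tr.leaf [])))))) (Tr.node (Tr.node (Tr.node (Tr.node (Tr.node (Tr.leaf [1,0,1,0,1,0,1,0]) (Tr.leaf [1,2,2,1,1,5,4,5,5,4,4,2])) (Tr.node (Tr.leaf [5,4,5,1,0,2,3,2,0,5,3,5,0,2,3,2,0,5,3,5,2,4,2,1]) (Tr.leaf []))) (Tr.node (Tr.node (Tr.leaf [0,5,3,5,0,5,3,2,0,2,3,5,0,5,3,0,2,2,3,2]) (Tr.leaf [])) (Tr.node (Tr.leaf [2,1,2,1,5,5,4,0,1,5,4,3,4]) (Tr.leaf [])))) (Tr.node (Tr.node (Tr.node (Tr.leaf [5,3,5,0,2,3,2,0,5,3,5,0,2,3,2,0,5,3,5,0,2,3,2,0,5,3,5,0,2,3,2,0,5,3,5,0,2,3,2,0]) (Tr.leaf [])) (Tr.node (Tr.leaf [3,5,4,2,1,1,2,4,4,5,1,1,5,4,0,2,3,2,0,5]) (Tr.leaf []))) (Tr.node (Tr.node (Tr.leaf [0,2,3,5,0,5,3,4,5,1,0,2,3,2,0,5,3,5,4,2,1,2])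 (Tr.leaf [])) (Tr.node (Tr.leaf [2,3,2,0,5,3,5,0,2,3,2,0,5,3,5,0,2,0,2,3,5,0,5,3]) (Tr.leaf []))))) (Tr.node (Tr.node (Tr.node (Tr.node (Tr.leaf [1,0,4,3,1,0,4,3,1,0,4,3]) (Tr.leaf [1,4])) (Tr.node (Tr.leaf [0,2,3,5,0,5,3,0,2,3,1,2,4,0,5,3,1,5,4,2]) (Tr.leaf []))) (Tr.node (Tr.node (Tr.leaf [1,2,4,0,2,3,2,0,5,3,5,1,5,4,2,0,2,3,5,0,5,3]) (Tr.leaf [])) (Tr.node (Tr.leaf [2,1,2,4,2,1,1,5,4,0,5,3,2,0,4,5,1,3,4]) (Tr.leaf [])))) (Tr.node (Tr.node (Tr.node (Tr.leaf [2,3,2,0,5,3,5,0,2,3,5,0,5,3,2,0]) (Tr.leaf [])) (Tr.node (Tr.leaf [2,0,0,2,3,3,2]) (Tr.leaf []))) (Tr.node (Tr.node (Tr.leaf [1,2,4,2,1,5,4,5,0,2,3,2,0,5,3,5,0,2,3,2,0,5,3,5]) (Tr.leaf [])) (Tr.node (Tr.leaf [1,5,4,5,1,1,2,4,0,2,3,1,0,5,3,4,4,5]) (Tr.leaf [])))))))) (Tr.node (Tr.node (Tr.node (Tr.node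 (Tr.node (Tr.node (Tr.node (Tr.leaf [0,0,0,0,0,0,0,0]) (Tr.leaf [5,4,5,1,1,2,2,1,2,4,4,5])) (Tr.node (Tr.leaf [5,1,5,4,2,0,2,3,5,0,5,3,2,0,2,3,5,0,5,3,2,1,2,4]) (Tr.leaf []))) (Tr.node (Tr.node (Tr.leaf [5,3,2,0,2,3,2,0,5,3,5,0,2,3,5,0]) (Tr.leaf [])) (Tr.node (Tr.leaf [5,0,0,5,3,3,5]) (Tr.leaf [])))) (Tr.node (Tr.node (Tr.node (Tr.leaf [3,4,0,1,3,4,0,1,3,4,0,1]) (Tr.leaf [])) (Tr.node (Tr.leaf [5,3,4,2,1,0,2,3,4,5,1,0]) (Tr.leaf []))) (Tr.node (Tr.node (Tr.leaf [5,4,2,0,2,3,5,0,5,3,1,2,4,0,2,3,2,0,5,3,5,1]) (Tr.leaf [])) (Tr.node (Tr.leaf [2,0,4,5,1,3,4,2,1,2,4,2,1,1,5,4,0,5,3]) (Tr.leaf []))))) (Tr.node (Tr.node (Tr.node (Tr.node (Tr.leaf [3,4,3,4,3,4,3,4]) (Tr.leaf [2,0,5,3,5,4,2,0,2,3,5,0,5,3,1,0,2,3])) (Tr.node (Tr.leaf [1,2,4,0,2,3,1,5,4,0,5,3,0,2,3,2,0,5,3,5])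 (Tr.leaf []))) (Tr.node (Tr.node (Tr.leaf [0,5,3,0,2,2,3,2,0,5,3,5,0,5,3,2,0,2,3,5]) (Tr.leaf [])) (Tr.node (Tr.leaf [2,4,4,5,1,5,4,5,1,0,4,2,1,3,5,0,2,3,1]) (Tr.leaf [])))) (Tr.node (Tr.node (Tr.node (Tr.leaf [3,2,0,2,3,5,0,5,3,2,0,2,3,5,0,5,3,2,0,2,3,5,0,5,3,2,0,2,3,5,0,5,3,2,0,2,3,5,0,5]) (Tr.leaf [])) (Tr.node (Tr.leaf [5,4,0,2,3,2,0,5,3,5,4,2,1,1,2,4,4,5,1,1]) (Tr.leaf []))) (Tr.node (Tr.node (Tr.leaf [2,3,2,0,5,3,5,4,5,1,2,0,2,3,5,0,5,3,4,2,1,0]) (Tr.leaf [])) (Tr.node (Tr.leaf [4,4,2,1,2,4,2,1,1,0,2,3,4,0,5,3,1,5]) (Tr.leaf [])))))) (Tr.node (Tr.node (Tr.node (Tr.node (Tr.node (Tr.leaf [4,4,4,4,4]) (Tr.leaf [5,4,4,2,1,2,2,1,1,5,4,5])) (Tr.node (Tr.leaf [5,1,5,2,0,2,3,5,0,5,3,2,0,2,3,5,0,5,3,4,2,1,2,4]) (Tr.leaf []))) (Tr.node (Tr.node (Tr.leaf [0,5,5,3,0,2,3,2,0,5,3,5,0,2,3,2,0,2,3,5])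 (Tr.leaf [])) (Tr.node (Tr.leaf [5,4,3,4,2,1,2,1,5,5,4,0,1]) (Tr.leaf [])))) (Tr.node (Tr.node (Tr.node (Tr.leaf [2,3,2,0,5,3,5,0,2,3,2,0,5,3,5,0,2,3,2,0,5,3,5,0,2,3,2,0,5,3,5,0,2,3,2,0,5,3,5,0]) (Tr.leaf [])) (Tr.node (Tr.leaf [3,2,0,5,3,5,4,2,1,1,2,4,4,5,1,1,5,4,0,2]) (Tr.leaf []))) (Tr.node (Tr.node (Tr.leaf [4,2,1,2,0,2,3,5,0,5,3,4,5,1,0,2,3,2,0,5,3,5]) (Tr.leaf [])) (Tr.node (Tr.leaf [2,3,5,0,5,3,2,3,2,0,5,3,5,0,2,3,2,0,5,3,5,0,2,0]) (Tr.leaf []))))) (Tr.node (Tr.node (Tr.node (Tr.node (Tr.leaf [1,0,4,3,1,0,4,3,1,0,4,3]) (Tr.leaf [0,5,3,5,1,2,0,2,3,5,0,5,3,4,0,2,3,2])) (Tr.node (Tr.leaf [1,5,4,2,0,2,3,5,0,5,3,0,2,3,1,2,4,0,5,3]) (Tr.leaf []))) (Tr.node (Tr.node (Tr.leaf [3,1,5,4,0,2,3,2,0,5,3,5,1,2,4,2,0,2,3,5,0,5]) (Tr.leaf [])) (Tr.node (Tr.leaf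 [5,1,3,4,2,1,2,4,2,1,1,5,4,0,5,3,2,0,4]) (Tr.leaf [])))) (Tr.node (Tr.node (Tr.node (Tr.leaf [3,5,0,2,3,2,0,5,3,2,0,2,3,5,0,5]) (Tr.leaf [])) (Tr.node (Tr.leaf [3,5,0,5,3,1,2,4,4,2,1,1,5,4,4,5,1,2,0,2]) (Tr.leaf []))) (Tr.node (Tr.node (Tr.leaf [0,5,3,5,0,2,3,2,0,5,3,5,1,2,4,2,1,5,4,5,0,2,3,2]) (Tr.leaf [])) (Tr.node (Tr.leaf [3,4,4,5,1,5,4,5,1,1,2,4,0,2,3,1,0,5]) (Tr.leaf []))))))) (Tr.node (Tr.node (Tr.node (Tr.node (Tr.node (Tr.node (Tr.leaf [3,3,3,3,3,3,3,3]) (Tr.leaf [2,4,4,5,5,4,5,1,1,2,2,1])) (Tr.node (Tr.leaf [3,5,0,5,3,2,0,2,3,5,0,5,3,4,2,1,2,4,5,1,5,2,0,2]) (Tr.leaf []))) (Tr.node (Tr.node (Tr.leaf [0,2,3,2,0,2,3,5,0,5,5,3,0,2,3,2,0,5,3,5]) (Tr.leaf [])) (Tr.node (Tr.leaf [1,0,1,2,4,3,1,2,2,4,5,4,5]) (Tr.leaf [])))) (Tr.node (Tr.node (Tr.node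 (Tr.leaf [2,2,2,2,2]) (Tr.leaf [])) (Tr.node (Tr.leaf [0,5,3,4,5,1,0,2,3,4,2,1]) (Tr.leaf []))) (Tr.node (Tr.node (Tr.leaf [3,1,2,4,0,2,3,2,0,5,3,5,1,5,4,2,0,2,3,5,0,5]) (Tr.leaf [])) (Tr.node (Tr.leaf [0,5,3,5,3,2,0,2,3,5,0,5,3,2,0,2,3,5,0,5,0,2,3,2]) (Tr.leaf []))))) (Tr.node (Tr.node (Tr.node (Tr.node (Tr.leaf [3,3,1,0,0,4]) (Tr.leaf [2,3,5,0,5,3,4,0,2,3,2,0,5,3,5,1,2,0])) (Tr.node (Tr.leaf [4,0,5,3,0,2,3,2,0,5,3,5,1,2,4,0,2,3,1,5]) (Tr.leaf []))) (Tr.node (Tr.node (Tr.leaf [1,2,4,2,0,2,3,5,0,5,3,1,5,4,0,2,3,2,0,5,3,5]) (Tr.leaf [])) (Tr.node (Tr.leaf [1,0,4,2,1,3,5,0,2,3,1,2,4,4,5,1,5,4,5]) (Tr.leaf [])))) (Tr.node (Tr.node (Tr.node (Tr.leaf [3,2,0,2,3,5,0,5,3,5,0,2,3,2,0,5]) (Tr.leaf [])) (Tr.node (Tr.leaf [1,5,4,4,5,1,2,0,2,3,5,0,5,3,1,2,4,4,2,1])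 (Tr.leaf []))) (Tr.node (Tr.node (Tr.leaf [2,3,5,0,5,3,4,2,1,0,2,3,2,0,5,3,5,4,5,1,2,0]) (Tr.leaf [])) (Tr.node (Tr.leaf [1,0,2,3,4,0,5,3,1,5,4,4,2,1,2,4,2,1]) (Tr.leaf [])))))) (Tr.node (Tr.node (Tr.node (Tr.node (Tr.node (Tr.leaf [1,0,1,0,1,0,1,0]) (Tr.leaf [0,2,3,5,0,5,3,1,0,2,3,2,0,5,3,5,4,2])) (Tr.node (Tr.leaf [0,2,3,2,0,5,3,5,0,2,3,2,0,5,3,5,2,4,2,1,5,4,5,1]) (Tr.leaf []))) (Tr.node (Tr.node (Tr.leaf [0,5,3,2,0,2,3,5,0,5,3,0,2,2,3,2,0,5,3,5]) (Tr.leaf [])) (Tr.node (Tr.leaf [5,5,4,0,1,5,4,3,4,2,1,2,1]) (Tr.leaf [])))) (Tr.node (Tr.node (Tr.node (Tr.leaf [5,3,5,0,2,3,2,0,5,3,5,0,2,3,2,0,5,3,5,0,2,3,2,0,5,3,5,0,2,3,2,0,5,3,5,0,2,3,2,0]) (Tr.leaf [])) (Tr.node (Tr.leaf [1,1,2,4,4,5,1,1,5,4,0,2,3,2,0,5,3,5,4,2]) (Tr.leaf []))) (Tr.node (Tr.node (Tr.leaf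 [0,5,3,4,5,1,0,2,3,2,0,5,3,5,4,2,1,2,0,2,3,5]) (Tr.leaf [])) (Tr.node (Tr.leaf [0,2,3,2,0,5,3,5,0,2,0,2,3,5,0,5,3,2,3,2,0,5,3,5]) (Tr.leaf []))))) (Tr.node (Tr.node (Tr.node (Tr.node (Tr.leaf [1,0,4,3,1,0,4,3,1,0,4,3]) (Tr.leaf [5,2])) (Tr.node (Tr.leaf [1,0,2,3,4,5,1,0,5,3,4,2]) (Tr.leaf []))) (Tr.node (Tr.node (Tr.leaf [2,3,2,0,5,3,5,1,5,4,2,0,2,3,5,0,5,3,1,2,4,0]) (Tr.leaf [])) (Tr.node (Tr.leaf [2,1,1,5,4,0,5,3,2,0,4,5,1,3,4,2,1,2,4]) (Tr.leaf [])))) (Tr.node (Tr.node (Tr.node (Tr.leaf [5,3,5,0,2,3,5,0,5,3,2,0,2,3,2,0]) (Tr.leaf [])) (Tr.node (Tr.leaf [3,3,2,2,0,0,2]) (Tr.leaf []))) (Tr.node (Tr.node (Tr.leaf [1,5,4,5,0,2,3,2,0,5,3,5,0,2,3,2,0,5,3,5,1,2,4,2]) (Tr.leaf [])) (Tr.node (Tr.leaf [1,1,2,4,0,2,3,1,0,5,3,4,4,5,1,5,4,5]) (Tr.leaf []))))))))))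 (Tr.node (Tr.node (Tr.node (Tr.node (Tr.node (Tr.node (Tr.node (Tr.node (Tr.node (Tr.leaf [0,0,0,0,0,0,0,0]) (Tr.leaf [4,0,2,3,1,0,5,3,4,4,5,1,5,4,5,1,1,2])) (Tr.node (Tr.leaf [5,0,2,3,2,0,5,3,5,0,2,3,2,0,5,3,5,1,2,4,2,1,5,4]) (Tr.leaf []))) (Tr.node (Tr.node (Tr.leaf [0,2,3,5,0,5,3,2,0,2,3,2,0,5,3,5]) (Tr.leaf [])) (Tr.node (Tr.leaf [0,5,3,3,5,5,0]) (Tr.leaf [])))) (Tr.node (Tr.node (Tr.node (Tr.leaf [0,1,3,4,0,1,3,4,0,1,3,4]) (Tr.leaf [])) (Tr.node (Tr.leaf [3,4,5,1,0,5,3,4,2,1,0,2]) (Tr.leaf []))) (Tr.node (Tr.node (Tr.leaf [0,5,3,5,1,5,4,2,0,2,3,5,0,5,3,1,2,4,0,2,3,2]) (Tr.leaf [])) (Tr.node (Tr.leaf [5,4,0,5,3,2,0,4,5,1,3,4,2,1,2,4,2,1,1]) (Tr.leaf []))))) (Tr.node (Tr.node (Tr.node (Tr.node (Tr.leaf [0,1,0,1,0,1,0,1]) (Tr.leaf [3,1,0,2,3,2,0,5,3,5,4,2,0,2,3,5,0,5]))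 (Tr.node (Tr.leaf [2,0,5,3,5,1,2,4,0,2,3,1,5,4,0,5,3,0,2,3]) (Tr.leaf []))) (Tr.node (Tr.node (Tr.leaf [2,0,2,3,5,0,5,3,0,2,2,3,2,0,5,3,5,0,5,3]) (Tr.leaf [])) (Tr.node (Tr.leaf [5,0,2,3,1,2,4,4,5,1,5,4,5,1,0,4,2,1,3]) (Tr.leaf [])))) (Tr.node (Tr.node (Tr.node (Tr.leaf [2,3,5,0,5,3,2,0,2,3,5,0,5,3,2,0,2,3,5,0,5,3,2,0,2,3,5,0,5,3,2,0,2,3,5,0,5,3,2,0]) (Tr.leaf [])) (Tr.node (Tr.leaf [4,4,5,1,1,5,4,0,2,3,2,0,5,3,5,4,2,1,1,2]) (Tr.leaf []))) (Tr.node (Tr.node (Tr.leaf [5,1,0,2,3,2,0,5,3,5,4,2,1,2,0,2,3,5,0,5,3,4]) (Tr.leaf [])) (Tr.node (Tr.leaf [0,5,3,1,5,4,4,2,1,2,4,2,1,1,0,2,3,4]) (Tr.leaf [])))))) (Tr.node (Tr.node (Tr.node (Tr.node (Tr.node (Tr.leaf [1,1,1,1,1]) (Tr.leaf [1,1,5,4,5,5,4,4,2,1,2,2])) (Tr.node (Tr.leaf [4,2,1,2,4,5,1,5,2,0,2,3,5,0,5,3,2,0,2,3,5,0,5,3])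 (Tr.leaf []))) (Tr.node (Tr.node (Tr.leaf [2,0,2,3,5,0,5,5,3,0,2,3,2,0,5,3,5,0,2,3]) (Tr.leaf [])) (Tr.node (Tr.leaf [2,4,3,1,2,2,4,5,4,5,1,0,1]) (Tr.leaf [])))) (Tr.node (Tr.node (Tr.node (Tr.leaf [5,5,5,5,5]) (Tr.leaf [])) (Tr.node (Tr.leaf [4,5,1,0,2,3,4,2,1,0,5,3]) (Tr.leaf []))) (Tr.node (Tr.node (Tr.leaf [2,0,5,3,5,4,2,1,2,0,2,3,5,0,5,3,4,5,1,0,2,3]) (Tr.leaf [])) (Tr.node (Tr.leaf [5,3,2,0,2,3,5,0,5,3,2,0,2,3,5,0,5,0,2,3,2,0,5,3]) (Tr.leaf []))))) (Tr.node (Tr.node (Tr.node (Tr.node (Tr.leaf [0,1,3,3,4,0]) (Tr.leaf [0,5,3,4,0,2,3,2,0,5,3,5,1,2,0,2,3,5])) (Tr.node (Tr.leaf [2,4,0,5,3,1,5,4,2,0,2,3,5,0,5,3,0,2,3,1]) (Tr.leaf []))) (Tr.node (Tr.node (Tr.leaf [2,0,2,3,5,0,5,3,1,5,4,0,2,3,2,0,5,3,5,1,2,4]) (Tr.leaf [])) (Tr.node (Tr.leaf [2,1,3,5,0,2,3,1,2,4,4,5,1,5,4,5,1,0,4])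 (Tr.leaf [])))) (Tr.node (Tr.node (Tr.node (Tr.leaf [2,3,5,0,5,3,5,0,2,3,2,0,5,3,2,0]) (Tr.leaf [])) (Tr.node (Tr.leaf [4,5,1,2,0,2,3,5,0,5,3,1,2,4,4,2,1,1,5,4]) (Tr.leaf []))) (Tr.node (Tr.node (Tr.leaf [0,5,3,4,2,1,0,2,3,2,0,5,3,5,4,5,1,2,0,2,3,5]) (Tr.leaf [])) (Tr.node (Tr.leaf [3,4,0,5,3,1,5,4,4,2,1,2,4,2,1,1,0,2]) (Tr.leaf []))))))) (Tr.node (Tr.node (Tr.node (Tr.node (Tr.node (Tr.node (Tr.leaf [3,3,3,3,3,3,3,3]) (Tr.leaf [1,1,2,2,1,2,4,4,5,5,4,5])) (Tr.node (Tr.leaf [4,2,0,2,3,5,0,5,3,2,0,2,3,5,0,5,3,2,1,2,4,5,1,5]) (Tr.leaf []))) (Tr.node (Tr.node (Tr.leaf [2,0,5,3,5,0,2,3,2,0,2,3,5,0,5,5,3,0,2,3]) (Tr.leaf [])) (Tr.node (Tr.leaf [2,4,5,4,5,1,0,1,2,4,3,1,2]) (Tr.leaf [])))) (Tr.node (Tr.node (Tr.node (Tr.leaf [1,3,4,0,1,3,4,0,1,3,4,0]) (Tr.leaf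 [])) (Tr.node (Tr.leaf [2,3,4,2,1,0,5,3,4,5,1,0]) (Tr.leaf []))) (Tr.node (Tr.node (Tr.leaf [0,2,3,5,0,5,3,1,2,4,0,2,3,2,0,5,3,5,1,5,4,2]) (Tr.leaf [])) (Tr.node (Tr.leaf [0,5,3,2,0,2,3,5,0,5,0,2,3,2,0,5,3,5,3,2,0,2,3,5]) (Tr.leaf []))))) (Tr.node (Tr.node (Tr.node (Tr.node (Tr.leaf [4,3,4,3,4,3,4,3]) (Tr.leaf [5,4,2,0,2,3,5,0,5,3,1,0,2,3,2,0,5,3])) (Tr.node (Tr.leaf [0,2,3,1,5,4,0,5,3,0,2,3,2,0,5,3,5,1,2,4]) (Tr.leaf []))) (Tr.node (Tr.node (Tr.leaf [3,2,0,5,3,5,1,2,4,2,0,2,3,5,0,5,3,1,5,4,0,2]) (Tr.leaf [])) (Tr.node (Tr.leaf [5,1,5,4,5,1,0,4,2,1,3,5,0,2,3,1,2,4,4]) (Tr.leaf [])))) (Tr.node (Tr.node (Tr.node (Tr.leaf [2,3,2,0,5,3,2,0,2,3,5,0,5,3,5,0]) (Tr.leaf [])) (Tr.node (Tr.leaf [2,4,4,2,1,1,5,4,4,5,1,2,0,2,3,5,0,5,3,1]) (Tr.leaf []))) (Tr.node (Tr.node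 (Tr.leaf [5,4,5,1,2,0,2,3,5,0,5,3,4,2,1,0,2,3,2,0,5,3]) (Tr.leaf [])) (Tr.node (Tr.leaf [1,2,4,2,1,1,0,2,3,4,0,5,3,1,5,4,4,2]) (Tr.leaf [])))))) (Tr.node (Tr.node (Tr.node (Tr.node (Tr.node (Tr.leaf [4,4,4,4,4]) (Tr.leaf [2,1,2,2,1,1,5,4,5,5,4,4])) (Tr.node (Tr.leaf [1,5,4,5,1,0,2,3,2,0,5,3,5,0,2,3,2,0,5,3,5,2,4,2]) (Tr.leaf []))) (Tr.node (Tr.node (Tr.leaf [2,0,5,3,5,0,5,3,2,0,2,3,5,0,5,3,0,2,2,3]) (Tr.leaf [])) (Tr.node (Tr.leaf [4,2,1,2,1,5,5,4,0,1,5,4,3]) (Tr.leaf [])))) (Tr.node (Tr.node (Tr.node (Tr.leaf [0,5,3,5,0,2,3,2,0,5,3,5,0,2,3,2,0,5,3,5,0,2,3,2,0,5,3,5,0,2,3,2,0,5,3,5,0,2,3,2]) (Tr.leaf [])) (Tr.node (Tr.leaf [5,3,5,4,2,1,1,2,4,4,5,1,1,5,4,0,2,3,2,0]) (Tr.leaf []))) (Tr.node (Tr.node (Tr.leaf [2,0,2,3,5,0,5,3,4,5,1,0,2,3,2,0,5,3,5,4,2,1])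 (Tr.leaf [])) (Tr.node (Tr.leaf [5,3,2,3,2,0,5,3,5,0,2,3,2,0,5,3,5,0,2,0,2,3,5,0]) (Tr.leaf []))))) (Tr.node (Tr.node (Tr.node (Tr.node (Tr.leaf [3,1,0,4,3,1,0,4,3,1,0,4]) (Tr.leaf [0,3])) (Tr.node (Tr.leaf [2,0,2,3,5,0,5,3,0,2,3,1,2,4,0,5,3,1,5,4]) (Tr.leaf []))) (Tr.node (Tr.node (Tr.leaf [4,0,2,3,2,0,5,3,5,1,2,4,2,0,2,3,5,0,5,3,1,5]) (Tr.leaf [])) (Tr.node (Tr.leaf [4,2,1,2,4,2,1,1,5,4,0,5,3,2,0,4,5,1,3]) (Tr.leaf [])))) (Tr.node (Tr.node (Tr.node (Tr.leaf [0,2,3,2,0,5,3,5,0,2,3,5,0,5,3,2]) (Tr.leaf [])) (Tr.node (Tr.leaf [2,2,0,0,2,3,3]) (Tr.leaf []))) (Tr.node (Tr.node (Tr.leaf [5,1,2,4,2,1,5,4,5,0,2,3,2,0,5,3,5,0,2,3,2,0,5,3]) (Tr.leaf [])) (Tr.node (Tr.leaf [5,1,5,4,5,1,1,2,4,0,2,3,1,0,5,3,4,4]) (Tr.leaf [])))))))) (Tr.node (Tr.node (Tr.node (Tr.node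 (Tr.node (Tr.node (Tr.node (Tr.leaf [0,0,0,0,0,0,0,0]) (Tr.leaf [5,5,4,5,1,1,2,2,1,2,4,4])) (Tr.node (Tr.leaf [4,5,1,5,4,2,0,2,3,5,0,5,3,2,0,2,3,5,0,5,3,2,1,2]) (Tr.leaf []))) (Tr.node (Tr.node (Tr.leaf [0,5,3,2,0,2,3,2,0,5,3,5,0,2,3,5]) (Tr.leaf [])) (Tr.node (Tr.leaf [5,5,0,0,5,3,3]) (Tr.leaf [])))) (Tr.node (Tr.node (Tr.node (Tr.leaf [0,1,3,4,0,1,3,4,0,1,3,4]) (Tr.leaf [])) (Tr.node (Tr.leaf [0,5,3,4,2,1,0,2,3,4,5,1]) (Tr.leaf []))) (Tr.node (Tr.node (Tr.leaf [1,5,4,2,0,2,3,5,0,5,3,1,2,4,0,2,3,2,0,5,3,5]) (Tr.leaf [])) (Tr.node (Tr.leaf [3,2,0,4,5,1,3,4,2,1,2,4,2,1,1,5,4,0,5]) (Tr.leaf []))))) (Tr.node (Tr.node (Tr.node (Tr.node (Tr.leaf [4,3,4,3,4,3,4,3]) (Tr.leaf [3,2,0,5,3,5,4,2,0,2,3,5,0,5,3,1,0,2])) (Tr.node (Tr.leaf [5,1,2,4,0,2,3,1,5,4,0,5,3,0,2,3,2,0,5,3])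 (Tr.leaf []))) (Tr.node (Tr.node (Tr.leaf [5,0,5,3,0,2,2,3,2,0,5,3,5,0,5,3,2,0,2,3]) (Tr.leaf [])) (Tr.node (Tr.leaf [1,2,4,4,5,1,5,4,5,1,0,4,2,1,3,5,0,2,3]) (Tr.leaf [])))) (Tr.node (Tr.node (Tr.node (Tr.leaf [5,3,2,0,2,3,5,0,5,3,2,0,2,3,5,0,5,3,2,0,2,3,5,0,5,3,2,0,2,3,5,0,5,3,2,0,2,3,5,0]) (Tr.leaf [])) (Tr.node (Tr.leaf [1,5,4,0,2,3,2,0,5,3,5,4,2,1,1,2,4,4,5,1]) (Tr.leaf []))) (Tr.node (Tr.node (Tr.leaf [0,2,3,2,0,5,3,5,4,5,1,2,0,2,3,5,0,5,3,4,2,1]) (Tr.leaf [])) (Tr.node (Tr.leaf [5,4,4,2,1,2,4,2,1,1,0,2,3,4,0,5,3,1]) (Tr.leaf [])))))) (Tr.node (Tr.node (Tr.node (Tr.node (Tr.node (Tr.leaf [4,4,4,4,4]) (Tr.leaf [5,5,4,4,2,1,2,2,1,1,5,4])) (Tr.node (Tr.leaf [4,5,1,5,2,0,2,3,5,0,5,3,2,0,2,3,5,0,5,3,4,2,1,2]) (Tr.leaf []))) (Tr.node (Tr.node (Tr.leaf [5,0,5,5,3,0,2,3,2,0,5,3,5,0,2,3,2,0,2,3])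 (Tr.leaf [])) (Tr.node (Tr.leaf [1,5,4,3,4,2,1,2,1,5,5,4,0]) (Tr.leaf [])))) (Tr.node (Tr.node (Tr.node (Tr.leaf [0,2,3,2,0,5,3,5,0,2,3,2,0,5,3,5,0,2,3,2,0,5,3,5,0,2,3,2,0,5,3,5,0,2,3,2,0,5,3,5]) (Tr.leaf [])) (Tr.node (Tr.leaf [2,3,2,0,5,3,5,4,2,1,1,2,4,4,5,1,1,5,4,0]) (Tr.leaf []))) (Tr.node (Tr.node (Tr.leaf [5,4,2,1,2,0,2,3,5,0,5,3,4,5,1,0,2,3,2,0,5,3]) (Tr.leaf [])) (Tr.node (Tr.leaf [0,2,3,5,0,5,3,2,3,2,0,5,3,5,0,2,3,2,0,5,3,5,0,2]) (Tr.leaf []))))) (Tr.node (Tr.node (Tr.node (Tr.node (Tr.leaf [4,0,0,1,3,3]) (Tr.leaf [2,3,2,0,5,3,5,1,2,0,2,3,5,0,5,3,4,0])) (Tr.node (Tr.leaf [3,1,5,4,2,0,2,3,5,0,5,3,0,2,3,1,2,4,0,5]) (Tr.leaf []))) (Tr.node (Tr.node (Tr.leaf [5,0,5,3,1,5,4,0,2,3,2,0,5,3,5,1,2,4,2,0,2,3]) (Tr.leaf [])) (Tr.node (Tr.leaf [4,5,1,3,4,2,1,2,4,2,1,1,5,4,0,5,3,2,0])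 (Tr.leaf [])))) (Tr.node (Tr.node (Tr.node (Tr.leaf [5,3,5,0,2,3,2,0,5,3,2,0,2,3,5,0]) (Tr.leaf [])) (Tr.node (Tr.leaf [0,2,3,5,0,5,3,1,2,4,4,2,1,1,5,4,4,5,1,2]) (Tr.leaf []))) (Tr.node (Tr.node (Tr.leaf [2,0,5,3,5,0,2,3,2,0,5,3,5,1,2,4,2,1,5,4,5,0,2,3]) (Tr.leaf [])) (Tr.node (Tr.leaf [5,3,4,4,5,1,5,4,5,1,1,2,4,0,2,3,1,0]) (Tr.leaf []))))))) (Tr.node (Tr.node (Tr.node (Tr.node (Tr.node (Tr.node (Tr.leaf [3,3,3,3,3,3,3,3]) (Tr.leaf [1,2,4,4,5,5,4,5,1,1,2,2])) (Tr.node (Tr.leaf [2,3,5,0,5,3,2,0,2,3,5,0,5,3,4,2,1,2,4,5,1,5,2,0]) (Tr.leaf []))) (Tr.node (Tr.node (Tr.leaf [5,0,2,3,2,0,2,3,5,0,5,5,3,0,2,3,2,0,5,3]) (Tr.leaf [])) (Tr.node (Tr.leaf [5,1,0,1,2,4,3,1,2,2,4,5,4]) (Tr.leaf [])))) (Tr.node (Tr.node (Tr.node (Tr.leaf [2,2,2,2,2]) (Tr.leaf [])) (Tr.node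 (Tr.leaf [1,0,5,3,4,5,1,0,2,3,4,2]) (Tr.leaf []))) (Tr.node (Tr.node (Tr.leaf [5,3,1,2,4,0,2,3,2,0,5,3,5,1,5,4,2,0,2,3,5,0]) (Tr.leaf [])) (Tr.node (Tr.leaf [2,0,5,3,5,3,2,0,2,3,5,0,5,3,2,0,2,3,5,0,5,0,2,3]) (Tr.leaf []))))) (Tr.node (Tr.node (Tr.node (Tr.node (Tr.leaf [4,3,3,1,0,0]) (Tr.leaf [0,2,3,5,0,5,3,4,0,2,3,2,0,5,3,5,1,2])) (Tr.node (Tr.leaf [5,4,0,5,3,0,2,3,2,0,5,3,5,1,2,4,0,2,3,1]) (Tr.leaf []))) (Tr.node (Tr.node (Tr.leaf [5,1,2,4,2,0,2,3,5,0,5,3,1,5,4,0,2,3,2,0,5,3]) (Tr.leaf [])) (Tr.node (Tr.leaf [5,1,0,4,2,1,3,5,0,2,3,1,2,4,4,5,1,5,4]) (Tr.leaf [])))) (Tr.node (Tr.node (Tr.node (Tr.leaf [5,3,2,0,2,3,5,0,5,3,5,0,2,3,2,0]) (Tr.leaf [])) (Tr.node (Tr.leaf [1,1,5,4,4,5,1,2,0,2,3,5,0,5,3,1,2,4,4,2]) (Tr.leaf []))) (Tr.node (Tr.node (Tr.leaf [2,0,2,3,5,0,5,3,4,2,1,0,2,3,2,0,5,3,5,4,5,1])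 (Tr.leaf [])) (Tr.node (Tr.leaf [1,1,0,2,3,4,0,5,3,1,5,4,4,2,1,2,4,2]) (Tr.leaf [])))))) (Tr.node (Tr.node (Tr.node (Tr.node (Tr.node (Tr.leaf [0,1,0,1,0,1,0,1]) (Tr.leaf [2,0,2,3,5,0,5,3,1,0,2,3,2,0,5,3,5,4])) (Tr.node (Tr.leaf [1,0,2,3,2,0,5,3,5,0,2,3,2,0,5,3,5,2,4,2,1,5,4,5]) (Tr.leaf []))) (Tr.node (Tr.node (Tr.leaf [5,0,5,3,2,0,2,3,5,0,5,3,0,2,2,3,2,0,5,3]) (Tr.leaf [])) (Tr.node (Tr.leaf [1,5,5,4,0,1,5,4,3,4,2,1,2]) (Tr.leaf [])))) (Tr.node (Tr.node (Tr.node (Tr.leaf [0,2,3,2,0,5,3,5,0,2,3,2,0,5,3,5,0,2,3,2,0,5,3,5,0,2,3,2,0,5,3,5,0,2,3,2,0,5,3,5]) (Tr.leaf [])) (Tr.node (Tr.leaf [2,1,1,2,4,4,5,1,1,5,4,0,2,3,2,0,5,3,5,4]) (Tr.leaf []))) (Tr.node (Tr.node (Tr.leaf [5,0,5,3,4,5,1,0,2,3,2,0,5,3,5,4,2,1,2,0,2,3]) (Tr.leaf [])) (Tr.node (Tr.leaf [0,5,3,5,0,2,3,2,0,5,3,5,0,2,0,2,3,5,0,5,3,2,3,2])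 (Tr.leaf []))))) (Tr.node (Tr.node (Tr.node (Tr.node (Tr.leaf [3,1,0,4,3,1,0,4,3,1,0,4]) (Tr.leaf [4,1])) (Tr.node (Tr.leaf [2,1,0,2,3,4,5,1,0,5,3,4]) (Tr.leaf []))) (Tr.node (Tr.node (Tr.leaf [0,2,3,2,0,5,3,5,1,5,4,2,0,2,3,5,0,5,3,1,2,4]) (Tr.leaf [])) (Tr.node (Tr.leaf [4,2,1,1,5,4,0,5,3,2,0,4,5,1,3,4,2,1,2]) (Tr.leaf [])))) (Tr.node (Tr.node (Tr.node (Tr.leaf [0,5,3,5,0,2,3,5,0,5,3,2,0,2,3,2]) (Tr.leaf [])) (Tr.node (Tr.leaf [2,3,3,2,2,0,0]) (Tr.leaf []))) (Tr.node (Tr.node (Tr.leaf [2,1,5,4,5,0,2,3,2,0,5,3,5,0,2,3,2,0,5,3,5,1,2,4]) (Tr.leaf [])) (Tr.node (Tr.leaf [5,1,1,2,4,0,2,3,1,0,5,3,4,4,5,1,5,4]) (Tr.leaf []))))))))) (Tr.node (Tr.node (Tr.node (Tr.node (Tr.node (Tr.node (Tr.node (Tr.node (Tr.leaf [0,0,0,0,0,0,0,0]) (Tr.leaf [2,3,1,0,5,3,4,4,5,1,5,4,5,1,1,2,4,0]))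 (Tr.node (Tr.leaf [1,2,4,5,1,5,4,2,0,2,3,5,0,5,3,2,0,2,3,5,0,5,3,2]) (Tr.leaf []))) (Tr.node (Tr.node (Tr.leaf [3,5,0,5,3,2,0,2,3,2,0,5,3,5,0,2]) (Tr.leaf [])) (Tr.node (Tr.leaf [3,3,5,5,0,0,5]) (Tr.leaf [])))) (Tr.node (Tr.node (Tr.node (Tr.leaf [3,4,0,1,3,4,0,1,3,4,0,1]) (Tr.leaf [])) (Tr.node (Tr.leaf [5,1,0,5,3,4,2,1,0,2,3,4]) (Tr.leaf []))) (Tr.node (Tr.node (Tr.leaf [3,5,1,5,4,2,0,2,3,5,0,5,3,1,2,4,0,2,3,2,0,5]) (Tr.leaf [])) (Tr.node (Tr.leaf [0,5,3,2,0,4,5,1,3,4,2,1,2,4,2,1,1,5,4]) (Tr.leaf []))))) (Tr.node (Tr.node (Tr.node (Tr.node (Tr.leaf [4,3,4,3,4,3,4,3]) (Tr.leaf [0,2,3,2,0,5,3,5,4,2,0,2,3,5,0,5,3,1])) (Tr.node (Tr.leaf [5,3,5,1,2,4,0,2,3,1,5,4,0,5,3,0,2,3,2,0]) (Tr.leaf []))) (Tr.node (Tr.node (Tr.leaf [2,3,5,0,5,3,0,2,2,3,2,0,5,3,5,0,5,3,2,0])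 (Tr.leaf [])) (Tr.node (Tr.leaf [2,3,1,2,4,4,5,1,5,4,5,1,0,4,2,1,3,5,0]) (Tr.leaf [])))) (Tr.node (Tr.node (Tr.node (Tr.leaf [5,0,5,3,2,0,2,3,5,0,5,3,2,0,2,3,5,0,5,3,2,0,2,3,5,0,5,3,2,0,2,3,5,0,5,3,2,0,2,3]) (Tr.leaf [])) (Tr.node (Tr.leaf [5,1,1,5,4,0,2,3,2,0,5,3,5,4,2,1,1,2,4,4]) (Tr.leaf []))) (Tr.node (Tr.node (Tr.leaf [2,1,0,2,3,2,0,5,3,5,4,5,1,2,0,2,3,5,0,5,3,4]) (Tr.leaf [])) (Tr.node (Tr.leaf [3,1,5,4,4,2,1,2,4,2,1,1,0,2,3,4,0,5]) (Tr.leaf [])))))) (Tr.node (Tr.node (Tr.node (Tr.node (Tr.node (Tr.leaf [1,1,1,1,1]) (Tr.leaf [5,4,5,5,4,4,2,1,2,2,1,1])) (Tr.node (Tr.leaf [1,2,4,5,1,5,2,0,2,3,5,0,5,3,2,0,2,3,5,0,5,3,4,2]) (Tr.leaf []))) (Tr.node (Tr.node (Tr.leaf [2,3,5,0,5,5,3,0,2,3,2,0,5,3,5,0,2,3,2,0]) (Tr.leaf [])) (Tr.node (Tr.leaf [3,1,2,2,4,5,4,5,1,0,1,2,4])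 (Tr.leaf [])))) (Tr.node (Tr.node (Tr.node (Tr.leaf [5,5,5,5,5]) (Tr.leaf [])) (Tr.node (Tr.leaf [1,0,2,3,4,2,1,0,5,3,4,5]) (Tr.leaf []))) (Tr.node (Tr.node (Tr.leaf [5,3,5,4,2,1,2,0,2,3,5,0,5,3,4,5,1,0,2,3,2,0]) (Tr.leaf [])) (Tr.node (Tr.leaf [0,2,0,2,3,5,0,5,3,2,3,2,0,5,3,5,0,2,3,2,0,5,3,5]) (Tr.leaf []))))) (Tr.node (Tr.node (Tr.node (Tr.node (Tr.leaf [3,3,4,0,0,1]) (Tr.leaf [4,0,2,3,2,0,5,3,5,1,2,0,2,3,5,0,5,3])) (Tr.node (Tr.leaf [0,5,3,1,5,4,2,0,2,3,5,0,5,3,0,2,3,1,2,4]) (Tr.leaf []))) (Tr.node (Tr.node (Tr.leaf [2,3,5,0,5,3,1,5,4,0,2,3,2,0,5,3,5,1,2,4,2,0]) (Tr.leaf [])) (Tr.node (Tr.leaf [3,5,0,2,3,1,2,4,4,5,1,5,4,5,1,0,4,2,1]) (Tr.leaf [])))) (Tr.node (Tr.node (Tr.node (Tr.leaf [5,0,5,3,5,0,2,3,2,0,5,3,2,0,2,3]) (Tr.leaf [])) (Tr.node (Tr.leaf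 [1,2,0,2,3,5,0,5,3,1,2,4,4,2,1,1,5,4,4,5]) (Tr.leaf []))) (Tr.node (Tr.node (Tr.leaf [0,2,3,2,0,5,3,5,0,2,3,2,0,5,3,5,1,2,4,2,1,5,4,5]) (Tr.leaf [])) (Tr.node (Tr.leaf [1,0,5,3,4,4,5,1,5,4,5,1,1,2,4,0,2,3]) (Tr.leaf []))))))) (Tr.node (Tr.node (Tr.node (Tr.node (Tr.node (Tr.node (Tr.leaf [3,3,3,3,3,3,3,3]) (Tr.leaf [2,2,1,2,4,4,5,5,4,5,1,1])) (Tr.node (Tr.leaf [5,3,2,1,2,4,5,1,5,4,2,0,2,3,5,0,5,3,2,0,2,3,5,0]) (Tr.leaf []))) (Tr.node (Tr.node (Tr.leaf [5,3,5,0,2,3,2,0,2,3,5,0,5,5,3,0,2,3,2,0]) (Tr.leaf [])) (Tr.node (Tr.leaf [5,4,5,1,0,1,2,4,3,1,2,2,4]) (Tr.leaf [])))) (Tr.node (Tr.node (Tr.node (Tr.leaf [4,0,1,3,4,0,1,3,4,0,1,3]) (Tr.leaf [])) (Tr.node (Tr.leaf [4,2,1,0,5,3,4,5,1,0,2,3]) (Tr.leaf []))) (Tr.node (Tr.node (Tr.leaf [3,5,0,5,3,1,2,4,0,2,3,2,0,5,3,5,1,5,4,2,0,2])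 (Tr.leaf [])) (Tr.node (Tr.leaf [5,0,2,3,2,0,5,3,5,3,2,0,2,3,5,0,5,3,2,0,2,3,5,0]) (Tr.leaf []))))) (Tr.node (Tr.node (Tr.node (Tr.node (Tr.leaf [0,0,4,3,3,1]) (Tr.leaf [1,2,0,2,3,5,0,5,3,4,0,2,3,2,0,5,3,5])) (Tr.node (Tr.leaf [3,1,5,4,0,5,3,0,2,3,2,0,5,3,5,1,2,4,0,2]) (Tr.leaf []))) (Tr.node (Tr.node (Tr.leaf [0,5,3,5,1,2,4,2,0,2,3,5,0,5,3,1,5,4,0,2,3,2]) (Tr.leaf [])) (Tr.node (Tr.leaf [5,4,5,1,0,4,2,1,3,5,0,2,3,1,2,4,4,5,1]) (Tr.leaf [])))) (Tr.node (Tr.node (Tr.node (Tr.leaf [2,0,5,3,2,0,2,3,5,0,5,3,5,0,2,3]) (Tr.leaf [])) (Tr.node (Tr.leaf [4,2,1,1,5,4,4,5,1,2,0,2,3,5,0,5,3,1,2,4]) (Tr.leaf []))) (Tr.node (Tr.node (Tr.leaf [5,1,2,0,2,3,5,0,5,3,4,2,1,0,2,3,2,0,5,3,5,4]) (Tr.leaf [])) (Tr.node (Tr.leaf [4,2,1,1,0,2,3,4,0,5,3,1,5,4,4,2,1,2]) (Tr.leaf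 [])))))) (Tr.node (Tr.node (Tr.node (Tr.node (Tr.node (Tr.leaf [0,1,0,1,0,1,0,1]) (Tr.leaf [2,2,1,1,5,4,5,5,4,4,2,1])) (Tr.node (Tr.leaf [4,5,1,0,2,3,2,0,5,3,5,0,2,3,2,0,5,3,5,2,4,2,1,5]) (Tr.leaf []))) (Tr.node (Tr.node (Tr.leaf [5,3,5,0,5,3,2,0,2,3,5,0,5,3,0,2,2,3,2,0]) (Tr.leaf [])) (Tr.node (Tr.leaf [1,2,1,5,5,4,0,1,5,4,3,4,2]) (Tr.leaf [])))) (Tr.node (Tr.node (Tr.node (Tr.leaf [3,5,0,2,3,2,0,5,3,5,0,2,3,2,0,5,3,5,0,2,3,2,0,5,3,5,0,2,3,2,0,5,3,5,0,2,3,2,0,5]) (Tr.leaf [])) (Tr.node (Tr.leaf [5,4,2,1,1,2,4,4,5,1,1,5,4,0,2,3,2,0,5,3]) (Tr.leaf []))) (Tr.node (Tr.node (Tr.leaf [2,3,5,0,5,3,4,5,1,0,2,3,2,0,5,3,5,4,2,1,2,0]) (Tr.leaf [])) (Tr.node (Tr.leaf [3,2,0,5,3,5,0,2,3,2,0,5,3,5,0,2,0,2,3,5,0,5,3,2]) (Tr.leaf []))))) (Tr.node (Tr.node (Tr.node (Tr.node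 (Tr.leaf [0,4,3,1,0,4,3,1,0,4,3,1]) (Tr.leaf [2,5])) (Tr.node (Tr.leaf [5,0,5,3,0,2,3,1,2,4,0,5,3,1,5,4,2,0,2,3]) (Tr.leaf []))) (Tr.node (Tr.node (Tr.leaf [2,4,0,2,3,2,0,5,3,5,1,5,4,2,0,2,3,5,0,5,3,1]) (Tr.leaf [])) (Tr.node (Tr.leaf [1,2,4,2,1,1,5,4,0,5,3,2,0,4,5,1,3,4,2]) (Tr.leaf [])))) (Tr.node (Tr.node (Tr.node (Tr.leaf [3,2,0,5,3,5,0,2,3,5,0,5,3,2,0,2]) (Tr.leaf [])) (Tr.node (Tr.leaf [0,0,2,3,3,2,2]) (Tr.leaf []))) (Tr.node (Tr.node (Tr.leaf [2,4,2,1,5,4,5,0,2,3,2,0,5,3,5,0,2,3,2,0,5,3,5,1]) (Tr.leaf [])) (Tr.node (Tr.leaf [5,4,5,1,1,2,4,0,2,3,1,0,5,3,4,4,5,1]) (Tr.leaf [])))))))) (Tr.node (Tr.node (Tr.node (Tr.node (Tr.node (Tr.node (Tr.node (Tr.leaf [0,0,0,0,0,0,0,0]) (Tr.leaf [4,5,1,1,2,2,1,2,4,4,5,5])) (Tr.node (Tr.leaf [1,5,4,2,0,2,3,5,0,5,3,2,0,2,3,5,0,5,3,2,1,2,4,5])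 (Tr.leaf []))) (Tr.node (Tr.node (Tr.leaf [3,2,0,2,3,2,0,5,3,5,0,2,3,5,0,5]) (Tr.leaf [])) (Tr.node (Tr.leaf [1,2,2,4,5,4,5,1,0,1,2,4,3]) (Tr.leaf [])))) (Tr.node (Tr.node (Tr.node (Tr.leaf [4,0,1,3,4,0,1,3,4,0,1,3]) (Tr.leaf [])) (Tr.node (Tr.leaf [3,4,2,1,0,2,3,4,5,1,0,5]) (Tr.leaf []))) (Tr.node (Tr.node (Tr.leaf [4,2,0,2,3,5,0,5,3,1,2,4,0,2,3,2,0,5,3,5,1,5]) (Tr.leaf [])) (Tr.node (Tr.leaf [2,0,2,3,5,0,5,3,2,0,2,3,5,0,5,0,2,3,2,0,5,3,5,3]) (Tr.leaf []))))) (Tr.node (Tr.node (Tr.node (Tr.node (Tr.leaf [4,3,4,3,4,3,4,3]) (Tr.leaf [5,3,5,4,2,0,2,3,5,0,5,3,1,0,2,3,2,0])) (Tr.node (Tr.leaf [2,4,0,2,3,1,5,4,0,5,3,0,2,3,2,0,5,3,5,1]) (Tr.leaf []))) (Tr.node (Tr.node (Tr.leaf [0,2,3,2,0,5,3,5,1,2,4,2,0,2,3,5,0,5,3,1,5,4]) (Tr.leaf [])) (Tr.node (Tr.leaf [4,4,5,1,5,4,5,1,0,4,2,1,3,5,0,2,3,1,2])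 (Tr.leaf [])))) (Tr.node (Tr.node (Tr.node (Tr.leaf [2,0,2,3,5,0,5,3,2,0,2,3,5,0,5,3,2,0,2,3,5,0,5,3,2,0,2,3,5,0,5,3,2,0,2,3,5,0,5,3]) (Tr.leaf [])) (Tr.node (Tr.leaf [4,0,2,3,2,0,5,3,5,4,2,1,1,2,4,4,5,1,1,5]) (Tr.leaf []))) (Tr.node (Tr.node (Tr.leaf [5,3,5,4,5,1,2,0,2,3,5,0,5,3,4,2,1,0,2,3,2,0]) (Tr.leaf [])) (Tr.node (Tr.leaf [4,2,1,2,4,2,1,1,0,2,3,4,0,5,3,1,5,4]) (Tr.leaf [])))))) (Tr.node (Tr.node (Tr.node (Tr.node (Tr.node (Tr.leaf [4,4,4,4,4]) (Tr.leaf [4,4,2,1,2,2,1,1,5,4,5,5])) (Tr.node (Tr.leaf [1,5,2,0,2,3,5,0,5,3,2,0,2,3,5,0,5,3,4,2,1,2,4,5]) (Tr.leaf []))) (Tr.node (Tr.node (Tr.leaf [5,5,3,0,2,3,2,0,5,3,5,0,2,3,2,0,2,3,5,0]) (Tr.leaf [])) (Tr.node (Tr.leaf [4,3,4,2,1,2,1,5,5,4,0,1,5]) (Tr.leaf [])))) (Tr.node (Tr.node (Tr.node (Tr.leaf [3,2,0,5,3,5,0,2,3,2,0,5,3,5,0,2,3,2,0,5,3,5,0,2,3,2,0,5,3,5,0,2,3,2,0,5,3,5,0,2])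 (Tr.leaf [])) (Tr.node (Tr.leaf [2,0,5,3,5,4,2,1,1,2,4,4,5,1,1,5,4,0,2,3]) (Tr.leaf []))) (Tr.node (Tr.node (Tr.leaf [2,1,2,0,2,3,5,0,5,3,4,5,1,0,2,3,2,0,5,3,5,4]) (Tr.leaf [])) (Tr.node (Tr.leaf [5,0,5,3,2,3,2,0,5,3,5,0,2,3,2,0,5,3,5,0,2,0,2,3]) (Tr.leaf []))))) (Tr.node (Tr.node (Tr.node (Tr.node (Tr.leaf [0,4,3,1,0,4,3,1,0,4,3,1]) (Tr.leaf [5,3,5,1,2,0,2,3,5,0,5,3,4,0,2,3,2,0])) (Tr.node (Tr.leaf [5,4,2,0,2,3,5,0,5,3,0,2,3,1,2,4,0,5,3,1]) (Tr.leaf []))) (Tr.node (Tr.node (Tr.leaf [1,5,4,0,2,3,2,0,5,3,5,1,2,4,2,0,2,3,5,0,5,3]) (Tr.leaf [])) (Tr.node (Tr.leaf [1,3,4,2,1,2,4,2,1,1,5,4,0,5,3,2,0,4,5]) (Tr.leaf [])))) (Tr.node (Tr.node (Tr.node (Tr.leaf [5,0,2,3,2,0,5,3,2,0,2,3,5,0,5,3]) (Tr.leaf [])) (Tr.node (Tr.leaf [5,0,5,3,1,2,4,4,2,1,1,5,4,4,5,1,2,0,2,3])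 (Tr.leaf []))) (Tr.node (Tr.node (Tr.leaf [5,3,5,0,2,3,2,0,5,3,5,1,2,4,2,1,5,4,5,0,2,3,2,0]) (Tr.leaf [])) (Tr.node (Tr.leaf [4,4,5,1,5,4,5,1,1,2,4,0,2,3,1,0,5,3]) (Tr.leaf []))))))) (Tr.node (Tr.node (Tr.node (Tr.node (Tr.node (Tr.node (Tr.leaf [3,3,3,3,3,3,3,3]) (Tr.leaf [4,4,5,5,4,5,1,1,2,2,1,2])) (Tr.node (Tr.leaf [3,2,0,2,3,5,0,5,3,4,2,1,2,4,5,1,5,2,0,2,3,5,0,5]) (Tr.leaf []))) (Tr.node (Tr.node (Tr.leaf [2,3,2,0,2,3,5,0,5,5,3,0,2,3,2,0,5,3,5,0]) (Tr.leaf [])) (Tr.node (Tr.leaf [0,1,2,4,3,1,2,2,4,5,4,5,1]) (Tr.leaf [])))) (Tr.node (Tr.node (Tr.node (Tr.leaf [2,2,2,2,2]) (Tr.leaf [])) (Tr.node (Tr.leaf [5,3,4,5,1,0,2,3,4,2,1,0]) (Tr.leaf []))) (Tr.node (Tr.node (Tr.leaf [0,2,3,2,0,5,3,5,4,2,1,2,0,2,3,5,0,5,3,4,5,1]) (Tr.leaf [])) (Tr.node (Tr.leaf [5,3,5,3,2,0,2,3,5,0,5,3,2,0,2,3,5,0,5,0,2,3,2,0])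 (Tr.leaf []))))) (Tr.node (Tr.node (Tr.node (Tr.node (Tr.leaf [3,1,0,0,4,3]) (Tr.leaf [3,5,0,5,3,4,0,2,3,2,0,5,3,5,1,2,0,2])) (Tr.node (Tr.leaf [0,5,3,0,2,3,2,0,5,3,5,1,2,4,0,2,3,1,5,4]) (Tr.leaf []))) (Tr.node (Tr.node (Tr.leaf [2,4,2,0,2,3,5,0,5,3,1,5,4,0,2,3,2,0,5,3,5,1]) (Tr.leaf [])) (Tr.node (Tr.leaf [0,4,2,1,3,5,0,2,3,1,2,4,4,5,1,5,4,5,1]) (Tr.leaf [])))) (Tr.node (Tr.node (Tr.node (Tr.leaf [2,0,2,3,5,0,5,3,5,0,2,3,2,0,5,3]) (Tr.leaf [])) (Tr.node (Tr.leaf [5,4,4,5,1,2,0,2,3,5,0,5,3,1,2,4,4,2,1,1]) (Tr.leaf []))) (Tr.node (Tr.node (Tr.leaf [3,5,0,5,3,4,2,1,0,2,3,2,0,5,3,5,4,5,1,2,0,2]) (Tr.leaf [])) (Tr.node (Tr.leaf [0,2,3,4,0,5,3,1,5,4,4,2,1,2,4,2,1,1]) (Tr.leaf [])))))) (Tr.node (Tr.node (Tr.node (Tr.node (Tr.node (Tr.leaf [0,1,0,1,0,1,0,1]) (Tr.leaf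 [3,5,0,5,3,1,0,2,3,2,0,5,3,5,4,2,0,2])) (Tr.node (Tr.leaf [2,3,2,0,5,3,5,2,4,2,1,5,4,5,1,0,2,3,2,0,5,3,5,0]) (Tr.leaf []))) (Tr.node (Tr.node (Tr.leaf [5,3,2,0,2,3,5,0,5,3,0,2,2,3,2,0,5,3,5,0]) (Tr.leaf [])) (Tr.node (Tr.leaf [5,4,0,1,5,4,3,4,2,1,2,1,5]) (Tr.leaf [])))) (Tr.node (Tr.node (Tr.node (Tr.leaf [2,0,2,3,5,0,5,3,2,0,2,3,5,0,5,3,2,0,2,3,5,0,5,3,2,0,2,3,5,0,5,3,2,0,2,3,5,0,5,3]) (Tr.leaf [])) (Tr.node (Tr.leaf [1,2,4,4,5,1,1,5,4,0,2,3,2,0,5,3,5,4,2,1]) (Tr.leaf []))) (Tr.node (Tr.node (Tr.leaf [5,3,4,5,1,0,2,3,2,0,5,3,5,4,2,1,2,0,2,3,5,0]) (Tr.leaf [])) (Tr.node (Tr.leaf [0,5,3,5,0,2,0,2,3,5,0,5,3,2,3,2,0,5,3,5,0,2,3,2]) (Tr.leaf []))))) (Tr.node (Tr.node (Tr.node (Tr.node (Tr.leaf [0,4,3,1,0,4,3,1,0,4,3,1]) (Tr.leaf [])) (Tr.node (Tr.leaf [0,2,3,4,5,1,0,5,3,4,2,1])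 (Tr.leaf []))) (Tr.node (Tr.node (Tr.leaf [3,2,0,5,3,5,1,5,4,2,0,2,3,5,0,5,3,1,2,4,0,2]) (Tr.leaf [])) (Tr.node (Tr.leaf [1,1,5,4,0,5,3,2,0,4,5,1,3,4,2,1,2,4,2]) (Tr.leaf [])))) (Tr.node (Tr.node (Tr.node (Tr.leaf [3,5,0,2,3,5,0,5,3,2,0,2,3,2,0,5]) (Tr.leaf [])) (Tr.node (Tr.leaf [3,2,2,0,0,2,3]) (Tr.leaf []))) (Tr.node (Tr.node (Tr.leaf [5,4,5,0,2,3,2,0,5,3,5,0,2,3,2,0,5,3,5,1,2,4,2,1]) (Tr.leaf [])) (Tr.node (Tr.leaf [1,2,4,0,2,3,1,0,5,3,4,4,5,1,5,4,5,1]) (Tr.leaf [])))))))))))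

/-- The witnesses of the rotations. -/
noncomputable def witT : Tr (Nat × Nat × Bool) := (Tr.node (Tr.node (Tr.node (Tr.node (Tr.node (Tr.node (Tr.node (Tr.node (Tr.node (Tr.node (Tr.leaf (0,0,false)) (Tr.leaf (20,13,true))) (Tr.node (Tr.leaf (11,22,false)) (Tr.leaf (0,0,false)))) (Tr.node (Tr.node (Tr.leaf (7,8,true)) (Tr.leaf (0,0,false))) (Tr.node (Tr.leaf (16,0,true)) (Tr.leaf (0,0,false))))) (Tr.node (Tr.node (Tr.node (Tr.leaf (4,10,false)) (Tr.leaf (0,0,false))) (Tr.node (Tr.leaf (14,4,false)) (Tr.leaf (0,0,false)))) (Tr.node (Tr.node (Tr.leaf (9,6,true)) (Tr.leaf (0,0,false))) (Tr.node (Tr.leaf (18,12,true)) (Tr.leaf (0,0,false)))))) (Tr.node (Tr.node (Tr.node (Tr.node (Tr.leaf (2,6,false)) (Tr.leaf (22,5,false))) (Tr.node (Tr.leaf (12,20,true))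 (Tr.leaf (0,0,false)))) (Tr.node (Tr.node (Tr.leaf (8,11,true)) (Tr.leaf (0,0,false))) (Tr.node (Tr.leaf (17,12,true)) (Tr.leaf (0,0,false))))) (Tr.node (Tr.node (Tr.node (Tr.leaf (6,1,true)) (Tr.leaf (0,0,false))) (Tr.node (Tr.leaf (15,12,false)) (Tr.leaf (0,0,false)))) (Tr.node (Tr.node (Tr.leaf (10,19,false)) (Tr.leaf (0,0,false))) (Tr.node (Tr.leaf (19,22,true)) (Tr.leaf (0,0,false))))))) (Tr.node (Tr.node (Tr.node (Tr.node (Tr.node (Tr.leaf (1,0,false)) (Tr.leaf (21,11,false))) (Tr.node (Tr.leaf (12,15,false)) (Tr.leaf (0,0,false)))) (Tr.node (Tr.node (Tr.leaf (8,10,false)) (Tr.leaf (0,0,false))) (Tr.node (Tr.leaf (17,9,false)) (Tr.leaf (0,0,false))))) (Tr.node (Tr.node (Tr.node (Tr.leaf (5,4,false)) (Tr.leaf (0,0,false))) (Tr.node (Tr.leaf (14,8,true))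 (Tr.leaf (0,0,false)))) (Tr.node (Tr.node (Tr.leaf (10,1,false)) (Tr.leaf (0,0,false))) (Tr.node (Tr.leaf (19,21,false)) (Tr.leaf (0,0,false)))))) (Tr.node (Tr.node (Tr.node (Tr.node (Tr.leaf (3,0,true)) (Tr.leaf (22,5,true))) (Tr.node (Tr.leaf (13,3,true)) (Tr.leaf (0,0,false)))) (Tr.node (Tr.node (Tr.leaf (9,10,false)) (Tr.leaf (0,0,false))) (Tr.node (Tr.leaf (18,15,false)) (Tr.leaf (0,0,false))))) (Tr.node (Tr.node (Tr.node (Tr.leaf (7,8,false)) (Tr.leaf (0,0,false))) (Tr.node (Tr.leaf (15,8,true)) (Tr.leaf (0,0,false)))) (Tr.node (Tr.node (Tr.leaf (10,18,true)) (Tr.leaf (0,0,false))) (Tr.node (Tr.leaf (20,15,false)) (Tr.leaf (0,0,false)))))))) (Tr.node (Tr.node (Tr.node (Tr.node (Tr.node (Tr.node (Tr.leaf (0,0,true)) (Tr.leaf (21,3,false))) (Tr.node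 (Tr.leaf (11,6,true)) (Tr.leaf (0,0,false)))) (Tr.node (Tr.node (Tr.leaf (8,2,false)) (Tr.leaf (0,0,false))) (Tr.node (Tr.leaf (17,1,false)) (Tr.leaf (0,0,false))))) (Tr.node (Tr.node (Tr.node (Tr.leaf (4,8,true)) (Tr.leaf (0,0,false))) (Tr.node (Tr.leaf (14,0,true)) (Tr.leaf (0,0,false)))) (Tr.node (Tr.node (Tr.leaf (9,14,true)) (Tr.leaf (0,0,false))) (Tr.node (Tr.leaf (19,2,false)) (Tr.leaf (0,0,false)))))) (Tr.node (Tr.node (Tr.node (Tr.node (Tr.leaf (2,6,true)) (Tr.leaf (22,15,false))) (Tr.node (Tr.leaf (13,10,false)) (Tr.leaf (0,0,false)))) (Tr.node (Tr.node (Tr.leaf (9,1,false)) (Tr.leaf (0,0,false))) (Tr.node (Tr.leaf (18,7,false)) (Tr.leaf (0,0,false))))) (Tr.node (Tr.node (Tr.node (Tr.leaf (7,0,false)) (Tr.leaf (0,0,false))) (Tr.node (Tr.leaf (15,0,true))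 (Tr.leaf (0,0,false)))) (Tr.node (Tr.node (Tr.leaf (10,9,true)) (Tr.leaf (0,0,false))) (Tr.node (Tr.leaf (20,7,false)) (Tr.leaf (0,0,false))))))) (Tr.node (Tr.node (Tr.node (Tr.node (Tr.node (Tr.leaf (1,3,true)) (Tr.leaf (21,7,true))) (Tr.node (Tr.leaf (12,1,true)) (Tr.leaf (0,0,false)))) (Tr.node (Tr.node (Tr.leaf (8,3,true)) (Tr.leaf (0,0,false))) (Tr.node (Tr.leaf (17,4,true)) (Tr.leaf (0,0,false))))) (Tr.node (Tr.node (Tr.node (Tr.leaf (6,3,false)) (Tr.leaf (0,0,false))) (Tr.node (Tr.leaf (15,4,false)) (Tr.leaf (0,0,false)))) (Tr.node (Tr.node (Tr.leaf (10,10,false)) (Tr.leaf (0,0,false))) (Tr.node (Tr.leaf (19,6,true)) (Tr.leaf (0,0,false)))))) (Tr.node (Tr.node (Tr.node (Tr.node (Tr.leaf (4,2,false)) (Tr.leaf (22,16,true))) (Tr.node (Tr.leaf (13,11,true))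 (Tr.leaf (0,0,false)))) (Tr.node (Tr.node (Tr.leaf (9,20,false)) (Tr.leaf (0,0,false))) (Tr.node (Tr.leaf (18,4,true)) (Tr.leaf (0,0,false))))) (Tr.node (Tr.node (Tr.node (Tr.leaf (7,0,true)) (Tr.leaf (0,0,false))) (Tr.node (Tr.leaf (15,19,true)) (Tr.leaf (0,0,false)))) (Tr.node (Tr.node (Tr.leaf (11,9,false)) (Tr.leaf (0,0,false))) (Tr.node (Tr.leaf (20,5,true)) (Tr.leaf (0,0,false))))))))) (Tr.node (Tr.node (Tr.node (Tr.node (Tr.node (Tr.node (Tr.node (Tr.leaf (0,4,false)) (Tr.leaf (20,17,true))) (Tr.node (Tr.leaf (11,2,true)) (Tr.leaf (0,0,false)))) (Tr.node (Tr.node (Tr.leaf (7,12,true)) (Tr.leaf (0,0,false))) (Tr.node (Tr.leaf (16,4,true)) (Tr.leaf (0,0,false))))) (Tr.node (Tr.node (Tr.node (Tr.leaf (4,3,true)) (Tr.leaf (0,0,false))) (Tr.node (Tr.leaf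 (14,8,false)) (Tr.leaf (0,0,false)))) (Tr.node (Tr.node (Tr.leaf (9,10,true)) (Tr.leaf (0,0,false))) (Tr.node (Tr.leaf (18,16,true)) (Tr.leaf (0,0,false)))))) (Tr.node (Tr.node (Tr.node (Tr.node (Tr.leaf (2,2,true)) (Tr.leaf (22,10,false))) (Tr.node (Tr.leaf (13,6,false)) (Tr.leaf (0,0,false)))) (Tr.node (Tr.node (Tr.leaf (8,15,true)) (Tr.leaf (0,0,false))) (Tr.node (Tr.leaf (18,3,false)) (Tr.leaf (0,0,false))))) (Tr.node (Tr.node (Tr.node (Tr.leaf (6,5,true)) (Tr.leaf (0,0,false))) (Tr.node (Tr.leaf (15,16,false)) (Tr.leaf (0,0,false)))) (Tr.node (Tr.node (Tr.leaf (10,2,true)) (Tr.leaf (0,0,false))) (Tr.node (Tr.leaf (20,3,false)) (Tr.leaf (0,0,false))))))) (Tr.node (Tr.node (Tr.node (Tr.node (Tr.node (Tr.leaf (1,4,false)) (Tr.leaf (21,3,true))) (Tr.node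 (Tr.leaf (12,19,false)) (Tr.leaf (0,0,false)))) (Tr.node (Tr.node (Tr.leaf (8,14,false)) (Tr.leaf (0,0,false))) (Tr.node (Tr.leaf (17,0,true)) (Tr.leaf (0,0,false))))) (Tr.node (Tr.node (Tr.node (Tr.leaf (5,4,true)) (Tr.leaf (0,0,false))) (Tr.node (Tr.leaf (15,0,false)) (Tr.leaf (0,0,false)))) (Tr.node (Tr.node (Tr.leaf (10,6,false)) (Tr.leaf (0,0,false))) (Tr.node (Tr.leaf (19,1,true)) (Tr.leaf (0,0,false)))))) (Tr.node (Tr.node (Tr.node (Tr.node (Tr.leaf (3,4,true)) (Tr.leaf (22,10,true))) (Tr.node (Tr.leaf (13,7,true)) (Tr.leaf (0,0,false)))) (Tr.node (Tr.node (Tr.leaf (9,14,false)) (Tr.leaf (0,0,false))) (Tr.node (Tr.leaf (18,0,true)) (Tr.leaf (0,0,false))))) (Tr.node (Tr.node (Tr.node (Tr.leaf (7,12,false)) (Tr.leaf (0,0,false))) (Tr.node (Tr.leaf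 (15,12,true)) (Tr.leaf (0,0,false)))) (Tr.node (Tr.node (Tr.leaf (11,1,false)) (Tr.leaf (0,0,false))) (Tr.node (Tr.leaf (20,1,true)) (Tr.leaf (0,0,false)))))))) (Tr.node (Tr.node (Tr.node (Tr.node (Tr.node (Tr.node (Tr.leaf (0,4,true)) (Tr.leaf (21,7,false))) (Tr.node (Tr.leaf (12,1,false)) (Tr.leaf (0,0,false)))) (Tr.node (Tr.node (Tr.leaf (8,6,false)) (Tr.leaf (0,0,false))) (Tr.node (Tr.leaf (17,5,false)) (Tr.leaf (0,0,false))))) (Tr.node (Tr.node (Tr.node (Tr.leaf (5,0,false)) (Tr.leaf (0,0,false))) (Tr.node (Tr.leaf (14,4,true)) (Tr.leaf (0,0,false)))) (Tr.node (Tr.node (Tr.leaf (9,18,true)) (Tr.leaf (0,0,false))) (Tr.node (Tr.leaf (19,17,false)) (Tr.leaf (0,0,false)))))) (Tr.node (Tr.node (Tr.node (Tr.node (Tr.leaf (3,2,false)) (Tr.leaf (22,1,true)))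 (Tr.node (Tr.leaf (13,14,false)) (Tr.leaf (0,0,false)))) (Tr.node (Tr.node (Tr.leaf (9,6,false)) (Tr.leaf (0,0,false))) (Tr.node (Tr.leaf (18,11,false)) (Tr.leaf (0,0,false))))) (Tr.node (Tr.node (Tr.node (Tr.leaf (7,4,false)) (Tr.leaf (0,0,false))) (Tr.node (Tr.leaf (15,4,true)) (Tr.leaf (0,0,false)))) (Tr.node (Tr.node (Tr.leaf (10,13,true)) (Tr.leaf (0,0,false))) (Tr.node (Tr.leaf (20,11,false)) (Tr.leaf (0,0,false))))))) (Tr.node (Tr.node (Tr.node (Tr.node (Tr.node (Tr.leaf (2,2,false)) (Tr.leaf (21,11,true))) (Tr.node (Tr.leaf (12,6,true)) (Tr.leaf (0,0,false)))) (Tr.node (Tr.node (Tr.leaf (8,7,true)) (Tr.leaf (0,0,false))) (Tr.node (Tr.leaf (17,8,true)) (Tr.leaf (0,0,false))))) (Tr.node (Tr.node (Tr.node (Tr.leaf (6,7,false)) (Tr.leaf (0,0,false)))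 (Tr.node (Tr.leaf (15,8,false)) (Tr.leaf (0,0,false)))) (Tr.node (Tr.node (Tr.leaf (10,14,false)) (Tr.leaf (0,0,false))) (Tr.node (Tr.leaf (19,11,true)) (Tr.leaf (0,0,false)))))) (Tr.node (Tr.node (Tr.node (Tr.node (Tr.leaf (4,6,false)) (Tr.leaf (23,3,false))) (Tr.node (Tr.leaf (14,0,false)) (Tr.leaf (0,0,false)))) (Tr.node (Tr.node (Tr.leaf (9,2,true)) (Tr.leaf (0,0,false))) (Tr.node (Tr.leaf (18,8,true)) (Tr.leaf (0,0,false))))) (Tr.node (Tr.node (Tr.node (Tr.leaf (7,4,true)) (Tr.leaf (0,0,false))) (Tr.node (Tr.leaf (16,3,false)) (Tr.leaf (0,0,false)))) (Tr.node (Tr.node (Tr.leaf (11,18,false)) (Tr.leaf (0,0,false))) (Tr.node (Tr.leaf (20,9,true)) (Tr.leaf (0,0,false)))))))))) (Tr.node (Tr.node (Tr.node (Tr.node (Tr.node (Tr.node (Tr.node (Tr.node (Tr.leaf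 (0,2,false)) (Tr.leaf (20,15,true))) (Tr.node (Tr.leaf (11,0,true)) (Tr.leaf (0,0,false)))) (Tr.node (Tr.node (Tr.leaf (7,10,true)) (Tr.leaf (0,0,false))) (Tr.node (Tr.leaf (16,2,true)) (Tr.leaf (0,0,false))))) (Tr.node (Tr.node (Tr.node (Tr.leaf (4,1,true)) (Tr.leaf (0,0,false))) (Tr.node (Tr.leaf (14,6,false)) (Tr.leaf (0,0,false)))) (Tr.node (Tr.node (Tr.leaf (9,8,true)) (Tr.leaf (0,0,false))) (Tr.node (Tr.leaf (18,14,true)) (Tr.leaf (0,0,false)))))) (Tr.node (Tr.node (Tr.node (Tr.node (Tr.leaf (2,0,true)) (Tr.leaf (22,8,false))) (Tr.node (Tr.leaf (13,4,false)) (Tr.leaf (0,0,false)))) (Tr.node (Tr.node (Tr.leaf (8,13,true)) (Tr.leaf (0,0,false))) (Tr.node (Tr.leaf (18,1,false)) (Tr.leaf (0,0,false))))) (Tr.node (Tr.node (Tr.node (Tr.leaf (6,3,true))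 (Tr.leaf (0,0,false))) (Tr.node (Tr.leaf (15,14,false)) (Tr.leaf (0,0,false)))) (Tr.node (Tr.node (Tr.leaf (10,21,false)) (Tr.leaf (0,0,false))) (Tr.node (Tr.leaf (20,1,false)) (Tr.leaf (0,0,false))))))) (Tr.node (Tr.node (Tr.node (Tr.node (Tr.node (Tr.leaf (1,2,false)) (Tr.leaf (21,1,true))) (Tr.node (Tr.leaf (12,17,false)) (Tr.leaf (0,0,false)))) (Tr.node (Tr.node (Tr.leaf (8,12,false)) (Tr.leaf (0,0,false))) (Tr.node (Tr.leaf (17,11,false)) (Tr.leaf (0,0,false))))) (Tr.node (Tr.node (Tr.node (Tr.leaf (5,2,true)) (Tr.leaf (0,0,false))) (Tr.node (Tr.leaf (14,10,true)) (Tr.leaf (0,0,false)))) (Tr.node (Tr.node (Tr.leaf (10,4,false)) (Tr.leaf (0,0,false))) (Tr.node (Tr.leaf (19,23,false)) (Tr.leaf (0,0,false)))))) (Tr.node (Tr.node (Tr.node (Tr.node (Tr.leaf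 (3,2,true)) (Tr.leaf (22,7,true))) (Tr.node (Tr.leaf (13,5,true)) (Tr.leaf (0,0,false)))) (Tr.node (Tr.node (Tr.leaf (9,12,false)) (Tr.leaf (0,0,false))) (Tr.node (Tr.leaf (18,17,false)) (Tr.leaf (0,0,false))))) (Tr.node (Tr.node (Tr.node (Tr.leaf (7,10,false)) (Tr.leaf (0,0,false))) (Tr.node (Tr.leaf (15,10,true)) (Tr.leaf (0,0,false)))) (Tr.node (Tr.node (Tr.leaf (10,20,true)) (Tr.leaf (0,0,false))) (Tr.node (Tr.leaf (20,17,false)) (Tr.leaf (0,0,false)))))))) (Tr.node (Tr.node (Tr.node (Tr.node (Tr.node (Tr.node (Tr.leaf (0,2,true)) (Tr.leaf (21,5,false))) (Tr.node (Tr.leaf (11,8,true)) (Tr.leaf (0,0,false)))) (Tr.node (Tr.node (Tr.leaf (8,4,false)) (Tr.leaf (0,0,false))) (Tr.node (Tr.leaf (17,3,false)) (Tr.leaf (0,0,false))))) (Tr.node (Tr.node (Tr.node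 (Tr.leaf (4,10,true)) (Tr.leaf (0,0,false))) (Tr.node (Tr.leaf (14,2,true)) (Tr.leaf (0,0,false)))) (Tr.node (Tr.node (Tr.leaf (9,16,true)) (Tr.leaf (0,0,false))) (Tr.node (Tr.leaf (19,12,false)) (Tr.leaf (0,0,false)))))) (Tr.node (Tr.node (Tr.node (Tr.node (Tr.leaf (3,0,false)) (Tr.leaf (22,17,false))) (Tr.node (Tr.leaf (13,12,false)) (Tr.leaf (0,0,false)))) (Tr.node (Tr.node (Tr.leaf (9,3,false)) (Tr.leaf (0,0,false))) (Tr.node (Tr.leaf (18,9,false)) (Tr.leaf (0,0,false))))) (Tr.node (Tr.node (Tr.node (Tr.leaf (7,2,false)) (Tr.leaf (0,0,false))) (Tr.node (Tr.leaf (15,2,true)) (Tr.leaf (0,0,false)))) (Tr.node (Tr.node (Tr.leaf (10,11,true)) (Tr.leaf (0,0,false))) (Tr.node (Tr.leaf (20,9,false)) (Tr.leaf (0,0,false))))))) (Tr.node (Tr.node (Tr.node (Tr.node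 (Tr.node (Tr.leaf (2,0,false)) (Tr.leaf (21,9,true))) (Tr.node (Tr.leaf (12,4,true)) (Tr.leaf (0,0,false)))) (Tr.node (Tr.node (Tr.leaf (8,5,true)) (Tr.leaf (0,0,false))) (Tr.node (Tr.leaf (17,6,true)) (Tr.leaf (0,0,false))))) (Tr.node (Tr.node (Tr.node (Tr.leaf (6,5,false)) (Tr.leaf (0,0,false))) (Tr.node (Tr.leaf (15,6,false)) (Tr.leaf (0,0,false)))) (Tr.node (Tr.node (Tr.leaf (10,12,false)) (Tr.leaf (0,0,false))) (Tr.node (Tr.leaf (19,9,true)) (Tr.leaf (0,0,false)))))) (Tr.node (Tr.node (Tr.node (Tr.node (Tr.leaf (4,4,false)) (Tr.leaf (23,1,false))) (Tr.node (Tr.leaf (13,13,true)) (Tr.leaf (0,0,false)))) (Tr.node (Tr.node (Tr.leaf (9,0,true)) (Tr.leaf (0,0,false))) (Tr.node (Tr.leaf (18,6,true)) (Tr.leaf (0,0,false))))) (Tr.node (Tr.node (Tr.node (Tr.leaf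 (7,2,true)) (Tr.leaf (0,0,false))) (Tr.node (Tr.leaf (16,1,false)) (Tr.leaf (0,0,false)))) (Tr.node (Tr.node (Tr.leaf (11,16,false)) (Tr.leaf (0,0,false))) (Tr.node (Tr.leaf (20,7,true)) (Tr.leaf (0,0,false))))))))) (Tr.node (Tr.node (Tr.node (Tr.node (Tr.node (Tr.node (Tr.node (Tr.leaf (0,6,false)) (Tr.leaf (21,1,false))) (Tr.node (Tr.leaf (11,4,true)) (Tr.leaf (0,0,false)))) (Tr.node (Tr.node (Tr.leaf (7,14,true)) (Tr.leaf (0,0,false))) (Tr.node (Tr.leaf (16,6,true)) (Tr.leaf (0,0,false))))) (Tr.node (Tr.node (Tr.node (Tr.leaf (4,6,true)) (Tr.leaf (0,0,false))) (Tr.node (Tr.leaf (14,10,false)) (Tr.leaf (0,0,false)))) (Tr.node (Tr.node (Tr.leaf (9,12,true)) (Tr.leaf (0,0,false))) (Tr.node (Tr.leaf (18,18,true)) (Tr.leaf (0,0,false)))))) (Tr.node (Tr.node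 (Tr.node (Tr.node (Tr.leaf (2,4,true)) (Tr.leaf (22,12,false))) (Tr.node (Tr.leaf (13,8,false)) (Tr.leaf (0,0,false)))) (Tr.node (Tr.node (Tr.leaf (8,17,true)) (Tr.leaf (0,0,false))) (Tr.node (Tr.leaf (18,5,false)) (Tr.leaf (0,0,false))))) (Tr.node (Tr.node (Tr.node (Tr.leaf (6,7,true)) (Tr.leaf (0,0,false))) (Tr.node (Tr.leaf (15,18,false)) (Tr.leaf (0,0,false)))) (Tr.node (Tr.node (Tr.leaf (10,4,true)) (Tr.leaf (0,0,false))) (Tr.node (Tr.leaf (20,5,false)) (Tr.leaf (0,0,false))))))) (Tr.node (Tr.node (Tr.node (Tr.node (Tr.node (Tr.leaf (1,1,true)) (Tr.leaf (21,5,true))) (Tr.node (Tr.leaf (12,21,false)) (Tr.leaf (0,0,false)))) (Tr.node (Tr.node (Tr.leaf (8,16,false)) (Tr.leaf (0,0,false))) (Tr.node (Tr.leaf (17,2,true)) (Tr.leaf (0,0,false))))) (Tr.node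 (Tr.node (Tr.node (Tr.leaf (6,1,false)) (Tr.leaf (0,0,false))) (Tr.node (Tr.leaf (15,2,false)) (Tr.leaf (0,0,false)))) (Tr.node (Tr.node (Tr.leaf (10,8,false)) (Tr.leaf (0,0,false))) (Tr.node (Tr.leaf (19,3,true)) (Tr.leaf (0,0,false)))))) (Tr.node (Tr.node (Tr.node (Tr.node (Tr.leaf (4,0,false)) (Tr.leaf (22,14,true))) (Tr.node (Tr.leaf (13,9,true)) (Tr.leaf (0,0,false)))) (Tr.node (Tr.node (Tr.leaf (9,18,false)) (Tr.leaf (0,0,false))) (Tr.node (Tr.leaf (18,2,true)) (Tr.leaf (0,0,false))))) (Tr.node (Tr.node (Tr.node (Tr.leaf (7,14,false)) (Tr.leaf (0,0,false))) (Tr.node (Tr.leaf (15,15,true)) (Tr.leaf (0,0,false)))) (Tr.node (Tr.node (Tr.leaf (11,4,false)) (Tr.leaf (0,0,false))) (Tr.node (Tr.leaf (20,3,true)) (Tr.leaf (0,0,false)))))))) (Tr.node (Tr.node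 (Tr.node (Tr.node (Tr.node (Tr.node (Tr.leaf (0,6,true)) (Tr.leaf (21,9,false))) (Tr.node (Tr.leaf (12,3,false)) (Tr.leaf (0,0,false)))) (Tr.node (Tr.node (Tr.leaf (8,8,false)) (Tr.leaf (0,0,false))) (Tr.node (Tr.leaf (17,7,false)) (Tr.leaf (0,0,false))))) (Tr.node (Tr.node (Tr.node (Tr.leaf (5,2,false)) (Tr.leaf (0,0,false))) (Tr.node (Tr.leaf (14,6,true)) (Tr.leaf (0,0,false)))) (Tr.node (Tr.node (Tr.leaf (9,21,true)) (Tr.leaf (0,0,false))) (Tr.node (Tr.leaf (19,19,false)) (Tr.leaf (0,0,false)))))) (Tr.node (Tr.node (Tr.node (Tr.node (Tr.leaf (3,4,false)) (Tr.leaf (22,3,true))) (Tr.node (Tr.leaf (13,16,false)) (Tr.leaf (0,0,false)))) (Tr.node (Tr.node (Tr.leaf (9,8,false)) (Tr.leaf (0,0,false))) (Tr.node (Tr.leaf (18,13,false)) (Tr.leaf (0,0,false)))))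 (Tr.node (Tr.node (Tr.node (Tr.leaf (7,6,false)) (Tr.leaf (0,0,false))) (Tr.node (Tr.leaf (15,6,true)) (Tr.leaf (0,0,false)))) (Tr.node (Tr.node (Tr.leaf (10,16,true)) (Tr.leaf (0,0,false))) (Tr.node (Tr.leaf (20,13,false)) (Tr.leaf (0,0,false))))))) (Tr.node (Tr.node (Tr.node (Tr.node (Tr.node (Tr.leaf (2,4,false)) (Tr.leaf (22,1,false))) (Tr.node (Tr.leaf (12,8,true)) (Tr.leaf (0,0,false)))) (Tr.node (Tr.node (Tr.leaf (8,9,true)) (Tr.leaf (0,0,false))) (Tr.node (Tr.leaf (17,10,true)) (Tr.leaf (0,0,false))))) (Tr.node (Tr.node (Tr.node (Tr.leaf (6,13,false)) (Tr.leaf (0,0,false))) (Tr.node (Tr.leaf (15,10,false)) (Tr.leaf (0,0,false)))) (Tr.node (Tr.node (Tr.leaf (10,16,false)) (Tr.leaf (0,0,false))) (Tr.node (Tr.leaf (19,16,true)) (Tr.leaf (0,0,false))))))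 (Tr.node (Tr.node (Tr.node (Tr.node (Tr.leaf (4,8,false)) (Tr.leaf (23,5,false))) (Tr.node (Tr.leaf (14,2,false)) (Tr.leaf (0,0,false)))) (Tr.node (Tr.node (Tr.leaf (9,4,true)) (Tr.leaf (0,0,false))) (Tr.node (Tr.leaf (18,10,true)) (Tr.leaf (0,0,false))))) (Tr.node (Tr.node (Tr.node (Tr.leaf (7,6,true)) (Tr.leaf (0,0,false))) (Tr.node (Tr.leaf (16,5,false)) (Tr.leaf (0,0,false)))) (Tr.node (Tr.node (Tr.leaf (11,20,false)) (Tr.leaf (0,0,false))) (Tr.node (Tr.leaf (20,11,true)) (Tr.leaf (0,0,false))))))))))) (Tr.node (Tr.node (Tr.node (Tr.node (Tr.node (Tr.node (Tr.node (Tr.node (Tr.node (Tr.leaf (0,1,false)) (Tr.leaf (20,14,true))) (Tr.node (Tr.leaf (11,23,false)) (Tr.leaf (0,0,false)))) (Tr.node (Tr.node (Tr.leaf (7,9,true)) (Tr.leaf (0,0,false))) (Tr.node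 (Tr.leaf (16,1,true)) (Tr.leaf (0,0,false))))) (Tr.node (Tr.node (Tr.node (Tr.leaf (4,0,true)) (Tr.leaf (0,0,false))) (Tr.node (Tr.leaf (14,5,false)) (Tr.leaf (0,0,false)))) (Tr.node (Tr.node (Tr.leaf (9,7,true)) (Tr.leaf (0,0,false))) (Tr.node (Tr.leaf (18,13,true)) (Tr.leaf (0,0,false)))))) (Tr.node (Tr.node (Tr.node (Tr.node (Tr.leaf (2,7,false)) (Tr.leaf (22,7,false))) (Tr.node (Tr.leaf (13,3,false)) (Tr.leaf (0,0,false)))) (Tr.node (Tr.node (Tr.leaf (8,12,true)) (Tr.leaf (0,0,false))) (Tr.node (Tr.leaf (18,0,false)) (Tr.leaf (0,0,false))))) (Tr.node (Tr.node (Tr.node (Tr.leaf (6,2,true)) (Tr.leaf (0,0,false))) (Tr.node (Tr.leaf (15,13,false)) (Tr.leaf (0,0,false)))) (Tr.node (Tr.node (Tr.leaf (10,20,false)) (Tr.leaf (0,0,false))) (Tr.node (Tr.leaf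 (20,0,false)) (Tr.leaf (0,0,false))))))) (Tr.node (Tr.node (Tr.node (Tr.node (Tr.node (Tr.leaf (1,1,false)) (Tr.leaf (21,0,true))) (Tr.node (Tr.leaf (12,16,false)) (Tr.leaf (0,0,false)))) (Tr.node (Tr.node (Tr.leaf (8,11,false)) (Tr.leaf (0,0,false))) (Tr.node (Tr.leaf (17,10,false)) (Tr.leaf (0,0,false))))) (Tr.node (Tr.node (Tr.node (Tr.leaf (5,1,true)) (Tr.leaf (0,0,false))) (Tr.node (Tr.leaf (14,9,true)) (Tr.leaf (0,0,false)))) (Tr.node (Tr.node (Tr.leaf (10,3,false)) (Tr.leaf (0,0,false))) (Tr.node (Tr.leaf (19,22,false)) (Tr.leaf (0,0,false)))))) (Tr.node (Tr.node (Tr.node (Tr.node (Tr.leaf (3,1,true)) (Tr.leaf (22,6,true))) (Tr.node (Tr.leaf (13,4,true)) (Tr.leaf (0,0,false)))) (Tr.node (Tr.node (Tr.leaf (9,11,false)) (Tr.leaf (0,0,false))) (Tr.node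 (Tr.leaf (18,16,false)) (Tr.leaf (0,0,false))))) (Tr.node (Tr.node (Tr.node (Tr.leaf (7,9,false)) (Tr.leaf (0,0,false))) (Tr.node (Tr.leaf (15,9,true)) (Tr.leaf (0,0,false)))) (Tr.node (Tr.node (Tr.leaf (10,19,true)) (Tr.leaf (0,0,false))) (Tr.node (Tr.leaf (20,16,false)) (Tr.leaf (0,0,false)))))))) (Tr.node (Tr.node (Tr.node (Tr.node (Tr.node (Tr.node (Tr.leaf (0,1,true)) (Tr.leaf (21,4,false))) (Tr.node (Tr.leaf (11,7,true)) (Tr.leaf (0,0,false)))) (Tr.node (Tr.node (Tr.leaf (8,3,false)) (Tr.leaf (0,0,false))) (Tr.node (Tr.leaf (17,2,false)) (Tr.leaf (0,0,false))))) (Tr.node (Tr.node (Tr.node (Tr.leaf (4,9,true)) (Tr.leaf (0,0,false))) (Tr.node (Tr.leaf (14,1,true)) (Tr.leaf (0,0,false)))) (Tr.node (Tr.node (Tr.leaf (9,15,true)) (Tr.leaf (0,0,false)))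 (Tr.node (Tr.leaf (19,5,false)) (Tr.leaf (0,0,false)))))) (Tr.node (Tr.node (Tr.node (Tr.node (Tr.leaf (2,7,true)) (Tr.leaf (22,16,false))) (Tr.node (Tr.leaf (13,11,false)) (Tr.leaf (0,0,false)))) (Tr.node (Tr.node (Tr.leaf (9,2,false)) (Tr.leaf (0,0,false))) (Tr.node (Tr.leaf (18,8,false)) (Tr.leaf (0,0,false))))) (Tr.node (Tr.node (Tr.node (Tr.leaf (7,1,false)) (Tr.leaf (0,0,false))) (Tr.node (Tr.leaf (15,1,true)) (Tr.leaf (0,0,false)))) (Tr.node (Tr.node (Tr.leaf (10,10,true)) (Tr.leaf (0,0,false))) (Tr.node (Tr.leaf (20,8,false)) (Tr.leaf (0,0,false))))))) (Tr.node (Tr.node (Tr.node (Tr.node (Tr.node (Tr.leaf (1,4,true)) (Tr.leaf (21,8,true))) (Tr.node (Tr.leaf (12,3,true)) (Tr.leaf (0,0,false)))) (Tr.node (Tr.node (Tr.leaf (8,4,true)) (Tr.leaf (0,0,false)))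 (Tr.node (Tr.leaf (17,5,true)) (Tr.leaf (0,0,false))))) (Tr.node (Tr.node (Tr.node (Tr.leaf (6,4,false)) (Tr.leaf (0,0,false))) (Tr.node (Tr.leaf (15,5,false)) (Tr.leaf (0,0,false)))) (Tr.node (Tr.node (Tr.leaf (10,11,false)) (Tr.leaf (0,0,false))) (Tr.node (Tr.leaf (19,7,true)) (Tr.leaf (0,0,false)))))) (Tr.node (Tr.node (Tr.node (Tr.node (Tr.leaf (4,3,false)) (Tr.leaf (23,0,false))) (Tr.node (Tr.leaf (13,12,true)) (Tr.leaf (0,0,false)))) (Tr.node (Tr.node (Tr.leaf (9,21,false)) (Tr.leaf (0,0,false))) (Tr.node (Tr.leaf (18,5,true)) (Tr.leaf (0,0,false))))) (Tr.node (Tr.node (Tr.node (Tr.leaf (7,1,true)) (Tr.leaf (0,0,false))) (Tr.node (Tr.leaf (16,0,false)) (Tr.leaf (0,0,false)))) (Tr.node (Tr.node (Tr.leaf (11,15,false)) (Tr.leaf (0,0,false))) (Tr.node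 (Tr.leaf (20,6,true)) (Tr.leaf (0,0,false))))))))) (Tr.node (Tr.node (Tr.node (Tr.node (Tr.node (Tr.node (Tr.node (Tr.leaf (0,5,false)) (Tr.leaf (21,0,false))) (Tr.node (Tr.leaf (11,3,true)) (Tr.leaf (0,0,false)))) (Tr.node (Tr.node (Tr.leaf (7,13,true)) (Tr.leaf (0,0,false))) (Tr.node (Tr.leaf (16,5,true)) (Tr.leaf (0,0,false))))) (Tr.node (Tr.node (Tr.node (Tr.leaf (4,4,true)) (Tr.leaf (0,0,false))) (Tr.node (Tr.leaf (14,9,false)) (Tr.leaf (0,0,false)))) (Tr.node (Tr.node (Tr.leaf (9,11,true)) (Tr.leaf (0,0,false))) (Tr.node (Tr.leaf (18,17,true)) (Tr.leaf (0,0,false)))))) (Tr.node (Tr.node (Tr.node (Tr.node (Tr.leaf (2,3,true)) (Tr.leaf (22,11,false))) (Tr.node (Tr.leaf (13,7,false)) (Tr.leaf (0,0,false)))) (Tr.node (Tr.node (Tr.leaf (8,16,true)) (Tr.leaf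 (0,0,false))) (Tr.node (Tr.leaf (18,4,false)) (Tr.leaf (0,0,false))))) (Tr.node (Tr.node (Tr.node (Tr.leaf (6,6,true)) (Tr.leaf (0,0,false))) (Tr.node (Tr.leaf (15,17,false)) (Tr.leaf (0,0,false)))) (Tr.node (Tr.node (Tr.leaf (10,3,true)) (Tr.leaf (0,0,false))) (Tr.node (Tr.leaf (20,4,false)) (Tr.leaf (0,0,false))))))) (Tr.node (Tr.node (Tr.node (Tr.node (Tr.node (Tr.leaf (1,0,true)) (Tr.leaf (21,4,true))) (Tr.node (Tr.leaf (12,20,false)) (Tr.leaf (0,0,false)))) (Tr.node (Tr.node (Tr.leaf (8,15,false)) (Tr.leaf (0,0,false))) (Tr.node (Tr.leaf (17,1,true)) (Tr.leaf (0,0,false))))) (Tr.node (Tr.node (Tr.node (Tr.leaf (6,0,false)) (Tr.leaf (0,0,false))) (Tr.node (Tr.leaf (15,1,false)) (Tr.leaf (0,0,false)))) (Tr.node (Tr.node (Tr.leaf (10,7,false)) (Tr.leaf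 (0,0,false))) (Tr.node (Tr.leaf (19,2,true)) (Tr.leaf (0,0,false)))))) (Tr.node (Tr.node (Tr.node (Tr.node (Tr.leaf (3,5,true)) (Tr.leaf (22,11,true))) (Tr.node (Tr.leaf (13,8,true)) (Tr.leaf (0,0,false)))) (Tr.node (Tr.node (Tr.leaf (9,15,false)) (Tr.leaf (0,0,false))) (Tr.node (Tr.leaf (18,1,true)) (Tr.leaf (0,0,false))))) (Tr.node (Tr.node (Tr.node (Tr.leaf (7,13,false)) (Tr.leaf (0,0,false))) (Tr.node (Tr.leaf (15,13,true)) (Tr.leaf (0,0,false)))) (Tr.node (Tr.node (Tr.leaf (11,3,false)) (Tr.leaf (0,0,false))) (Tr.node (Tr.leaf (20,2,true)) (Tr.leaf (0,0,false)))))))) (Tr.node (Tr.node (Tr.node (Tr.node (Tr.node (Tr.node (Tr.leaf (0,5,true)) (Tr.leaf (21,8,false))) (Tr.node (Tr.leaf (12,2,false)) (Tr.leaf (0,0,false)))) (Tr.node (Tr.node (Tr.leaf (8,7,false))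 (Tr.leaf (0,0,false))) (Tr.node (Tr.leaf (17,6,false)) (Tr.leaf (0,0,false))))) (Tr.node (Tr.node (Tr.node (Tr.leaf (5,1,false)) (Tr.leaf (0,0,false))) (Tr.node (Tr.leaf (14,5,true)) (Tr.leaf (0,0,false)))) (Tr.node (Tr.node (Tr.leaf (9,20,true)) (Tr.leaf (0,0,false))) (Tr.node (Tr.leaf (19,18,false)) (Tr.leaf (0,0,false)))))) (Tr.node (Tr.node (Tr.node (Tr.node (Tr.leaf (3,3,false)) (Tr.leaf (22,2,true))) (Tr.node (Tr.leaf (13,15,false)) (Tr.leaf (0,0,false)))) (Tr.node (Tr.node (Tr.leaf (9,7,false)) (Tr.leaf (0,0,false))) (Tr.node (Tr.leaf (18,12,false)) (Tr.leaf (0,0,false))))) (Tr.node (Tr.node (Tr.node (Tr.leaf (7,5,false)) (Tr.leaf (0,0,false))) (Tr.node (Tr.leaf (15,5,true)) (Tr.leaf (0,0,false)))) (Tr.node (Tr.node (Tr.leaf (10,14,true)) (Tr.leaf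 (0,0,false))) (Tr.node (Tr.leaf (20,12,false)) (Tr.leaf (0,0,false))))))) (Tr.node (Tr.node (Tr.node (Tr.node (Tr.node (Tr.leaf (2,3,false)) (Tr.leaf (22,0,false))) (Tr.node (Tr.leaf (12,7,true)) (Tr.leaf (0,0,false)))) (Tr.node (Tr.node (Tr.leaf (8,8,true)) (Tr.leaf (0,0,false))) (Tr.node (Tr.leaf (17,9,true)) (Tr.leaf (0,0,false))))) (Tr.node (Tr.node (Tr.node (Tr.leaf (6,8,false)) (Tr.leaf (0,0,false))) (Tr.node (Tr.leaf (15,9,false)) (Tr.leaf (0,0,false)))) (Tr.node (Tr.node (Tr.leaf (10,15,false)) (Tr.leaf (0,0,false))) (Tr.node (Tr.leaf (19,12,true)) (Tr.leaf (0,0,false)))))) (Tr.node (Tr.node (Tr.node (Tr.node (Tr.leaf (4,7,false)) (Tr.leaf (23,4,false))) (Tr.node (Tr.leaf (14,1,false)) (Tr.leaf (0,0,false)))) (Tr.node (Tr.node (Tr.leaf (9,3,true))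 (Tr.leaf (0,0,false))) (Tr.node (Tr.leaf (18,9,true)) (Tr.leaf (0,0,false))))) (Tr.node (Tr.node (Tr.node (Tr.leaf (7,5,true)) (Tr.leaf (0,0,false))) (Tr.node (Tr.leaf (16,4,false)) (Tr.leaf (0,0,false)))) (Tr.node (Tr.node (Tr.leaf (11,19,false)) (Tr.leaf (0,0,false))) (Tr.node (Tr.leaf (20,10,true)) (Tr.leaf (0,0,false)))))))))) (Tr.node (Tr.node (Tr.node (Tr.node (Tr.node (Tr.node (Tr.node (Tr.node (Tr.leaf (0,3,false)) (Tr.leaf (20,16,true))) (Tr.node (Tr.leaf (11,1,true)) (Tr.leaf (0,0,false)))) (Tr.node (Tr.node (Tr.leaf (7,11,true)) (Tr.leaf (0,0,false))) (Tr.node (Tr.leaf (16,3,true)) (Tr.leaf (0,0,false))))) (Tr.node (Tr.node (Tr.node (Tr.leaf (4,2,true)) (Tr.leaf (0,0,false))) (Tr.node (Tr.leaf (14,7,false)) (Tr.leaf (0,0,false)))) (Tr.node (Tr.node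 (Tr.leaf (9,9,true)) (Tr.leaf (0,0,false))) (Tr.node (Tr.leaf (18,15,true)) (Tr.leaf (0,0,false)))))) (Tr.node (Tr.node (Tr.node (Tr.node (Tr.leaf (2,1,true)) (Tr.leaf (22,9,false))) (Tr.node (Tr.leaf (13,5,false)) (Tr.leaf (0,0,false)))) (Tr.node (Tr.node (Tr.leaf (8,14,true)) (Tr.leaf (0,0,false))) (Tr.node (Tr.leaf (18,2,false)) (Tr.leaf (0,0,false))))) (Tr.node (Tr.node (Tr.node (Tr.leaf (6,4,true)) (Tr.leaf (0,0,false))) (Tr.node (Tr.leaf (15,15,false)) (Tr.leaf (0,0,false)))) (Tr.node (Tr.node (Tr.leaf (10,1,true)) (Tr.leaf (0,0,false))) (Tr.node (Tr.leaf (20,2,false)) (Tr.leaf (0,0,false))))))) (Tr.node (Tr.node (Tr.node (Tr.node (Tr.node (Tr.leaf (1,3,false)) (Tr.leaf (21,2,true))) (Tr.node (Tr.leaf (12,18,false)) (Tr.leaf (0,0,false)))) (Tr.node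 (Tr.node (Tr.leaf (8,13,false)) (Tr.leaf (0,0,false))) (Tr.node (Tr.leaf (17,12,false)) (Tr.leaf (0,0,false))))) (Tr.node (Tr.node (Tr.node (Tr.leaf (5,3,true)) (Tr.leaf (0,0,false))) (Tr.node (Tr.leaf (14,11,true)) (Tr.leaf (0,0,false)))) (Tr.node (Tr.node (Tr.leaf (10,5,false)) (Tr.leaf (0,0,false))) (Tr.node (Tr.leaf (19,0,true)) (Tr.leaf (0,0,false)))))) (Tr.node (Tr.node (Tr.node (Tr.node (Tr.leaf (3,3,true)) (Tr.leaf (22,9,true))) (Tr.node (Tr.leaf (13,6,true)) (Tr.leaf (0,0,false)))) (Tr.node (Tr.node (Tr.leaf (9,13,false)) (Tr.leaf (0,0,false))) (Tr.node (Tr.leaf (18,18,false)) (Tr.leaf (0,0,false))))) (Tr.node (Tr.node (Tr.node (Tr.leaf (7,11,false)) (Tr.leaf (0,0,false))) (Tr.node (Tr.leaf (15,11,true)) (Tr.leaf (0,0,false)))) (Tr.node (Tr.node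 (Tr.leaf (11,0,false)) (Tr.leaf (0,0,false))) (Tr.node (Tr.leaf (20,0,true)) (Tr.leaf (0,0,false)))))))) (Tr.node (Tr.node (Tr.node (Tr.node (Tr.node (Tr.node (Tr.leaf (0,3,true)) (Tr.leaf (21,6,false))) (Tr.node (Tr.leaf (11,22,true)) (Tr.leaf (0,0,false)))) (Tr.node (Tr.node (Tr.leaf (8,5,false)) (Tr.leaf (0,0,false))) (Tr.node (Tr.leaf (17,4,false)) (Tr.leaf (0,0,false))))) (Tr.node (Tr.node (Tr.node (Tr.leaf (4,11,true)) (Tr.leaf (0,0,false))) (Tr.node (Tr.leaf (14,3,true)) (Tr.leaf (0,0,false)))) (Tr.node (Tr.node (Tr.leaf (9,17,true)) (Tr.leaf (0,0,false))) (Tr.node (Tr.leaf (19,14,false)) (Tr.leaf (0,0,false)))))) (Tr.node (Tr.node (Tr.node (Tr.node (Tr.leaf (3,1,false)) (Tr.leaf (22,0,true))) (Tr.node (Tr.leaf (13,13,false)) (Tr.leaf (0,0,false))))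 (Tr.node (Tr.node (Tr.leaf (9,4,false)) (Tr.leaf (0,0,false))) (Tr.node (Tr.leaf (18,10,false)) (Tr.leaf (0,0,false))))) (Tr.node (Tr.node (Tr.node (Tr.leaf (7,3,false)) (Tr.leaf (0,0,false))) (Tr.node (Tr.leaf (15,3,true)) (Tr.leaf (0,0,false)))) (Tr.node (Tr.node (Tr.leaf (10,12,true)) (Tr.leaf (0,0,false))) (Tr.node (Tr.leaf (20,10,false)) (Tr.leaf (0,0,false))))))) (Tr.node (Tr.node (Tr.node (Tr.node (Tr.node (Tr.leaf (2,1,false)) (Tr.leaf (21,10,true))) (Tr.node (Tr.leaf (12,5,true)) (Tr.leaf (0,0,false)))) (Tr.node (Tr.node (Tr.leaf (8,6,true)) (Tr.leaf (0,0,false))) (Tr.node (Tr.leaf (17,7,true)) (Tr.leaf (0,0,false))))) (Tr.node (Tr.node (Tr.node (Tr.leaf (6,6,false)) (Tr.leaf (0,0,false))) (Tr.node (Tr.leaf (15,7,false)) (Tr.leaf (0,0,false))))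 (Tr.node (Tr.node (Tr.leaf (10,13,false)) (Tr.leaf (0,0,false))) (Tr.node (Tr.leaf (19,10,true)) (Tr.leaf (0,0,false)))))) (Tr.node (Tr.node (Tr.node (Tr.node (Tr.leaf (4,5,false)) (Tr.leaf (23,2,false))) (Tr.node (Tr.leaf (13,16,true)) (Tr.leaf (0,0,false)))) (Tr.node (Tr.node (Tr.leaf (9,1,true)) (Tr.leaf (0,0,false))) (Tr.node (Tr.leaf (18,7,true)) (Tr.leaf (0,0,false))))) (Tr.node (Tr.node (Tr.node (Tr.leaf (7,3,true)) (Tr.leaf (0,0,false))) (Tr.node (Tr.leaf (16,2,false)) (Tr.leaf (0,0,false)))) (Tr.node (Tr.node (Tr.leaf (11,17,false)) (Tr.leaf (0,0,false))) (Tr.node (Tr.leaf (20,8,true)) (Tr.leaf (0,0,false))))))))) (Tr.node (Tr.node (Tr.node (Tr.node (Tr.node (Tr.node (Tr.node (Tr.leaf (0,7,false)) (Tr.leaf (21,2,false))) (Tr.node (Tr.leaf (11,5,true))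 (Tr.leaf (0,0,false)))) (Tr.node (Tr.node (Tr.leaf (7,15,true)) (Tr.leaf (0,0,false))) (Tr.node (Tr.leaf (17,0,false)) (Tr.leaf (0,0,false))))) (Tr.node (Tr.node (Tr.node (Tr.leaf (4,7,true)) (Tr.leaf (0,0,false))) (Tr.node (Tr.leaf (14,11,false)) (Tr.leaf (0,0,false)))) (Tr.node (Tr.node (Tr.leaf (9,13,true)) (Tr.leaf (0,0,false))) (Tr.node (Tr.leaf (19,0,false)) (Tr.leaf (0,0,false)))))) (Tr.node (Tr.node (Tr.node (Tr.node (Tr.leaf (2,5,true)) (Tr.leaf (22,14,false))) (Tr.node (Tr.leaf (13,9,false)) (Tr.leaf (0,0,false)))) (Tr.node (Tr.node (Tr.leaf (9,0,false)) (Tr.leaf (0,0,false))) (Tr.node (Tr.leaf (18,6,false)) (Tr.leaf (0,0,false))))) (Tr.node (Tr.node (Tr.node (Tr.leaf (6,8,true)) (Tr.leaf (0,0,false))) (Tr.node (Tr.leaf (15,19,false)) (Tr.leaf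 (0,0,false)))) (Tr.node (Tr.node (Tr.leaf (10,8,true)) (Tr.leaf (0,0,false))) (Tr.node (Tr.leaf (20,6,false)) (Tr.leaf (0,0,false))))))) (Tr.node (Tr.node (Tr.node (Tr.node (Tr.node (Tr.leaf (1,2,true)) (Tr.leaf (21,6,true))) (Tr.node (Tr.leaf (12,22,false)) (Tr.leaf (0,0,false)))) (Tr.node (Tr.node (Tr.leaf (8,17,false)) (Tr.leaf (0,0,false))) (Tr.node (Tr.leaf (17,3,true)) (Tr.leaf (0,0,false))))) (Tr.node (Tr.node (Tr.node (Tr.leaf (6,2,false)) (Tr.leaf (0,0,false))) (Tr.node (Tr.leaf (15,3,false)) (Tr.leaf (0,0,false)))) (Tr.node (Tr.node (Tr.leaf (10,9,false)) (Tr.leaf (0,0,false))) (Tr.node (Tr.leaf (19,5,true)) (Tr.leaf (0,0,false)))))) (Tr.node (Tr.node (Tr.node (Tr.node (Tr.leaf (4,1,false)) (Tr.leaf (22,15,true))) (Tr.node (Tr.leaf (13,10,true))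 (Tr.leaf (0,0,false)))) (Tr.node (Tr.node (Tr.leaf (9,19,false)) (Tr.leaf (0,0,false))) (Tr.node (Tr.leaf (18,3,true)) (Tr.leaf (0,0,false))))) (Tr.node (Tr.node (Tr.node (Tr.leaf (7,15,false)) (Tr.leaf (0,0,false))) (Tr.node (Tr.leaf (15,16,true)) (Tr.leaf (0,0,false)))) (Tr.node (Tr.node (Tr.leaf (11,5,false)) (Tr.leaf (0,0,false))) (Tr.node (Tr.leaf (20,4,true)) (Tr.leaf (0,0,false)))))))) (Tr.node (Tr.node (Tr.node (Tr.node (Tr.node (Tr.node (Tr.leaf (0,7,true)) (Tr.leaf (21,10,false))) (Tr.node (Tr.leaf (12,7,false)) (Tr.leaf (0,0,false)))) (Tr.node (Tr.node (Tr.leaf (8,9,false)) (Tr.leaf (0,0,false))) (Tr.node (Tr.leaf (17,8,false)) (Tr.leaf (0,0,false))))) (Tr.node (Tr.node (Tr.node (Tr.leaf (5,3,false)) (Tr.leaf (0,0,false))) (Tr.node (Tr.leaf (14,7,true))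 (Tr.leaf (0,0,false)))) (Tr.node (Tr.node (Tr.leaf (10,0,false)) (Tr.leaf (0,0,false))) (Tr.node (Tr.leaf (19,20,false)) (Tr.leaf (0,0,false)))))) (Tr.node (Tr.node (Tr.node (Tr.node (Tr.leaf (3,5,false)) (Tr.leaf (22,4,true))) (Tr.node (Tr.leaf (13,17,false)) (Tr.leaf (0,0,false)))) (Tr.node (Tr.node (Tr.leaf (9,9,false)) (Tr.leaf (0,0,false))) (Tr.node (Tr.leaf (18,14,false)) (Tr.leaf (0,0,false))))) (Tr.node (Tr.node (Tr.node (Tr.leaf (7,7,false)) (Tr.leaf (0,0,false))) (Tr.node (Tr.leaf (15,7,true)) (Tr.leaf (0,0,false)))) (Tr.node (Tr.node (Tr.leaf (10,17,true)) (Tr.leaf (0,0,false))) (Tr.node (Tr.leaf (20,14,false)) (Tr.leaf (0,0,false))))))) (Tr.node (Tr.node (Tr.node (Tr.node (Tr.node (Tr.leaf (2,5,false)) (Tr.leaf (22,3,false))) (Tr.node (Tr.leaf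 (12,17,true)) (Tr.leaf (0,0,false)))) (Tr.node (Tr.node (Tr.leaf (8,10,true)) (Tr.leaf (0,0,false))) (Tr.node (Tr.leaf (17,11,true)) (Tr.leaf (0,0,false))))) (Tr.node (Tr.node (Tr.node (Tr.leaf (6,0,true)) (Tr.leaf (0,0,false))) (Tr.node (Tr.leaf (15,11,false)) (Tr.leaf (0,0,false)))) (Tr.node (Tr.node (Tr.leaf (10,17,false)) (Tr.leaf (0,0,false))) (Tr.node (Tr.leaf (19,20,true)) (Tr.leaf (0,0,false)))))) (Tr.node (Tr.node (Tr.node (Tr.node (Tr.leaf (4,9,false)) (Tr.leaf (0,0,false))) (Tr.node (Tr.leaf (14,3,false)) (Tr.leaf (0,0,false)))) (Tr.node (Tr.node (Tr.leaf (9,5,true)) (Tr.leaf (0,0,false))) (Tr.node (Tr.leaf (18,11,true)) (Tr.leaf (0,0,false))))) (Tr.node (Tr.node (Tr.node (Tr.leaf (7,7,true)) (Tr.leaf (0,0,false))) (Tr.node (Tr.leaf (16,6,false))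 (Tr.leaf (0,0,false)))) (Tr.node (Tr.node (Tr.leaf (11,21,false)) (Tr.leaf (0,0,false))) (Tr.node (Tr.leaf (20,12,true)) (Tr.leaf (0,0,false))))))))))))

/-- The subgroup rotations. -/
noncomputable def srotT : Tr (List Nat × Nat × List Nat) := (Tr.node (Tr.leaf ([],0,[])) (Tr.leaf ([],1,[])))

/-- The certificate. -/
noncomputable def cert : Cert :=
  mkCert 6 5851 26059 4 575 577 5 31 319 41 246 303 2199023255551 144115188075855871 15 13 32767 8191 28 26 7 ctree.get rotT.get srotT.get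

/-- The letters. -/
def ls : List Nat := [0,1,2,5,6,7]

/-- The letters of the next stage. -/
def ls' : List Nat := [0,1,5,6]

/-- The inverses. -/
def inv' (c : Nat) : Nat := [3,4,5,0,1,2].getD c 0

/-- The relators. -/
def rels' : List (List Nat) :=
  [[0,0,0,0,0,0,0,0],
   [1,1,1,1,1],
   [1,0,1,0,1,0,1,0],
   [1,0,0,4,3,3],
   [1,0,4,3,1,0,4,3,1,0,4,3],
   [2,2,2,2,2],
   [0,2,3,2,0,5,3,5,0,2,3,2,0,5,3,5,0,2,3,2,0,5,3,5,0,2,3,2,0,5,3,5,0,2,3,2,0,5,3,5],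
   [0,2,3,2,0,5,3,2,0,2,3,5,0,5,3,5],
   [0,2,3,2,0,5,3,5,0,2,3,2,0,2,3,5,0,5,5,3],
   [0,2,3,2,0,5,3,5,1,2,4,2,0,2,3,5,0,5,3,1,5,4],
   [0,2,3,2,0,5,3,5,4,2,1,2,0,2,3,5,0,5,3,4,5,1],
   [0,2,3,2,0,5,3,5,0,2,3,2,0,5,3,5,1,2,4,2,1,5,4,5],
   [2,0,2,3,5,0,5,3,2,0,2,3,5,0,5,3,4,2,1,2,4,5,1,5],
   [0,2,3,2,0,5,3,5,1,2,4,0,2,3,1,5,4,0,5,3],
   [4,2,1,0,2,3,4,5,1,0,5,3],
   [0,2,3,2,0,5,3,5,4,2,1,1,2,4,4,5,1,1,5,4],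
   [2,2,0,0,2,3,3],
   [1,2,2,4,5,4,5,1,0,1,2,4,3],
   [5,0,2,3,1,2,4,4,5,1,5,4,5,1,0,4,2,1,3],
   [2,0,2,3,5,0,5,3,2,0,2,3,5,0,5,0,2,3,2,0,5,3,5,3],
   [0,5,3,1,5,4,4,2,1,2,4,2,1,1,0,2,3,4],
   [5,5,4,5,1,1,2,2,1,2,4,4],
   [2,0,2,3,5,0,5,3,1,0,2,3,2,0,5,3,5,4]]

/-- The subgroup. -/
def subs' : List (List Nat) := [[0],[1],[3],[4]]

end Cfsg.Agent.Lib.DCE.Ly.H.S1Tab
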