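import Cfsg.Agent.Lib.DCE.Ly.H.Rels
import Cfsg.Agent.Lib.TC.Chain
import Cfsg.Agent.Lib.DCE.Ly.H.S2CT

namespace Cfsg.Agent.Lib.DCE.Ly.H.S2Tab

open Cfsg.Agent.Lib.TC.Core Cfsg.Agent.Lib.TC.Enc Cfsg.Agent.Lib.TC.Pres Cfsg.Agent.Lib.TC.Perm Cfsg.Agent.Lib.TC.Main Cfsg.Agent.Lib.TC.Chain

set_option maxRecDepth 100000

/-- The chunks. -/
noncomputable def ctree : Tr Nat := Cfsg.Agent.Lib.DCE.Ly.H.S2CT.tree

/-- The relator rotations. -/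
noncomputable def rotT : Tr (List Nat) := (Tr.node (Tr.node (Tr.node (Tr.node (Tr.node (Tr.node (Tr.leaf []) (Tr.leaf [2,1,0,3,2,1,0,3,2,1,0,3])) (Tr.node (Tr.leaf [3,2,3,2,3,2,3,2]) (Tr.leaf []))) (Tr.node (Tr.node (Tr.leaf [3,3,3,3,3]) (Tr.leaf [1,2,3,0,1,2,3,0,1,2,3,0])) (Tr.node (Tr.leaf [0,0,1,2,2,3]) (Tr.leaf [])))) (Tr.node (Tr.node (Tr.node (Tr.leaf [1,1,1,1,1]) (Tr.leaf [2,3,0,1,2,3,0,1,2,3,0,1])) (Tr.node (Tr.leaf [0,3,2,2,1,0]) (Tr.leaf []))) (Tr.node (Tr.node (Tr.leaf [1,0,1,0,1,0,1,0]) (Tr.leaf [2,0])) (Tr.node (Tr.leaf [2,3,0,0,1,2]) (Tr.leaf []))))) (Tr.node (Tr.node (Tr.node (Tr.node (Tr.leaf [2,2,2,2,2,2,2,2]) (Tr.leaf [1,0,3,2,1,0,3,2,1,0,3,2])) (Tr.node (Tr.leaf [1,0,0,3,2,2]) (Tr.leaf []))) (Tr.node (Tr.node (Tr.leaf [0,1,0,1,0,1,0,1]) (Tr.leaf [0,2])) (Tr.node (Tr.leaf [1,2,2,3,0,0]) (Tr.leaf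 [])))) (Tr.node (Tr.node (Tr.node (Tr.leaf [3,3,3,3,3]) (Tr.leaf [3,0,1,2,3,0,1,2,3,0,1,2])) (Tr.node (Tr.leaf [2,2,1,0,0,3]) (Tr.leaf []))) (Tr.node (Tr.node (Tr.leaf [3,2,3,2,3,2,3,2]) (Tr.leaf [])) (Tr.node (Tr.leaf [0,3,2,1,0,3,2,1,0,3,2,1]) (Tr.leaf [])))))) (Tr.node (Tr.node (Tr.node (Tr.node (Tr.node (Tr.leaf [0,0,0,0,0,0,0,0]) (Tr.leaf [3,2,1,0,3,2,1,0,3,2,1,0])) (Tr.node (Tr.leaf [3,2,3,2,3,2,3,2]) (Tr.leaf []))) (Tr.node (Tr.node (Tr.leaf [1,0,1,0,1,0,1,0]) (Tr.leaf [3,0,1,2,3,0,1,2,3,0,1,2])) (Tr.node (Tr.leaf [0,1,2,2,3,0]) (Tr.leaf [])))) (Tr.node (Tr.node (Tr.node (Tr.leaf [1,1,1,1,1]) (Tr.leaf [0,1,2,3,0,1,2,3,0,1,2,3])) (Tr.node (Tr.leaf [3,2,2,1,0,0]) (Tr.leaf []))) (Tr.node (Tr.node (Tr.leaf [1,0,1,0,1,0,1,0]) (Tr.leaf [3,1])) (Tr.node (Tr.leaf [3,0,0,1,2,2]) (Tr.leaf []))))) (Tr.node (Tr.node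 (Tr.node (Tr.node (Tr.leaf [1,1,1,1,1]) (Tr.leaf [0,1,2,3,0,1,2,3,0,1,2,3])) (Tr.node (Tr.leaf [0,0,3,2,2,1]) (Tr.leaf []))) (Tr.node (Tr.node (Tr.leaf [1,0,1,0,1,0,1,0]) (Tr.leaf [1,3])) (Tr.node (Tr.leaf [2,2,3,0,0,1]) (Tr.leaf [])))) (Tr.node (Tr.node (Tr.node (Tr.leaf [3,3,3,3,3]) (Tr.leaf [0,1,2,3,0,1,2,3,0,1,2,3])) (Tr.node (Tr.leaf [2,1,0,0,3,2]) (Tr.leaf []))) (Tr.node (Tr.node (Tr.leaf [2,3,2,3,2,3,2,3]) (Tr.leaf [])) (Tr.node (Tr.leaf [3,2,1,0,3,2,1,0,3,2,1,0]) (Tr.leaf [])))))))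

/-- The witnesses of the rotations. -/
noncomputable def witT : Tr (Nat × Nat × Bool) := (Tr.node (Tr.node (Tr.node (Tr.node (Tr.node (Tr.node (Tr.leaf (0,0,false)) (Tr.leaf (4,3,false))) (Tr.node (Tr.leaf (2,5,true)) (Tr.leaf (0,0,false)))) (Tr.node (Tr.node (Tr.leaf (1,4,true)) (Tr.leaf (4,9,true))) (Tr.node (Tr.leaf (3,0,true)) (Tr.leaf (0,0,false))))) (Tr.node (Tr.node (Tr.node (Tr.leaf (1,2,false)) (Tr.leaf (4,2,true))) (Tr.node (Tr.leaf (3,2,false)) (Tr.leaf (0,0,false)))) (Tr.node (Tr.node (Tr.leaf (2,4,false)) (Tr.leaf (5,2,false))) (Tr.node (Tr.leaf (3,4,true)) (Tr.leaf (0,0,false)))))) (Tr.node (Tr.node (Tr.node (Tr.node (Tr.leaf (0,1,true)) (Tr.leaf (4,8,false))) (Tr.node (Tr.leaf (3,0,false)) (Tr.leaf (0,0,false)))) (Tr.node (Tr.node (Tr.leaf (2,1,false)) (Tr.leaf (5,0,false))) (Tr.node (Tr.leaf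 (3,2,true)) (Tr.leaf (0,0,false))))) (Tr.node (Tr.node (Tr.node (Tr.leaf (1,1,true)) (Tr.leaf (4,7,true))) (Tr.node (Tr.leaf (3,4,false)) (Tr.leaf (0,0,false)))) (Tr.node (Tr.node (Tr.leaf (2,1,true)) (Tr.leaf (0,0,false))) (Tr.node (Tr.leaf (4,1,false)) (Tr.leaf (0,0,false))))))) (Tr.node (Tr.node (Tr.node (Tr.node (Tr.node (Tr.leaf (0,1,false)) (Tr.leaf (4,6,false))) (Tr.node (Tr.leaf (2,7,true)) (Tr.leaf (0,0,false)))) (Tr.node (Tr.node (Tr.leaf (2,0,false)) (Tr.leaf (4,11,true))) (Tr.node (Tr.leaf (3,1,true)) (Tr.leaf (0,0,false))))) (Tr.node (Tr.node (Tr.node (Tr.leaf (1,4,false)) (Tr.leaf (4,4,true))) (Tr.node (Tr.leaf (3,3,false)) (Tr.leaf (0,0,false)))) (Tr.node (Tr.node (Tr.leaf (2,6,false)) (Tr.leaf (5,3,false))) (Tr.node (Tr.leaf (3,5,true)) (Tr.leaf (0,0,false)))))) (Tr.node (Tr.node (Tr.node (Tr.node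 (Tr.leaf (1,1,false)) (Tr.leaf (4,0,true))) (Tr.node (Tr.leaf (3,1,false)) (Tr.leaf (0,0,false)))) (Tr.node (Tr.node (Tr.leaf (2,2,false)) (Tr.leaf (5,1,false))) (Tr.node (Tr.leaf (3,3,true)) (Tr.leaf (0,0,false))))) (Tr.node (Tr.node (Tr.node (Tr.leaf (1,3,true)) (Tr.leaf (4,8,true))) (Tr.node (Tr.leaf (3,5,false)) (Tr.leaf (0,0,false)))) (Tr.node (Tr.node (Tr.leaf (2,2,true)) (Tr.leaf (0,0,false))) (Tr.node (Tr.leaf (4,2,false)) (Tr.leaf (0,0,false))))))))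

/-- The subgroup rotations. -/
noncomputable def srotT : Tr (List Nat × Nat × List Nat) := (Tr.leaf ([],0,[]))

/-- The certificate. -/
noncomputable def cert : Cert :=
  mkCert 4 500 1965 2 46 46 6 63 167 29 116 156 536870911 1099511627775 11 9 2047 511 20 18 3 ctree.get rotT.get srotT.get

/-- The letters. -/
def ls : List Nat := [0,1,5,6]

/-- The letters of the next stage. -/
def ls' : List Nat := []

/-- The inverses. -/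
def inv' (c : Nat) : Nat := [2,3,0,1].getD c 0

/-- The relators. -/
def rels' : List (List Nat) :=
  [[0,0,0,0,0,0,0,0],
   [1,1,1,1,1],
   [1,0,1,0,1,0,1,0],
   [1,0,0,3,2,2],
   [1,0,3,2,1,0,3,2,1,0,3,2]]

/-- The subgroup. -/
def subs' : List (List Nat) := []

end Cfsg.Agent.Lib.DCE.Ly.H.S2Tab
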