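import Cfsg.Agent.Lib.DCE.Ly.H.S1
import Cfsg.Agent.Lib.DCE.Ly.H.S2
import Cfsg.Agent.Lib.DCE.Ly.H.QOk
import Cfsg.Agent.Lib.DCE.Ly.H.Lev
import Cfsg.Agent.Lib.TC.Iso
import Cfsg.Agent.Lib.DCE.MatP
import Cfsg.Agent.Lib.Lie.AxOf
import Cfsg.Agent.Lib.ChevX.Reach
import Cfsg.Agent.S1059
import Cfsg.Agent.S1055

/-! The presented group on the letters `a, b, c, d, e` of the Lyons group and `G₂(5)`. -/

namespace Cfsg.Agent.Lib.DCE.Ly.H.Tgt

open Cfsg.Agent.Lib.TC.Core Cfsg.Agent.Lib.TC.Pres Cfsg.Agent.Lib.TC.Main Cfsg.Agent.Lib.TC.Chain
  Cfsg.Agent.Lib.TC.Iso Cfsg.Agent.Lib.DCE.Ly.H.Rels Cfsg.Lie Cfsg.Agent.Lib.Chev.AxBasic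
open scoped Matrix MatrixGroups

set_option maxRecDepth 100000

/-- The prime. -/
instance fact5 : Fact (Nat.Prime 5) := ⟨by norm_num⟩

/-- The field. -/
abbrev F5 := ZMod 5

/-- The coordinates. -/
abbrev ι := chevG2.Idx

/-- The number of a coordinate. -/
def idx : ι → Nat
  | .inl i => i.val
  | .inr i => 2 + i.val

/-- The identification of the coordinates. -/
def eI : ι ≃ Fin 14 := finSumFinEquiv

/-- The rows of the matrices of the letters. -/
def rows14 : List (List Nat) :=
  [[22300745198530860826023261065661142138093571,65536,8589934592,5192296863370567801321585377280000,15576890575604556673130733779288064,5192296859743753448708075457347584,66902235595592107109094697610957865150054402,10384593721905376982826533020237824,12554490815148775520524553422370362201746420851896483840000,66902235595592027880932183346620271605972993,6277101738309684038837877626535974544998296091207667810304,18831592549073954647029439927374343785132493276704585809920,6277293300252292275966019520677183724036372255893245394944,1234128417990904531616226886918012878737051899225184897511456768],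
   [44601490397061246283071436545296723011960833,65536,4294967296,15576890579231278791460925198041088,20769187435348254780480688201138176,15576890576813408705206118162366464,22300745198530702369698232536985955050061825,5192296858534827628530496329220096,12554395034177471401450058924918349917032320858406042730496,22300745198530623141535718272648361505980416,6277484860733398873381281928168138826114543148900512956416,18831400987131346409561015666312196142631042504587240013824,6277101735386680763835789423207666416102355444464034512896,411376139330301510538742295639337626245683966408394965837152256],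
   [1208944266358707179225089,20769187437766161759942167679270912,4294967296,281479271677952,18446744090889420800,1208925819614642059608064,79229371495425028885957312512,5192296858534827628530496329220096,340303136346060717131034637195498618882,22300745219299810580510732065228867816652800,1461590840311702233072337672931267607104621641729,95780971348719544065227122914105089482333990059769858,6277101735386703064580998338424527439327524383085138280448,411401248024587432720390621049584805872701642904279687433945089],
   [262145,262144,411376139330301510538742295639337626245683966408394965837152256,680564733841876926926749214863536422912,2923003274661805836407369665432566039311865085952,287342913912354160942190067590682971928513585409425408,79228162514264337593543950336,18831305206160042291507368269622999248307066333392103538688,562949953421312,22300745198530623141535718272648361505980416,36893488147419103232,3626777458843887524118528,15576890575604482885591488987660288,4294967296],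
   [89202980799314789424677719165868033242628099,22300745203722920003697323360022745359450114,15576890575604482885591488987660288,25108406941546767656833565138670668223352863364834452832256,44601490402253543146441967452285748924907520,15576890580440186164050009981452288,25108598503489331291450473255396498428126506932978145296386,8589934592,1234140972481724064941259533458168095630619398703435031509204995,10384593719487562236522480726441984,25108790071278035279862173844240651597671125775193108250626,66902235595592107111512586144238233756893186,15576890578022352972690720953466880,6277484863656424449468856221416614860533630510459896659972],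
   [22300745198530860826023261065661142138093571,65536,12884901888,10384593720696506503162649997475840,5192296858534882969888617364717568,10384593719487506897416150914695168,66902235595592107109094697610957865150054402,20769187437766124867579920166944768,6277484863656402148723652498417385418473858403075914465280,66902235595592027880932183346620271605972993,18831305207621543929859118288589499471413473175343340716032,25108790065431939528238312013429330168632075677500220375040,18831400988592848047572483318357757902274074739106708979712,822752278660603021077484591278675252491367932816789931674304512],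
   [66902235595591869424607154817945084517941249,65536,4294967296,10384593720696506503162649997475840,20769187438975032239324575725256704,10384593718278581076675621833146368,22300745198530702369698232536985955050127364,5192296858534827628530496329220096,18831496773948657077278557102737070831283525361837874872320,22300745198530623141535718272648361505980416,6277197517819486519220339738100548143142614635315103531008,12554299251744665645725226243104529726528687060123205500928,6277101735386680763835789423207666416102355444464034512896,411376139330301510538742295639337626245683966408394965837152256],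
   [4835777065434815831998465,5192296860952697714503828388249600,4294967296,281492156579840,18446744078004518912,1208925819614637764640768,79232998254436847224795168768,5192296858534827628530496329220096,340303136266832554616770299597659766787,22300745203722920001279471720793491304873984,1461523938076106641440597553319242674796440387588,95780971371020289263757746055640807754982347270782979,6277101735386769966816593930293952046482342328173951188992,411382416623604685878893052747865401593218821138159197996843009],
   [262145,262144,411376139330301510538742295639337626245683966408394965837152256,1020847100762815390390123822295304634368,4384504911992708754611054498148849058967797628928,191561942608236107294793378393788647952342390272950272,79228162514264337593543950336,12554203470773361527671578846415332832204710888928069025792,844424930131968,22300745198530623141535718272648361505980416,55340232221128654848,2417851639229258349412352,10384593717069655257060992658440192,4294967296],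
   [89202980799314789424677719165868033242628099,22300745203722920003697323360022745359450114,15576890575604482885591488987660288,25108406941546767656833565138670668223352863364834452832256,44601490402253543146441967452285748924907520,15576890580440186164050009981452288,25108598503489331291450473255396498428126506932978145296386,8589934592,1234140972481724064941259533458168095630619398703435031509204995,10384593719487562236522480726441984,25108790071278035279862173844240651597671125775193108250626,66902235595592107111512586144238233756893186,15576890578022352972690720953466880,6277484863656424449468856221416614860533630510459896659972]]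

/-- The words of the letters in the root elements. -/
def wds : List (List (Nat × F5)) :=
  [[(7,1),(4,1),(6,2),(5,2),(6,2),(6,4),(5,1),(6,4),(6,2),(5,2),(6,2),(6,4),(5,1),(6,4),(6,2),(5,2),(6,2),(6,4),(5,1),(6,4)],
   [(4,1),(4,1),(4,1)],
   [(6,4),(8,1),(9,3),(11,3)],
   [(11,4),(0,1),(11,4),(7,1),(7,1),(4,1),(6,2),(5,2),(6,2),(6,4),(5,1),(6,4),(4,1),(6,2),(5,2),(6,2),(6,4),(5,1),(6,4),(7,1),(4,1)],
   [(10,4),(1,1),(8,4),(9,2),(10,4),(11,1),(7,1),(7,1),(4,1),(7,1),(4,1),(6,2),(5,2),(6,2),(6,4),(5,1),(6,4)],
   [(6,1),(5,4),(6,1),(6,3),(5,3),(6,3),(6,1),(5,4),(6,1),(6,3),(5,3),(6,3),(6,1),(5,4),(6,1),(6,3),(5,3),(6,3),(4,4),(7,4)],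
   [(4,4),(4,4),(4,4)],
   [(11,2),(9,2),(8,4),(6,1)],
   [(4,4),(7,4),(6,1),(5,4),(6,1),(6,3),(5,3),(6,3),(4,4),(6,1),(5,4),(6,1),(6,3),(5,3),(6,3),(4,4),(7,4),(7,4),(11,1),(0,4),(11,1)],
   [(6,1),(5,4),(6,1),(6,3),(5,3),(6,3),(4,4),(7,4),(4,4),(7,4),(7,4),(11,4),(10,1),(9,3),(8,1),(1,4),(10,1)]]

/-- The matrix of a letter. -/
def M (c : Nat) : Matrix ι ι F5 := (Cfsg.Agent.Lib.DCE.MatP.toM 5 14 (rows14.getD c [])).submatrix eI eI

/-- The axioms of the type `G₂` over the concrete field. -/
theorem ax : Ax chevG2 F5 := Cfsg.Agent.Lib.Lie.AxOf.ax_of_mem (by simp)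

/-- The product of root elements along a word. -/
noncomputable def gW : List (Nat × F5) → GL ι F5
  | [] => 1
  | p :: l => xG ax p.1 p.2 * gW l

/-- The matrix product along a word. -/
def mW : List (Nat × F5) → Matrix ι ι F5
  | [] => 1
  | p :: l => chevG2.x F5 p.1 p.2 * mW l

theorem gW_val (l : List (Nat × F5)) : (gW l : Matrix ι ι F5) = mW l := by
  induction l with
  | nil => rfl
  | cons p l ih =>
    rw [gW, mW, Units.val_mul, ih]
    rfl

theorem gW_mem (l : List (Nat × F5)) (hl : ∀ p ∈ l, p.1 < 12) : gW l ∈ chevG2.group F5 := by
  induction l with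
  | nil => exact Subgroup.one_mem _
  | cons p l ih =>
    refine Subgroup.mul_mem _ ?_ (ih fun q hq => hl q (by simp [hq]))
    exact Cfsg.Agent.Lib.ChevX.Reach.xG_mem_group ax (hl p (by simp)) _

theorem wds_lt : ∀ l ∈ wds, ∀ p ∈ l, p.1 < 12 := by decide

theorem word_val : ∀ c, c < 10 → mW (wds.getD c []) = M c := by decide +kernel

/-- A letter in the Chevalley group. -/
noncomputable def tau (c : Nat) : ↥(chevG2.group F5) :=
  if h : c < 10 then
    ⟨gW (wds.getD c []), gW_mem _ (wds_lt _ (by
      rw [List.getD_eq_getElem _ _ (by change c < 10; exact h)]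
      exact List.getElem_mem _))⟩
  else 1

theorem tau_val {c : Nat} (h : c < 10) :
    (((tau c : ↥(chevG2.group F5)) : GL ι F5) : Matrix ι ι F5) = M c := by
  rw [tau, dif_pos h]
  change (gW _ : Matrix ι ι F5) = _
  rw [gW_val, word_val c h]

/-- The product of matrices along a word. -/
def prodMat : List Nat → Matrix ι ι F5
  | [] => 1
  | z :: l => prodMat l * M z

theorem prodA_val (l : List Nat) (hl : ∀ z ∈ l, z < 10) :
    (((prodA tau l : ↥(chevG2.group F5)) : GL ι F5) : Matrix ι ι F5) = prodMat l := by
  induction l with
  | nil => rfl
  | cons z l ih =>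
    rw [prodA_cons, prodMat, ← ih (fun y hy => hl y (by simp [hy])), ← tau_val (hl z (by simp))]
    rfl

theorem prodMat_eq (l : List Nat) :
    prodMat l = ((l.reverse.map (Cfsg.Agent.Lib.DCE.MatP.lettM 5 14 rows14)).prod).submatrix eI eI := by
  induction l with
  | nil => simp [prodMat, Matrix.submatrix_one_equiv]
  | cons z l ih =>
    rw [prodMat, ih, List.reverse_cons, List.map_append, List.prod_append, List.map_cons, List.map_nil,
      List.prod_cons, List.prod_nil, mul_one]
    exact Matrix.submatrix_mul_equiv _ _ eI eI eI

theorem rows14_good : Cfsg.Agent.Lib.DCE.MatP.goodT 5 14 rows14 = true := by decide +kernel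

theorem prodMat_of_check (l : List Nat) (h : Cfsg.Agent.Lib.DCE.MatP.checkW 5 14 rows14 l.reverse = true) :
    prodMat l = 1 := by
  rw [prodMat_eq, Cfsg.Agent.Lib.DCE.MatP.prod_of_checkW 5 14 (by norm_num) (by norm_num) (by norm_num)
    rows14 rows14_good _ h, Matrix.submatrix_one_equiv]

theorem relChk : ∀ l ∈ rels, Cfsg.Agent.Lib.DCE.MatP.checkW 5 14 rows14 l.reverse = true := by decide +kernel

theorem relMat : ∀ l ∈ rels, prodMat l = 1 := fun l hl => prodMat_of_check l (relChk l hl)

theorem invChk : ∀ c ∈ List.range 10,
    Cfsg.Agent.Lib.DCE.MatP.checkW 5 14 rows14 [c, Cfsg.Agent.Lib.DCE.Pres.invC 5 c] = true := by decide +kernel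

theorem invMat : ∀ c, c < 10 → M c * M (Cfsg.Agent.Lib.DCE.Pres.invC 5 c) = 1 := by
  intro c hc
  have h := prodMat_of_check [Cfsg.Agent.Lib.DCE.Pres.invC 5 c, c] (invChk c (List.mem_range.2 hc))
  simpa [prodMat] using h

theorem tau_rel : ∀ l ∈ rels, prodA tau l = 1 := by
  intro l hl
  apply Subtype.ext
  apply Units.ext
  rw [prodA_val l (hk l hl), relMat l hl]
  rfl

theorem tau_inv : ∀ c, c < 10 → tau (Cfsg.Agent.Lib.DCE.Pres.invC 5 c) = (tau c)⁻¹ := by
  intro c hc
  apply eq_inv_of_mul_eq_one_right
  apply Subtype.ext
  apply Units.ext
  have hc2 : Cfsg.Agent.Lib.DCE.Pres.invC 5 c < 10 := by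
    have := (Cfsg.Agent.Lib.DCE.Pres.valid 5 rels).inv_lt c hc
    exact this
  show (((tau c : ↥(chevG2.group F5)) : GL ι F5) : Matrix ι ι F5) * (((tau (Cfsg.Agent.Lib.DCE.Pres.invC 5 c) : ↥(chevG2.group F5)) : GL ι F5) : Matrix ι ι F5) = 1
  rw [tau_val hc, tau_val hc2, invMat c hc]

theorem exists_psi : ∃ ψ : PresentedGroup Rel →* ↥(chevG2.group F5),
    ∀ c, c < 10 → ψ (K.E Rel c) = tau c :=
  Cfsg.Agent.Lib.DCE.Pres.exists_hom 5 rels hk tau tau_inv tau_rel

/-- The words of the root elements of the fundamental roots and their negatives. -/
def rootW : Nat → List Nat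
  | 7 => [1,1,5,1,0,6,6]
  | 6 => [1,1,7,6,6,1,2,6,6,7,1,2]
  | 4 => [1,1]
  | 5 => [6,5,1,0,6,0,0,7,5,6,7,1,6,6,2,1,1,4,0,2,6,6]
  | _ => []

theorem rootW_val : ∀ r ∈ [7, 6, 4, 5], prodMat (rootW r) = chevG2.x F5 r 1 := by decide +kernel

theorem rootW_lt : ∀ r ∈ [7, 6, 4, 5], ∀ z ∈ rootW r, z < 10 := by decide +kernel

theorem x_pow (r : Nat) (t : F5) : xG ax r t = (xG ax r 1) ^ t.val := by
  have key : ∀ n : Nat, (xG ax r 1) ^ n = xG ax r ((n : Nat) : F5) := by
    intro n
    induction n with
    | zero => simp
    | succ n ih =>
      rw [pow_succ, ih, xG_add]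
      push_cast
      rfl
  rw [key, ZMod.natCast_zmod_val]

theorem card_T : Nat.card ↥(chevG2.group F5) = 5859000000 := by
  have hc : Fintype.card F5 = 5 := ZMod.card 5
  have h := Cfsg.Agent.S1059.result (F := F5) (q := 5) hc
  rw [h]
  norm_num

/-- The bound for the order. -/
theorem bound : Nat.card (PresentedGroup Rel) ≠ 0 ∧ Nat.card (PresentedGroup Rel) ≤ 5859000000 := by
  have b0 := bound_nil (K.E Rel)
  have h0 : Lt (K.E Rel) Cfsg.Agent.Lib.DCE.Ly.H.S2Tab.ls' = Lt (K.E Rel) [] := rfl
  rw [← h0] at b0
  have b1 := bound_up Cfsg.Agent.Lib.DCE.Ly.H.S2.stage b0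
  have b2 := bound_up Cfsg.Agent.Lib.DCE.Ly.H.S1.stage b1
  have b3 := bound_up Cfsg.Agent.Lib.DCE.Ly.H.QOk.stage b2
  have b := bound_top valid _ (by decide +kernel) b3
  exact ⟨b.1, le_trans b.2 (by norm_num)⟩

theorem psi_surj (ψ : PresentedGroup Rel →* ↥(chevG2.group F5))
    (hψ : ∀ c, c < 10 → ψ (K.E Rel c) = tau c) : Function.Surjective ψ := by
  have hw : ∀ l, (∀ z ∈ l, z < 10) → ψ (prodA (K.E Rel) l) = prodA tau l :=
    fun l hl => hom_prodA ψ tau hψ l hl
  let R : Subgroup (GL ι F5) := (ψ.range).map (chevG2.group F5).subtype
  have hroot : ∀ r ∈ [7, 6, 4, 5], ∀ t : F5, xG ax r t ∈ R := by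
    intro r hr t
    rw [x_pow]
    apply Subgroup.pow_mem
    refine ⟨_, ⟨prodA (K.E Rel) (rootW r), rfl⟩, ?_⟩
    apply Units.ext
    rw [hw _ (rootW_lt r hr)]
    change (((prodA tau (rootW r) : ↥(chevG2.group F5)) : GL ι F5) : Matrix ι ι F5) = _
    rw [prodA_val _ (rootW_lt r hr), rootW_val r hr]
    rfl
  have hD : Cfsg.Agent.Lib.Lie.Facts.IsData chevG2 := by
    simp [Cfsg.Agent.Lib.Lie.Facts.IsData]
  have hle : chevG2.group F5 ≤ R := by
    apply Cfsg.Agent.Lib.ChevX.Reach.group_le hD ax
    · intro i hi t
      have hi' : i < 2 := hi
      interval_cases i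
      · exact hroot 7 (by simp) t
      · exact hroot 6 (by simp) t
    · intro i hi t
      have hi' : i < 2 := hi
      interval_cases i
      · exact hroot 4 (by simp) t
      · exact hroot 5 (by simp) t
  intro y
  obtain ⟨g, ⟨x, rfl⟩, hg⟩ := hle y.2
  exact ⟨x, Subtype.ext hg⟩

/-- The presented group is `G₂(5)`. -/
theorem equiv_T : ∃ e : PresentedGroup Rel ≃* ↥(chevG2.group F5), ∀ c, c < 10 → e (K.E Rel c) = tau c := by
  obtain ⟨ψ, hψ⟩ := exists_psi
  have hs := psi_surj ψ hψ
  have hfin : Finite (PresentedGroup Rel) := Nat.finite_of_card_ne_zero bound.1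
  have hle : Nat.card ↥(chevG2.group F5) ≤ Nat.card (PresentedGroup Rel) :=
    Nat.card_le_card_of_surjective _ hs
  have hc : Nat.card (PresentedGroup Rel) = Nat.card ↥(chevG2.group F5) := by
    rw [card_T] at hle ⊢
    exact le_antisymm bound.2 hle
  exact ⟨MulEquiv.ofBijective ψ ((Nat.bijective_iff_surjective_and_card ψ).2 ⟨hs, hc⟩), hψ⟩

/-- The order of the presented group. -/
theorem card_Q : Nat.card (PresentedGroup Rel) = 5859000000 := by
  obtain ⟨e, _⟩ := equiv_T
  rw [Nat.card_congr e.toEquiv, card_T]

/-- The presented group is simple. -/
theorem simple_Q : IsSimpleGroup (PresentedGroup Rel) := by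
  obtain ⟨e, _⟩ := equiv_T
  have h := (Cfsg.Agent.S1055.result (F := F5) ⟨2, by decide, by decide⟩).1
  exact e.isSimpleGroup

end Cfsg.Agent.Lib.DCE.Ly.H.Tgt
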